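import Cfsg.Agent.Lib.LK.Def

set_option autoImplicit false

namespace Cfsg.Lib.LK

open Subgroup Cfsg.Lib.Transfer
open scoped commutatorElement

variable {p : ℕ} {G Ω D : Type*} [Group G] [MulAction G Ω] [AddCommGroup D] [DistribMulAction G D]
  {f : Fr p G Ω} {N O M N' O' : Subgroup G → AddSubgroup D} {Q : Subgroup G → Prop} {k : ℕ}

theorem fam_fx : Fam f (fx D) :=
  ⟨fun _ _ _ _ h => fx_anti h, fun _ _ g _ _ hv => smul_mem_fx g hv⟩
theorem fam_Z0 : Fam f (Z0 G D) :=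
  ⟨fun _ _ _ _ _ => le_rfl, fun _ _ g _ v hv => by
    have : v = 0 := hv
    subst this; exact AddSubgroup.mem_bot.2 (smul_zero g)⟩
theorem fam_Tp : Fam f (Tp G D) :=
  ⟨fun _ _ _ _ _ => le_rfl, fun _ _ _ _ _ _ => AddSubgroup.mem_top _⟩
theorem Up.cj_iff (h : Up f Q) {P : Subgroup G} (hP : f.Ob P) {g : G} (hg : g ∈ f.H) :
    Q (g ⋆ P) ↔ Q P :=
  ⟨fun a => by simpa only [inv_conj_conj] using h.cj _ (hP.conj hg) _ (inv_mem hg) a,
    h.cj P hP g hg⟩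
/-- for `eqv` use `hQ.cj` with `g⁻¹` as well -/
theorem fam_ite' (hQ : Up f Q) (hO : Fam f O) (hN : Fam f N) (hle : Le f O N) :
    Fam f (ite' Q O N) := by
  refine ⟨fun P R hP hR h => ?_, fun P hP g hg v hv => ?_⟩
  · by_cases a : Q P
    · rw [ite'_pos a, ite'_pos (hQ.up P R hP hR h a)]; exact hO.anti P R hP hR h
    · rw [ite'_neg a]
      by_cases b : Q R
      · rw [ite'_pos b]; exact (hle R hR).trans (hN.anti P R hP hR h)
      · rw [ite'_neg b]; exact hN.anti P R hP hR h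
  · by_cases a : Q P
    · rw [ite'_pos a] at hv
      rw [ite'_pos (hQ.cj P hP g hg a)]; exact hO.eqv P hP g hg v hv
    · rw [ite'_neg a] at hv
      rw [ite'_neg (fun b => a ((hQ.cj_iff hP hg).1 b))]; exact hN.eqv P hP g hg v hv
theorem le_Z0 : Le f (Z0 G D) N := fun _ _ => bot_le
theorem fam_Rf (hQ : Up f Q) : Fam f (Rf D Q) := fam_ite' hQ fam_Z0 fam_fx le_Z0
theorem le_ite' (Q : Subgroup G → Prop) (hle : Le f O N) :
    Le f O (ite' Q O N) ∧ Le f (ite' Q O N) N := by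
  refine ⟨fun P hP => ?_, fun P hP => ?_⟩
  · by_cases a : Q P
    · rw [ite'_pos a]
    · rw [ite'_neg a]; exact hle P hP
  · by_cases a : Q P
    · rw [ite'_pos a]; exact hle P hP
    · rw [ite'_neg a]
theorem Sys.mid (h : Sys f N O) (hM : Fam f M) (h1 : Le f O M) (h2 : Le f M N) :
    Sys f N M ∧ Sys f M O :=
  ⟨⟨h.fN, hM, h2, fun P hP g hg v hv => h1 P hP (h.triv P hP g hg v hv)⟩,
    ⟨hM, h.fO, h1, fun P hP g hg v hv => h.triv P hP g hg v (h2 P hP hv)⟩⟩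
theorem sys_fx : Sys f (fx D) (Z0 G D) :=
  ⟨fam_fx, fam_Z0, le_Z0, fun _ _ g hg _ hv => AddSubgroup.mem_bot.2 (sub_eq_zero.2 (hv g hg))⟩
theorem sys_Rf (hQ : Up f Q) : Sys f (fx D) (Rf D Q) ∧ Sys f (Rf D Q) (Z0 G D) :=
  sys_fx.mid (fam_Rf hQ) le_Z0 (le_ite' Q le_Z0).2
theorem sys_Rf_Rf {Q' : Subgroup G → Prop} (hQ : Up f Q) (hQ' : Up f Q')
    (h : ∀ P, f.Ob P → Q P → Q' P) : Sys f (Rf D Q) (Rf D Q') := by
  refine ((sys_Rf hQ).2.mid (fam_Rf hQ') le_Z0 fun P hP => ?_).1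
  by_cases a : Q' P
  · rw [Rf, ite'_pos a]; exact bot_le
  · rw [Rf, Rf, ite'_neg a, ite'_neg fun b => a (h P hP b)]
theorem Fam.loc [Fact p.Prime] (h : Fam f M) {X : Subgroup G} (hX : f.Ob X) :
    Fam (f.loc X hX) M :=
  ⟨fun P R hP hR a => h.anti P R (Fr.Ob.of_loc hP) (Fr.Ob.of_loc hR) a,
    fun P hP g hg v hv => h.eqv P (Fr.Ob.of_loc hP) g hg.1 v hv⟩
theorem Sys.loc [Fact p.Prime] (h : Sys f N O) {X : Subgroup G} (hX : f.Ob X) :
    Sys (f.loc X hX) N O :=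
  ⟨h.fN.loc hX, h.fO.loc hX, fun P hP => h.le P (Fr.Ob.of_loc hP), fun P hP => h.triv P (Fr.Ob.of_loc hP)⟩
theorem Up.loc [Fact p.Prime] (h : Up f Q) {X : Subgroup G} (hX : f.Ob X) :
    Up (f.loc X hX) Q :=
  ⟨fun P R hP hR => h.up P R (Fr.Ob.of_loc hP) (Fr.Ob.of_loc hR), fun P hP g hg => h.cj P (Fr.Ob.of_loc hP) g hg.1⟩
theorem Up.or {Q' : Subgroup G → Prop} (h : Up f Q) (h' : Up f Q') :
    Up f (fun P => Q P ∨ Q' P) :=
  ⟨fun P R hP hR a b => b.imp (h.up P R hP hR a) (h'.up P R hP hR a),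
    fun P hP g hg b => b.imp (h.cj P hP g hg) (h'.cj P hP g hg)⟩
theorem conj_Y {g : G} (hg : g ∈ f.H) : g ⋆ f.Y = f.Y := conj_eq_self_iff.2 (f.Yn hg)
theorem up_ne_Y : Up f (fun P => P ≠ f.Y) := by
  refine ⟨fun P R hP _ a b c => b (le_antisymm (c ▸ a) hP.1), fun P _ g hg b c => b ?_⟩
  rw [← conj_Y hg] at c
  exact conj_inj.1 c
theorem up_J {𝒜 : Set (Subgroup G)} (h : Inv f.H 𝒜) : Up f (fun P => ¬ J 𝒜 P ≤ f.Y) := by
  refine ⟨fun P R _ _ a b c => b ((J_mono 𝒜 a).trans c), fun P _ g hg b c => b ?_⟩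
  rw [J_conj h hg, ← conj_Y hg] at c
  exact conj_le_conj_iff.1 c
theorem Cl.up_ne [Fact p.Prime] {j : Subgroup G → Subgroup G} (h : Cl f j) {X : Subgroup G}
    (hX : f.Ob X) (hj : j X = X) : Up (f.loc X hX) (fun P => j P ≠ X) := by
  refine ⟨fun P R hP hR a b c => b (le_antisymm (c ▸ h.mono P R (Fr.Ob.of_loc hP) (Fr.Ob.of_loc hR) a) ?_),
    fun P hP g hg b c => b ?_⟩
  · exact hj.symm.le.trans (h.mono X P hX (Fr.Ob.of_loc hP) hP.1)
  · rw [h.cj P (Fr.Ob.of_loc hP) g hg.1, ← conj_eq_self_iff.2 hg.2] at c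
    exact conj_inj.1 c
theorem cl_id : Cl f (fun P => P) :=
  ⟨fun _ _ => le_rfl, fun _ h => h.1, fun _ _ _ _ h => h, fun _ _ => rfl, fun _ _ _ _ => rfl⟩
theorem J_J (𝒜 : Set (Subgroup G)) {P R : Subgroup G} (h1 : J 𝒜 P ≤ R) (h2 : R ≤ P) :
    J 𝒜 R = J 𝒜 P :=
  le_antisymm (J_mono 𝒜 h2) (J_le_iff.2 fun _ hB hle => le_J hB ((le_J hB hle).trans h1))
theorem cl_J {𝒜 : Set (Subgroup G)} (h : Inv f.H 𝒜) : Cl f (fun P => J 𝒜 P ⊔ f.Y) :=
  ⟨fun P hP => sup_le (J_le 𝒜 P) hP.1, fun _ _ => le_sup_right,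
    fun _ _ _ _ a => sup_le_sup_right (J_mono 𝒜 a) _,
    fun P hP => by rw [J_J 𝒜 le_sup_left (sup_le (J_le 𝒜 P) hP.1)],
    fun P _ g hg => by rw [J_conj h hg, conj_sup, conj_Y hg]⟩
theorem cl_J' {𝒜 : Set (Subgroup G)} (h : Inv f.H 𝒜) (hY : f.Y ∈ 𝒜 ∨ f.Y = ⊥) :
    Cl f (J 𝒜) :=
  ⟨fun P _ => J_le 𝒜 P, fun _ hP => hY.elim (fun a => le_J a hP.1) fun a => a.le.trans bot_le,
    fun _ _ _ _ a => J_mono 𝒜 a, fun P _ => J_J 𝒜 le_rfl (J_le 𝒜 P),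
    fun P _ _ hg => J_conj h hg P⟩
theorem cl_inf {U : Subgroup G} (hU : f.H ≤ normalizer (U : Set G)) (hY : f.Y ≤ U) :
    Cl f (fun P => P ⊓ U) :=
  ⟨fun _ _ => inf_le_left, fun _ hP => le_inf hP.1 hY, fun _ _ _ _ a => inf_le_inf_right _ a,
    fun _ _ => by rw [inf_assoc, inf_idem],
    fun P _ g hg => by rw [conj_inf, conj_eq_self_iff.2 (hU hg)]⟩
theorem exists_syl [Finite G] [Fact p.Prime] {X H : Subgroup G} (hX : IsPGroup p X) (h : X ≤ H) :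
    ∃ T, Syl p T H ∧ X ≤ T := by
  obtain ⟨T, h1, h2, h3, h4⟩ := exists_sylowIn_ge hX h
  exact ⟨T, ⟨h2, h3, h4⟩, h1⟩
theorem Syl.conj_le [Finite G] [Fact p.Prime] {T H X : Subgroup G} (h : Syl p T H)
    (hX : IsPGroup p X) (hH : X ≤ H) : ∃ g ∈ H, g ⋆ X ≤ T :=
  exists_conj_le_of_not_dvd_relIndex h.2.1 h.2.2 hX hH
/-- a Sylow subgroup of `H` contains the normal `p`-subgroup `Y` -/
theorem Syl.ob [Finite G] [Fact p.Prime] {T : Subgroup G} (h : Syl p T f.H) : f.Ob T := by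
  obtain ⟨g, hg, hle⟩ := h.conj_le (Fr.ob_Y (f := f)).2.2 f.Yle
  rw [conj_Y hg] at hle
  exact ⟨hle, h.1, h.2.1⟩
/-- a point fixed by a Sylow subgroup has it as its stabilizer -/
theorem Syl.exists_pt [Finite G] [Fact p.Prime] {T : Subgroup G} (h : Syl p T f.H) :
    ∃ x ∈ f.A, f.st [x] = T := by
  obtain ⟨x, hx, hf⟩ := f.exists_fix h.2.1 h.1
  have ho : f.Ob (f.st [x]) := Fr.ob_st (by simpa [Fr.In] using hx) (by simp)
  have hle : T ≤ f.st [x] := fun g hg => ⟨h.1 hg, by simpa using hf g hg⟩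
  exact ⟨x, hx, (eq_of_not_dvd_relIndex_of_le h.2.2 ho.2.2 ho.2.1 hle).symm⟩
/-- `Van` depends only on `H` and `A` -/
theorem Van.of_eq {f' : Fr p G Ω} (h : Van f N O k) (hH : f.H = f'.H) (hA : f.A = f'.A) :
    Van f' N O k := by
  have e1 : f'.st = f.st := by
    funext l; ext g; rw [Fr.mem_st, Fr.mem_st, hH]
  have e2 : f'.In = f.In := by
    funext l; rw [Fr.In, Fr.In, hA]
  unfold Van Eqv at h ⊢
  rw [e1, e2, ← hH]
  exact h
theorem Van.of_loc_Y [Fact p.Prime] (h : Van (f.loc f.Y Fr.ob_Y) N O k) : Van f N O k := by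
  refine h.of_eq (inf_eq_left.2 f.Yn) ?_
  ext x
  rw [Fr.loc_A, Fr.mem_fixA]
  exact ⟨fun a => a.1, fun a => ⟨a, f.Yfix x a⟩⟩
theorem Eqv.congr {n : ℕ} {c : List Ω → D} (h : Eqv f N O n c) (hn : 1 ≤ n)
    (hN : ∀ P, f.Ob P → N P = N' P) (hO : ∀ P, f.Ob P → O P = O' P) : Eqv f N' O' n c := by
  intro l hl e
  refine ⟨hN _ (Fr.ob_st' hl e hn) ▸ (h l hl e).1, fun g hg => ?_⟩
  rw [← hO _ (Fr.ob_st' (hl.act hg) (by rw [length_act, e]) hn)]
  exact (h l hl e).2 g hg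
theorem Van.congr (h : Van f N O k) (hk : 1 ≤ k) (hN : ∀ P, f.Ob P → N P = N' P)
    (hO : ∀ P, f.Ob P → O P = O' P) : Van f N' O' k := by
  intro c hc hd
  obtain ⟨b, hb, hcb⟩ := h c
    (hc.congr (by omega) (fun P a => (hN P a).symm) fun P a => (hO P a).symm)
    fun l hl e => by rw [hO _ (Fr.ob_st' hl e (by omega))]; exact hd l hl e
  refine ⟨b, hb.congr hk hN hO, fun l hl e => ?_⟩
  rw [← hO _ (Fr.ob_st' hl e (by omega))]
  exact hcb l hl e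
theorem d_zero (l : List Ω) : d (fun _ => (0 : D)) l = 0 :=
  AddSubgroup.mem_bot.1 (d_mem ⊥ _ l fun _ _ _ => AddSubgroup.zero_mem _)
/-- take `b = 0` -/
theorem van_of_le (h : Le f N O) : Van f N O k := by
  intro c hc _
  refine ⟨fun _ => 0, fun l _ _ => ⟨zero_mem _, fun g _ => by simp⟩, fun l hl e => ?_⟩
  rw [d_zero, sub_zero]
  exact h _ (Fr.ob_st' hl e (by omega)) (hc l hl e).1
open Classical in
theorem Eqv.cut {n : ℕ} {c : List Ω → D} (hc : Eqv f N O n c) (hn : 1 ≤ n) (hQ : Up f Q)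
    (h1 : ∀ P, f.Ob P → Q P → N P = N' P ∧ O P = O' P) :
    Eqv f N' O' n (fun l => if Q (f.st l) then c l else 0) := by
  intro l hl e
  have ho := Fr.ob_st' hl e hn
  by_cases a : Q (f.st l)
  · refine ⟨by simp only [if_pos a]; rw [← (h1 _ ho a).1]; exact (hc l hl e).1, fun g hg => ?_⟩
    have a' : Q (f.st (act g l)) := by rw [Fr.st_act l hg]; exact hQ.cj _ ho g hg a
    simp only [if_pos a, if_pos a']
    rw [← (h1 _ (Fr.ob_st' (hl.act hg) (by rw [length_act, e]) hn) a').2]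
    exact (hc l hl e).2 g hg
  · refine ⟨by simp only [if_neg a]; exact zero_mem _, fun g hg => ?_⟩
    have a' : ¬ Q (f.st (act g l)) := by rw [Fr.st_act l hg, hQ.cj_iff ho hg]; exact a
    simp only [if_neg a, if_neg a']
    simp
open Classical in
theorem d_cut {n : ℕ} (c : List Ω → D) (hn : 1 ≤ n) (hQ : Up f Q) {l : List Ω} (hl : f.In l)
    (e : l.length = n + 1) (a : Q (f.st l)) :
    d (fun l => if Q (f.st l) then c l else 0) l = d c l := by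
  refine sub_eq_zero.1 (AddSubgroup.mem_bot.1 (d_sub_mem ⊥ _ _ l fun m hm em => ?_))
  have : Q (f.st m) := hQ.up _ _ (Fr.ob_st' hl e (by omega))
    (Fr.ob_st' (hl.sub hm) (n := n) (by omega) hn) (Fr.st_sub hm) a
  simp only [if_pos this, sub_self, zero_mem]
theorem Eqv.d_mem_N (hN : Fam f N) {n : ℕ} (hn : 1 ≤ n) {c : List Ω → D} (hc : Eqv f N O n c)
    {l : List Ω} (hl : f.In l) (e : l.length = n + 1) : d c l ∈ N (f.st l) :=
  d_mem _ c l fun m hm em => hN.anti _ _ (Fr.ob_st' hl e (by omega))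
    (Fr.ob_st' (hl.sub hm) (n := n) (by omega) hn) (Fr.st_sub hm) (hc m (hl.sub hm) (by omega)).1
/-- both systems are trivial off `Q` and agree on `Q`: cut the cochains off outside `Q`
(faces of a list with stabilizer in `Q` have stabilizers in `Q`) -/
theorem Van.congr_up (h : Van f N O k) (hk : 1 ≤ k) (hQ : Up f Q) (hS : Sys f N O)
    (hS' : Sys f N' O') (h1 : ∀ P, f.Ob P → Q P → N P = N' P ∧ O P = O' P)
    (h2 : ∀ P, f.Ob P → ¬ Q P → N P ≤ O P ∧ N' P ≤ O' P) : Van f N' O' k := by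
  classical
  intro c hc hd
  have hc' := hc.cut (N' := N) (O' := O) (by omega) hQ
    fun P a b => ⟨(h1 P a b).1.symm, (h1 P a b).2.symm⟩
  obtain ⟨b, hb, hcb⟩ := h _ hc' fun l hl e => by
    have ho := Fr.ob_st' hl e (by omega)
    by_cases a : Q (f.st l)
    · rw [d_cut (n := k + 1) c (by omega) hQ hl e a, (h1 _ ho a).2]; exact hd l hl e
    · exact (h2 _ ho a).1 (hc'.d_mem_N hS.fN (by omega) hl e)
  have hb' := hb.cut hk hQ h1
  refine ⟨_, hb', fun l hl e => ?_⟩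
  have ho := Fr.ob_st' hl e (by omega)
  by_cases a : Q (f.st l)
  · have := hcb l hl e
    simp only [if_pos a] at this
    rw [d_cut b hk hQ hl e a, ← (h1 _ ho a).2]
    exact this
  · exact (h2 _ ho a).2 (sub_mem (hc l hl e).1 (hb'.d_mem_N hS'.fN hk hl e))

end Cfsg.Lib.LK
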