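import Cfsg.Agent.Lib.LK.Def2
import Cfsg.Agent.Lib.LK.Bas

set_option autoImplicit false

namespace Cfsg.Lib.LK

open Subgroup Cfsg.Lib.Transfer
open scoped commutatorElement

variable {p : ℕ} {G Ω : Type*} [Group G] [MulAction G Ω] {f : Fr p G Ω} {k : ℕ}
  {B : Type*} [AddCommGroup B] {ι : B → G}

variable {Z Z' A P P' : Subgroup G} {𝒰 : Subgroup G → Prop}

theorem am_mem_sN {x : G} (h : x ∈ Z) : am x ∈ sN Z := AddSubgroup.subset_closure ⟨x, h, rfl⟩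
theorem rel_mem_sO {x y : G} (hx : x ∈ Z) (hy : y ∈ Z) : am (x * y) - am x - am y ∈ sO Z :=
  AddSubgroup.subset_closure ⟨x, hx, y, hy, rfl⟩
theorem am_one_mem_sO : am (1 : G) ∈ sO Z := by
  have := (sO Z).neg_mem (rel_mem_sO (Z := Z) (one_mem _) (one_mem _))
  simpa using this
theorem sN_mono (h : Z ≤ Z') : sN Z ≤ sN Z' :=
  AddSubgroup.closure_mono (Set.image_mono h)
theorem sO_mono (h : Z ≤ Z') : sO Z ≤ sO Z' :=
  AddSubgroup.closure_mono fun _ ⟨x, hx, y, hy, e⟩ => ⟨x, h hx, y, h hy, e⟩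
theorem sO_le_sN : sO Z ≤ sN Z := by
  refine (AddSubgroup.closure_le _).2 ?_
  rintro _ ⟨x, hx, y, hy, rfl⟩
  exact sub_mem (sub_mem (am_mem_sN (mul_mem hx hy)) (am_mem_sN hx)) (am_mem_sN hy)
theorem smul_mem_sN (g : G) {v : Amb G} (h : v ∈ sN Z) : g • v ∈ sN (g ⋆ Z) := by
  induction h using AddSubgroup.closure_induction with
  | mem x hx =>
    obtain ⟨x, hx, rfl⟩ := hx
    rw [smul_am]; exact am_mem_sN (conj_mem_conj.2 hx)
  | zero => rw [smul_zero]; exact zero_mem _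
  | add x y _ _ hx hy => rw [smul_add]; exact add_mem hx hy
  | neg x _ hx => rw [smul_neg]; exact neg_mem hx
theorem smul_mem_sO (g : G) {v : Amb G} (h : v ∈ sO Z) : g • v ∈ sO (g ⋆ Z) := by
  induction h using AddSubgroup.closure_induction with
  | mem x hx =>
    obtain ⟨x, hx, y, hy, rfl⟩ := hx
    rw [smul_sub, smul_sub, smul_am, smul_am, smul_am]
    have e : g * (x * y) * g⁻¹ = g * x * g⁻¹ * (g * y * g⁻¹) := by group
    rw [e]
    exact rel_mem_sO (conj_mem_conj.2 hx) (conj_mem_conj.2 hy)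
  | zero => rw [smul_zero]; exact zero_mem _
  | add x y _ _ hx hy => rw [smul_add]; exact add_mem hx hy
  | neg x _ hx => rw [smul_neg]; exact neg_mem hx
theorem smul_eq_of_centralizer {g : G} (hg : ∀ z ∈ Z, g * z = z * g) {v : Amb G} (h : v ∈ sN Z) :
    g • v = v := by
  induction h using AddSubgroup.closure_induction with
  | mem x hx =>
    obtain ⟨x, hx, rfl⟩ := hx
    rw [smul_am, hg x hx, mul_inv_cancel_right]
  | zero => rw [smul_zero]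
  | add x y _ _ hx hy => rw [smul_add, hx, hy]
  | neg x _ hx => rw [smul_neg, hx]
/-- normal form -/
theorem sN_nf {v : Amb G} (h : v ∈ sN Z) : ∃ z ∈ Z, v - am z ∈ sO Z := by
  induction h using AddSubgroup.closure_induction with
  | mem x hx =>
    obtain ⟨x, hx, rfl⟩ := hx
    exact ⟨x, hx, by rw [sub_self]; exact zero_mem _⟩
  | zero => exact ⟨1, one_mem _, by rw [zero_sub]; exact neg_mem am_one_mem_sO⟩
  | add x y _ _ hx hy =>
    obtain ⟨a, ha, hx⟩ := hx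
    obtain ⟨b, hb, hy⟩ := hy
    refine ⟨a * b, mul_mem ha hb, ?_⟩
    have := sub_mem (add_mem hx hy) (rel_mem_sO ha hb)
    convert this using 1; abel
  | neg x _ hx =>
    obtain ⟨a, ha, hx⟩ := hx
    refine ⟨a⁻¹, inv_mem ha, ?_⟩
    have := sub_mem (add_mem (neg_mem hx) (rel_mem_sO ha (inv_mem ha))) (am_one_mem_sO (Z := Z))
    rw [mul_inv_cancel] at this
    convert this using 1; abel
theorem am_pow {z : G} (h : z ∈ Z) (n : ℕ) : am (z ^ n) - n • am z ∈ sO Z := by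
  induction n with
  | zero => simpa using am_one_mem_sO
  | succ n ih =>
    have := add_mem ih (rel_mem_sO (pow_mem h n) h)
    rw [pow_succ, succ_nsmul]
    convert this using 1; abel
theorem sN_tor [Finite G] [Fact p.Prime] (h : IsPGroup p Z) :
    ∃ e : ℕ, ∀ v ∈ sN Z, p ^ e • v ∈ sO Z := by
  obtain ⟨e, he⟩ := IsPGroup.iff_card.1 h
  refine ⟨e, fun v hv => ?_⟩
  obtain ⟨z, hz, hv⟩ := sN_nf hv
  have h1 : z ^ p ^ e = 1 := by
    have := pow_card_eq_one' (x := (⟨z, hz⟩ : Z))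
    rw [he] at this
    exact congrArg Subtype.val this
  have h2 := am_pow hz (p ^ e)
  rw [h1] at h2
  have := sub_mem (add_mem (nsmul_mem hv (p ^ e)) (am_one_mem_sO (Z := Z))) h2
  convert this using 1
  rw [nsmul_sub]; abel
theorem alift_sO {ψ : G → B} (h : ∀ x ∈ Z, ∀ y ∈ Z, ψ (x * y) = ψ x + ψ y) {v : Amb G}
    (hv : v ∈ sO Z) : alift ψ v = 0 := by
  have : sO Z ≤ (alift ψ).ker := by
    refine (AddSubgroup.closure_le _).2 ?_
    rintro _ ⟨x, hx, y, hy, rfl⟩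
    simp [h x hx y hy]
  exact this hv
theorem mem_Zc {z : G} : z ∈ Zc P ↔ z ∈ P ∧ ∀ x ∈ P, x * z = z * x := Iff.rfl
theorem Zc_conj (g : G) (P : Subgroup G) : Zc (g ⋆ P) = g ⋆ Zc P := by
  rw [Zc, Zc, conj_inf, conj_centralizer]
theorem Cen.bot (h : Cen p A P) : Cen p ⊥ P :=
  fun c hc hx => h c hc fun x hxP => bot_le (a := A) (hx x hxP)
theorem Cen.mono (h : Cen p A P) (hle : P ≤ P') : Cen p A P' :=
  fun c hc hx => hle (h c hc fun x hxP => hx x (hle hxP))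
theorem Cen.Zc_le (h : Cen p ⊥ P) (hle : P ≤ P') (hP' : IsPGroup p P') : Zc P' ≤ Zc P := by
  intro z hz
  obtain ⟨hz1, hz2⟩ := mem_Zc.1 hz
  refine mem_Zc.2 ⟨h z ?_ fun x hx => ?_, fun x hx => hz2 x (hle hx)⟩
  · obtain ⟨n, hn⟩ := hP' ⟨z, hz1⟩
    exact ⟨n, congrArg Subtype.val hn⟩
  · rw [mem_bot, commutatorElement_def, ← hz2 x (hle hx)]; group
theorem Cen.conj [hA : A.Normal] (h : Cen p A P) (g : G) : Cen p A (g ⋆ P) := by
  rintro c ⟨n, hn⟩ hx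
  refine mem_conj.2 (h _ ⟨n, ?_⟩ fun x hxP => ?_)
  · have : (g⁻¹ * c * g) ^ p ^ n = g⁻¹ * c ^ p ^ n * g := by
      simpa using conj_pow (a := g⁻¹) (b := c) (i := p ^ n)
    rw [this, hn]; simp
  · have := hA.conj_mem _ (hx _ (conj_mem_conj.2 hxP)) g⁻¹
    convert this using 1
    simp only [commutatorElement_def]; group
theorem up_Cen [A.Normal] : Up f (Cen p A) :=
  ⟨fun _ _ _ _ hle h => h.mono hle, fun _ _ g _ h => h.conj g⟩
theorem Up.cj' (hU : Up f 𝒰) (hP : f.Ob P) {g : G} (hg : g ∈ f.H) (h : 𝒰 (g ⋆ P)) : 𝒰 P := by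
  have := hU.cj _ (hP.conj hg) _ (inv_mem hg) h
  rwa [inv_conj_conj] at this
theorem fam_on {D : Type*} [AddCommGroup D] [DistribMulAction G D] {M : Subgroup G → AddSubgroup D}
    (hU : Up f 𝒰) (h1 : ∀ P Q, f.Ob P → f.Ob Q → P ≤ Q → 𝒰 P → M Q ≤ M P)
    (h2 : ∀ P, f.Ob P → 𝒰 P → ∀ g ∈ f.H, ∀ v ∈ M P, g • v ∈ M (g ⋆ P)) : Fam f (on 𝒰 M) := by
  refine ⟨fun P Q hP hQ hle => ?_, fun P hP g hg v hv => ?_⟩
  · by_cases hu : 𝒰 P
    · rw [on_pos hu, on_pos (hU.up P Q hP hQ hle hu)]; exact h1 P Q hP hQ hle hu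
    · rw [on_neg hu]; exact le_top
  · by_cases hu : 𝒰 (g ⋆ P)
    · have hu' := hU.cj' hP hg hu
      rw [on_pos hu'] at hv
      rw [on_pos hu]; exact h2 P hP hu' g hg v hv
    · rw [on_neg hu]; trivial
theorem le_on {D : Type*} [AddCommGroup D] {M M' : Subgroup G → AddSubgroup D}
    (h : ∀ P, f.Ob P → 𝒰 P → M P ≤ M' P) : ∀ P, f.Ob P → on 𝒰 M P ≤ on 𝒰 M' P := by
  intro P hP
  by_cases hu : 𝒰 P
  · rw [on_pos hu, on_pos hu]; exact h P hP hu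
  · rw [on_neg hu, on_neg hu]
theorem sys_z (hU : Up f 𝒰) (h : ∀ P, f.Ob P → 𝒰 P → Cen p ⊥ P) :
    Sys f (on 𝒰 zN) (on 𝒰 zO) := by
  refine ⟨fam_on hU (fun P Q hP hQ hle hu => sN_mono ((h P hP hu).Zc_le hle hQ.2.2))
      fun P _ _ g _ v hv => ?_,
    fam_on hU (fun P Q hP hQ hle hu => sO_mono ((h P hP hu).Zc_le hle hQ.2.2))
      fun P _ _ g _ v hv => ?_, le_on fun _ _ _ => sO_le_sN, fun P hP g hg v hv => ?_⟩
  · rw [zN, Zc_conj]; exact smul_mem_sN g hv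
  · rw [zO, Zc_conj]; exact smul_mem_sO g hv
  · by_cases hu : 𝒰 P
    · rw [on_pos hu] at hv
      rw [smul_eq_of_centralizer (fun z hz => (mem_Zc.1 hz).2 g hg) hv, sub_self]
      exact zero_mem _
    · rw [on_neg hu]; trivial
theorem fam_zA [A.Normal] (hU : Up f 𝒰) (h : ∀ P, f.Ob P → 𝒰 P → Cen p ⊥ P) :
    Fam f (on 𝒰 (zA A)) := by
  refine fam_on hU (fun P Q hP hQ hle hu =>
    sup_le_sup_right (sO_mono ((h P hP hu).Zc_le hle hQ.2.2)) _) fun P _ _ g _ v hv => ?_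
  obtain ⟨a, ha, b, hb, rfl⟩ := AddSubgroup.mem_sup.1 hv
  rw [smul_add]
  refine add_mem (AddSubgroup.mem_sup_left ?_) (AddSubgroup.mem_sup_right ?_)
  · rw [Zc_conj]; exact smul_mem_sO g ha
  · have := smul_mem_sN g hb
    rwa [conj_eq_self_of_normal] at this
theorem le_zA (hA : A ≤ center G) (hY : A ≤ f.Y) :
    Le f (on 𝒰 zO) (on 𝒰 (zA A)) ∧ Le f (on 𝒰 (zA A)) (on 𝒰 zN) :=
  ⟨le_on fun _ _ _ => le_sup_left, le_on fun _ hP _ => sup_le sO_le_sN (sN_mono fun a ha =>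
    mem_Zc.2 ⟨hP.1 (hY ha), fun x _ => mem_center_iff.1 (hA ha) x⟩)⟩
theorem dA_bdd [Finite G] (P : Subgroup G) : BddAbove {m | ∃ B ∈ AbS G m, B ≤ P} :=
  ⟨Nat.card G, by
    rintro m ⟨B, hB, -⟩
    rw [← hB.2]; exact card_le_card_group B⟩
theorem bot_mem_AbS : (⊥ : Subgroup G) ∈ AbS G 1 :=
  ⟨fun x hx y _ => by rw [mem_bot.1 hx, one_mul, mul_one], card_bot⟩
theorem exists_AbS [Finite G] (P : Subgroup G) : ∃ B ∈ AbS G (dA P), B ≤ P :=
  Nat.sSup_mem (s := {m | ∃ B ∈ AbS G m, B ≤ P}) ⟨1, ⊥, bot_mem_AbS, bot_le⟩ (dA_bdd P)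
theorem le_dA [Finite G] {m : ℕ} {B : Subgroup G} (h : B ∈ AbS G m) (hle : B ≤ P) : m ≤ dA P :=
  le_csSup (dA_bdd P) ⟨B, h, hle⟩
theorem dA_mono [Finite G] (h : P ≤ P') : dA P ≤ dA P' := by
  obtain ⟨B, hB, hle⟩ := exists_AbS P
  exact le_dA hB (hle.trans h)
theorem AbS.conj {m : ℕ} {B : Subgroup G} (h : B ∈ AbS G m) (g : G) : g ⋆ B ∈ AbS G m := by
  refine ⟨fun x hx y hy => ?_, by rw [card_conj, h.2]⟩
  have := h.1 _ (mem_conj.1 hx) _ (mem_conj.1 hy)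
  calc x * y = g * (g⁻¹ * x * g * (g⁻¹ * y * g)) * g⁻¹ := by group
    _ = y * x := by rw [this]; group
theorem dA_conj (g : G) (P : Subgroup G) : dA (g ⋆ P) = dA P := by
  unfold dA
  congr 1
  ext m
  exact ⟨fun ⟨B, hB, hle⟩ => ⟨_, AbS.conj hB g⁻¹, le_conj_iff_inv_conj_le.1 hle⟩,
    fun ⟨B, hB, hle⟩ => ⟨_, AbS.conj hB g, conj_mono g hle⟩⟩
theorem inv_AbS (H : Subgroup G) (m : ℕ) : Inv H (AbS G m) := fun g _ _ hB => AbS.conj hB g
/-- an abelian subgroup of maximal order is self-centralizing -/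
theorem AbS.cent [Finite G] {B : Subgroup G} (h : B ∈ AbS G (dA P)) (hle : B ≤ P) {c : G}
    (hc : c ∈ P) (hB : ∀ x ∈ B, x * c = c * x) : c ∈ B := by
  set B' := B ⊔ zpowers c with hB'
  have h1 : B' ≤ centralizer (B : Set G) :=
    sup_le (fun x hx y hy => h.1 y hy x hx) (zpowers_le.2 hB)
  have h2 : B' ≤ centralizer ((zpowers c : Subgroup G) : Set G) := by
    refine sup_le (le_centralizer_iff.1 (zpowers_le.2 hB)) ?_
    exact le_centralizer _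
  have h3 : B' ≤ centralizer (B' : Set G) :=
    sup_le (le_centralizer_iff.1 h1) (le_centralizer_iff.1 h2)
  have h4 : Nat.card B' ≤ dA P :=
    le_dA ⟨fun x hx y hy => h3 hy x hx, rfl⟩ (sup_le hle (zpowers_le.2 hc))
  rw [← h.2] at h4
  rw [eq_of_le_of_card_ge (le_sup_left : B ≤ B') h4]
  exact mem_sup_right (mem_zpowers c)
theorem Ce.le_center (h : Ce p ι) : h.A ≤ center G := by
  rintro _ ⟨b, rfl⟩
  exact mem_center_iff.2 (h.cen b)
theorem Ce.normal (h : Ce p ι) : h.A.Normal :=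
  ⟨fun a ha g => by rw [mem_center_iff.1 (h.le_center ha) g, mul_inv_cancel_right]; exact ha⟩
theorem Ce.nsmul (h : Ce p ι) (b : B) (n : ℕ) : ι (n • b) = ι b ^ n := by
  induction n with
  | zero => simp [h.zero]
  | succ n ih => rw [succ_nsmul, h.add, ih, pow_succ]
theorem Ce.pg (h : Ce p ι) : IsPGroup p h.A := by
  rintro ⟨_, b, rfl⟩
  obtain ⟨e, he⟩ := h.pt
  exact ⟨e, Subtype.ext (by simp [← h.nsmul, he, h.zero])⟩
theorem Ce.nC_add (h : Ce p ι) {χ : Fn G B} (hχ : χ ∈ h.nC P) :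
    ∀ x ∈ P, ∀ y ∈ P, χ (x * y) = χ x + χ y := by
  obtain ⟨c, hc⟩ := hχ
  intro x hx y hy
  apply h.inj
  have e : ⁅c, x * y⁆ = ⁅c, x⁆ * (x * ⁅c, y⁆ * x⁻¹) := by simp only [commutatorElement_def]; group
  rw [h.add, hc _ (mul_mem hx hy), e, ← hc y hy, h.cen, mul_inv_cancel_right, hc x hx]
theorem Ce.nC_le_nH (h : Ce p ι) (hA : h.A ≤ P) : h.nC P ≤ nH ι P := by
  intro χ hχ
  refine ⟨h.nC_add hχ, fun b => ?_⟩
  obtain ⟨c, hc⟩ := hχ
  apply h.inj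
  rw [hc _ (hA ⟨b, rfl⟩), h.zero, commutatorElement_def, h.cen]; group
theorem fam_o1 : Fam f (o1 B) :=
  ⟨fun _ _ _ _ hle _ hχ x hx => hχ x (hle hx), fun _ _ _ _ _ hχ _ hx => hχ _ (mem_conj.1 hx)⟩
theorem add_conj_eq {χ : Fn G B} (hχ : ∀ x ∈ P, ∀ y ∈ P, χ (x * y) = χ x + χ y) {g : G}
    (hg : g ∈ P) : g • χ - χ ∈ o1 B P := by
  intro x hx
  have h1 := hχ _ hg _ (mul_mem (mul_mem (inv_mem hg) hx) hg)
  have h2 := hχ _ hx _ hg
  have e : g * (g⁻¹ * x * g) = x * g := by group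
  rw [e, h2, add_comm] at h1
  rw [Fn.sub_apply, Fn.smul_apply, ← add_left_cancel h1, sub_self]
theorem Ce.sys_nH (h : Ce p ι) (hY : h.A ≤ f.Y) : Sys f (nH ι) (o1 B) := by
  refine ⟨⟨fun P Q _ _ hle χ hχ => ⟨fun x hx y hy => hχ.1 x (hle hx) y (hle hy), hχ.2⟩,
    fun P _ g _ χ hχ => ⟨fun x hx y hy => ?_, fun b => ?_⟩⟩, fam_o1, fun P hP χ hχ =>
    ⟨fun x hx y hy => ?_, fun b => hχ _ (hP.1 (hY ⟨b, rfl⟩))⟩,
    fun P _ g hg χ hχ => add_conj_eq hχ.1 hg⟩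
  · rw [Fn.smul_apply, Fn.smul_apply, Fn.smul_apply, ← hχ.1 _ (mem_conj.1 hx) _ (mem_conj.1 hy)]
    congr 1; group
  · rw [Fn.smul_apply, h.cen, inv_mul_cancel_right, hχ.2]
  · rw [hχ x hx, hχ y hy, hχ _ (mul_mem hx hy), add_zero]
theorem Ce.fam_nC (h : Ce p ι) : Fam f h.nC := by
  refine ⟨fun P Q _ _ hle χ ⟨c, hc⟩ => ⟨c, fun x hx => hc x (hle hx)⟩,
    fun P _ g _ χ ⟨c, hc⟩ => ⟨g * c * g⁻¹, fun x hx => ?_⟩⟩
  have e : ⁅g * c * g⁻¹, x⁆ = g * ⁅c, g⁻¹ * x * g⁆ * g⁻¹ := by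
    simp only [commutatorElement_def]; group
  rw [Fn.smul_apply, e, ← hc _ (mem_conj.1 hx), h.cen, mul_inv_cancel_right]
theorem Ce.o1_le_nC (h : Ce p ι) : o1 B P ≤ h.nC P :=
  fun χ hχ => ⟨1, fun x hx => by simp [hχ x hx, h.zero]⟩
theorem Ce.le_nC (h : Ce p ι) (hY : h.A ≤ f.Y) : Le f (o1 B) h.nC ∧ Le f h.nC (nH ι) :=
  ⟨fun _ _ => h.o1_le_nC, fun _ hP => h.nC_le_nH (hY.trans hP.1)⟩
theorem Ce.sys_nC (h : Ce p ι) (hY : h.A ≤ f.Y) : Sys f h.nC (o1 B) :=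
  ⟨h.fam_nC, fam_o1, (h.le_nC hY).1, fun _ _ _ hg _ hχ => add_conj_eq (h.nC_add hχ) hg⟩

end Cfsg.Lib.LK
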