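import Cfsg.Agent.Lib.LK.Bas

set_option autoImplicit false

namespace Cfsg.Lib.LK

open Subgroup Cfsg.Lib.Transfer
open scoped commutatorElement

variable {p : ℕ} {G Ω D : Type*} [Group G] [MulAction G Ω] [AddCommGroup D] [DistribMulAction G D]
  {f : Fr p G Ω} {N O M N' O' : Subgroup G → AddSubgroup D} {Q : Subgroup G → Prop} {k : ℕ}

theorem exists_inv [Fact p.Prime] (hD : PT p D) {n : ℕ} (hn : ¬ p ∣ n) :
    ∃ m : ℕ, ∀ v : D, m • n • v = v := by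
  obtain ⟨e, he⟩ := hD
  have hc : n.Coprime (p ^ e) :=
    (((Fact.out : p.Prime).coprime_iff_not_dvd.2 hn).symm).pow_right e
  have h0 : 0 < (p ^ e).totient := Nat.totient_pos.2 (pow_pos (Fact.out : p.Prime).pos e)
  refine ⟨n ^ ((p ^ e).totient - 1), fun v => ?_⟩
  rw [smul_smul, ← pow_succ, Nat.sub_add_cancel h0,
    nsmul_eq_nsmul_of_modEq (Nat.ModEq.pow_totient hc) (he v), one_smul]

omit [DistribMulAction G D] in
theorem fu_sum_act {A B : Finset Ω} {g : G} (h : ∀ x, g • x ∈ B ↔ x ∈ A) (F : Ω → D) :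
    ∑ x ∈ B, F x = ∑ x ∈ A, F (g • x) :=
  (Finset.sum_nbij' (g • ·) (g⁻¹ • ·) (fun x hx => (h x).2 hx)
    (fun x hx => (h _).1 (by rwa [smul_inv_smul])) (fun x _ => inv_smul_smul g x)
    (fun x _ => smul_inv_smul g x) fun _ _ => rfl).symm

theorem fu_card_act {A B : Finset Ω} {g : G} (h : ∀ x, g • x ∈ B ↔ x ∈ A) : B.card = A.card :=
  (Finset.card_nbij' (g • ·) (g⁻¹ • ·) (fun x hx => (h x).2 hx)
    (fun x hx => (h _).1 (by rwa [smul_inv_smul])) (fun x _ => inv_smul_smul g x)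
    fun x _ => smul_inv_smul g x).symm

theorem fu_smul_A {g : G} (hg : g ∈ f.H) (x : Ω) : g • x ∈ f.A ↔ x ∈ f.A :=
  ⟨fun h => by simpa using f.inv _ (inv_mem hg) _ h, f.inv g hg x⟩

theorem fu_smul_fixA {g : G} (hg : g ∈ f.H) (P : Subgroup G) (x : Ω) :
    g • x ∈ f.fixA (g ⋆ P) ↔ x ∈ f.fixA P := by
  rw [Fr.mem_fixA, Fr.mem_fixA, fu_smul_A hg]
  refine and_congr_right fun _ => ⟨fun h y hy => ?_, fun h y hy => ?_⟩
  · have := h _ (conj_mem_conj.2 hy)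
    rwa [mul_smul, mul_smul, inv_smul_smul, smul_left_cancel_iff] at this
  · have := h _ (mem_conj.1 hy)
    rwa [mul_smul, mul_smul, inv_smul_eq_iff] at this

theorem fu_in_cons {x : Ω} {l : List Ω} : f.In (x :: l) ↔ x ∈ f.A ∧ f.In l := List.forall_mem_cons

theorem fu_in_one {x : Ω} : f.In [x] ↔ x ∈ f.A := List.forall_mem_singleton

theorem fu_in_two {x y : Ω} : f.In [x, y] ↔ x ∈ f.A ∧ y ∈ f.A := by rw [fu_in_cons, fu_in_one]

theorem fu_st_one {x : Ω} {g : G} : g ∈ f.st [x] ↔ g ∈ f.H ∧ g • x = x := by simp [Fr.mem_st]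

theorem fu_st_two {x y : Ω} {g : G} : g ∈ f.st [x, y] ↔ g ∈ f.H ∧ g • x = x ∧ g • y = y := by
  simp [Fr.mem_st]

theorem fu_Rf_pos {P : Subgroup G} (h : Q P) {v : D} : v ∈ Rf D Q P ↔ v = 0 := by
  rw [Rf, ite'_pos h]; exact AddSubgroup.mem_bot

theorem fu_Rf_neg {P : Subgroup G} (h : ¬ Q P) {v : D} : v ∈ Rf D Q P ↔ v ∈ fx D P := by
  rw [Rf, ite'_neg h]

omit [DistribMulAction G D] in
theorem fu_Z0 {P : Subgroup G} {v : D} : v ∈ Z0 G D P ↔ v = 0 := AddSubgroup.mem_bot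

theorem fu_d_two (c : List Ω → D) (x y : Ω) : d c [x, y] = c [y] - c [x] := by simp

theorem fu_d_three (c : List Ω → D) (x y z : Ω) : d c [x, y, z] = c [y, z] - (c [x, z] - c [x, y]) := by simp

theorem Up.fu_st (hQ : Up f Q) {P : Subgroup G} (hP : f.Ob P) (h : Q P) {l : List Ω} (hl : f.In l) (h0 : l ≠ [])
    (hle : P ≤ f.st l) : Q (f.st l) := hQ.up _ _ hP (Fr.ob_st hl h0) hle h

/-- `b l = m • ∑ x ∈ A, c (x :: l)` with `m |A| = 1` on `D` (`d_cons`, `d_sum`, `d_map`) -/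
theorem van_full [Fact p.Prime] (hD : PT p D) : Van f (fx D) (Z0 G D) k := by
  intro c hc hd
  obtain ⟨m, hm⟩ := exists_inv hD f.card
  have he : ∀ l, f.In l → l.length = k → ∀ g ∈ f.H,
      m • ∑ x ∈ f.A, c (x :: act g l) = g • m • ∑ x ∈ f.A, c (x :: l) := fun l hl hk g hg => by
    rw [fu_sum_act (fu_smul_A hg), smul_comm g, Finset.smul_sum (r := g)]
    refine congrArg _ (Finset.sum_congr rfl fun x hx => ?_)
    exact sub_eq_zero.1 (fu_Z0.1 ((hc (x :: l) (fu_in_cons.2 ⟨hx, hl⟩) (by simp [hk])).2 g hg))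
  refine ⟨fun l => m • ∑ x ∈ f.A, c (x :: l), fun l hl hk => ⟨fun g hg => ?_, fun g hg => ?_⟩, fun l hl hk => ?_⟩
  · rw [← he l hl hk g hg.1, Fr.act_eq_of_mem_st hg]
  · exact fu_Z0.2 (sub_eq_zero.2 (he l hl hk g hg))
  · have h1 := d_map (nsmulAddMonoidHom m) (fun l => ∑ x ∈ f.A, c (x :: l)) l
    simp only [nsmulAddMonoidHom_apply] at h1
    rw [fu_Z0, h1, d_sum, Finset.sum_congr rfl (g := fun _ => c l) fun x hx => ?_, Finset.sum_const, hm, sub_self]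
    exact (sub_eq_zero.1 (fu_Z0.1 (hd (x :: l) (fu_in_cons.2 ⟨hx, hl⟩) (by simp [hk])))).symm

/-- local contraction of a 1-cocycle on `Q`: `e P y = m • ∑ x ∈ fixA P, c [x, y]`, `m` a fixed
function of `(fixA P).card`; `g` maps `fixA P` onto `fixA (g ⋆ P)`; all lists in `fixA P` have
stabilizer `≥ P`, so in `Q`, where `Rf D Q` is `⊥`. -/
theorem exists_e [Fact p.Prime] (hD : PT p D) (hQ : Up f Q) {c : List Ω → D}
    (hc : Eqv f (fx D) (Rf D Q) 2 c)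
    (hd : ∀ l, f.In l → l.length = 3 → d c l ∈ Rf D Q (f.st l)) :
    ∃ e : Subgroup G → Ω → D,
      (∀ P, f.Ob P → Q P → ∀ x ∈ f.fixA P, ∀ y ∈ f.fixA P, c [x, y] = e P y - e P x) ∧
      ∀ P, f.Ob P → Q P → ∀ g ∈ f.H, ∀ y ∈ f.fixA P, e (g ⋆ P) (g • y) = g • e P y := by
  choose! m hm using fun n (hn : ¬ p ∣ n) => exists_inv hD hn
  have hq : ∀ P, f.Ob P → Q P → ∀ l, l ≠ [] → (∀ x ∈ l, x ∈ f.fixA P) → f.In l ∧ Q (f.st l) :=
    fun P hP h l h0 hl => ⟨fun x hx => (Fr.mem_fixA.1 (hl x hx)).1, hQ.fu_st hP h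
      (fun x hx => (Fr.mem_fixA.1 (hl x hx)).1) h0 fun g hg =>
        ⟨hP.2.1 hg, fun x hx => (Fr.mem_fixA.1 (hl x hx)).2 g hg⟩⟩
  refine ⟨fun P y => m (f.fixA P).card • ∑ x ∈ f.fixA P, c [x, y], fun P hP h x hx y hy => ?_,
    fun P hP h g hg y hy => ?_⟩
  · rw [← smul_sub, ← Finset.sum_sub_distrib, Finset.sum_congr rfl (g := fun _ => c [x, y]) fun z hz => ?_,
      Finset.sum_const, hm _ (Fr.card_fixA hP.2.2 hP.2.1)]
    obtain ⟨h1, h2⟩ := hq P hP h [z, x, y] (by simp) (by simp [hx, hy, hz])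
    have := (fu_Rf_pos h2).1 (hd _ h1 rfl)
    rw [fu_d_three] at this
    exact (sub_eq_zero.1 this).symm
  · simp only
    rw [fu_card_act (fu_smul_fixA hg P), fu_sum_act (fu_smul_fixA hg P), smul_comm g, Finset.smul_sum (r := g)]
    refine congrArg _ (Finset.sum_congr rfl fun x hx => ?_)
    obtain ⟨h1, h2⟩ := hq P hP h [x, y] (by simp) (by simp [hx, hy])
    have := (hc _ h1 rfl).2 g hg
    rw [fu_Rf_pos (by rw [Fr.st_act _ hg]; exact hQ.cj _ (Fr.ob_st h1 (by simp)) g hg h2)] at this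
    exact sub_eq_zero.1 this

/-- `c = d b` by `van_full`.  If `¬ Q T` no object is in `Q` and `b` works.  Else let `x₀` have
stabilizer `T`, `v = b [x₀]`; for `g ∈ N_H(Z)` the edge `[x₀, g x₀]` is in `Q`, so `g v = v`, so
`v ∈ fx H`; a point `x` with `Q (st [x])` has `h ⋆ st [x] ≤ T`, so `b [h x] = v`, `b [x] = v`;
take `b - v`. -/
theorem van_R1 [Finite G] [Fact p.Prime] (hD : PT p D) (hQ : Up f Q) {T : Subgroup G}
    (hT : Syl p T f.H)
    (hctl : Q T → ∃ Z, f.Y ≤ Z ∧ Z ≤ T ∧ Q Z ∧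
      ∀ v ∈ fx D (f.H ⊓ normalizer (Z : Set G)), v ∈ fx D T → v ∈ fx D f.H) :
    Van f (Rf D Q) (Z0 G D) 1 := by
  intro c hc hd
  have hle : ∀ P, Rf D Q P ≤ fx D P := fun P v hv => by
    by_cases h : Q P
    · rw [(fu_Rf_pos h).1 hv]; exact zero_mem _
    · exact (fu_Rf_neg h).1 hv
  obtain ⟨b, hb, hcb⟩ := van_full (f := f) (k := 1) hD c
    (fun l hl hk => ⟨hle _ (hc l hl hk).1, (hc l hl hk).2⟩) hd
  by_cases hq : Q T
  swap
  · refine ⟨b, fun l hl hk => ⟨(fu_Rf_neg fun h => hq ?_).2 (hb l hl hk).1, (hb l hl hk).2⟩, hcb⟩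
    have ho := Fr.ob_st' hl hk le_rfl
    obtain ⟨g, hg, hle⟩ := hT.conj_le ho.2.2 ho.2.1
    exact hQ.up _ _ (ho.conj hg) hT.ob hle (hQ.cj _ ho g hg h)
  obtain ⟨Z, hYZ, hZT, hZ, hctl⟩ := hctl hq
  obtain ⟨x₀, hx₀, hst⟩ := hT.exists_pt
  have hbe : ∀ x ∈ f.A, ∀ g ∈ f.H, b [g • x] = g • b [x] := fun x hx g hg =>
    sub_eq_zero.1 (fu_Z0.1 ((hb [x] (fu_in_one.2 hx) rfl).2 g hg))
  have hed : ∀ x ∈ f.A, ∀ y ∈ f.A, Q (f.st [x, y]) → b [y] = b [x] := fun x hx y hy h => by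
    have h1 := (fu_Rf_pos h).1 (hc _ (fu_in_two.2 ⟨hx, hy⟩) rfl).1
    have h2 := fu_Z0.1 (hcb _ (fu_in_two.2 ⟨hx, hy⟩) rfl)
    rwa [h1, fu_d_two, zero_sub, neg_eq_zero, sub_eq_zero] at h2
  have hv : b [x₀] ∈ fx D f.H := hctl _ (fun g hg => by
    rw [← hbe x₀ hx₀ g hg.1]
    refine hed _ hx₀ _ (f.inv g hg.1 _ hx₀) (hQ.fu_st (hT.ob.of_le hYZ hZT) hZ
      (fu_in_two.2 ⟨hx₀, f.inv g hg.1 _ hx₀⟩) (by simp) fun z hz => ?_)
    have h1 := fu_st_one.1 (hst.ge (hZT hz))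
    have h2 := fu_st_one.1 (hst.ge (hZT (mem_conj.1 ((conj_eq_self_iff.2 hg.2).ge hz))))
    refine fu_st_two.2 ⟨h1.1, h1.2, ?_⟩
    have h3 := h2.2
    rwa [mul_smul, mul_smul, inv_smul_eq_iff] at h3) (hst ▸ (hb _ (fu_in_one.2 hx₀) rfl).1)
  refine ⟨fun l => b l - b [x₀], fun l hl hk => ⟨?_, fun g hg => ?_⟩, fun l hl hk => ?_⟩
  · obtain ⟨x, rfl⟩ := List.length_eq_one_iff.1 hk
    have hx := fu_in_one.1 hl
    by_cases h : Q (f.st [x])
    · have ho := Fr.ob_st' hl hk le_rfl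
      obtain ⟨g, hg, hle⟩ := hT.conj_le ho.2.2 ho.2.1
      have h1 : f.st [g • x] = g ⋆ f.st [x] := Fr.st_act [x] hg
      have h2 := hed _ hx₀ _ (f.inv g hg _ hx) (hQ.fu_st (ho.conj hg) (hQ.cj _ ho g hg h)
        (fu_in_two.2 ⟨hx₀, f.inv g hg _ hx⟩) (by simp) fun z hz => fu_st_two.2
          ⟨(hst.ge (hle hz)).1, (fu_st_one.1 (hst.ge (hle hz))).2, (fu_st_one.1 (h1.ge hz)).2⟩)
      rw [hbe x hx g hg, ← hv g hg, smul_left_cancel_iff] at h2
      exact (fu_Rf_pos h).2 (sub_eq_zero.2 h2)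
    · exact (fu_Rf_neg h).2 (sub_mem (hb _ hl hk).1 (fx_anti (Fr.st_le _) hv))
  · rw [fu_Z0, smul_sub, hv g hg, sub_sub_sub_cancel_right]
    exact fu_Z0.1 ((hb l hl hk).2 g hg)
  · obtain ⟨x, y, rfl⟩ := List.length_eq_two.1 hk
    have := hcb _ hl hk
    rw [fu_d_two] at this ⊢
    rwa [sub_sub_sub_cancel_right]

open Classical in
theorem fu_card_modEq [Fact p.Prime] {X : Subgroup G} (hX : IsPGroup p X) (C : Finset Ω)
    (hC : ∀ g ∈ X, ∀ x ∈ C, g • x ∈ C) : C.card ≡ (C.filter fun x => ∀ g ∈ X, g • x = x).card [MOD p] := by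
  letI : MulAction X C :=
    { smul := fun g x => ⟨(g : G) • (x : Ω), hC g g.2 x x.2⟩
      one_smul := fun x => Subtype.ext (one_smul G (x : Ω))
      mul_smul := fun g h x => Subtype.ext (mul_smul (g : G) (h : G) (x : Ω)) }
  have h1 := hX.card_modEq_card_fixedPoints C
  have h2 : Nat.card (MulAction.fixedPoints X C) = (C.filter fun x => ∀ g ∈ X, g • x = x).card := by
    rw [← Nat.card_eq_finsetCard]
    refine Nat.card_congr ⟨fun x => ⟨x.1.1, Finset.mem_filter.2 ⟨x.1.2, fun g hg => ?_⟩⟩,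
      fun x => ⟨⟨x.1, (Finset.mem_filter.1 x.2).1⟩, fun g => Subtype.ext ((Finset.mem_filter.1 x.2).2 g g.2)⟩,
      fun _ => rfl, fun _ => rfl⟩
    exact congrArg Subtype.val (x.2 ⟨g, hg⟩)
  rwa [h2, Nat.card_eq_finsetCard] at h1

/-- A plain potential can be made equivariant.  Call `x, y ∈ A` adjacent if `Q (st [x, y])`; let
`C x ⊆ A` be the component of a point `x` with `Q (st [x])`.  `p ∤ |C x|`: take `T` Sylow above
`st [x]`, fixing `y`; `y ∈ C x`, `T` preserves `C x = C y` and all `T`-fixed points of `A` lie in it,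
so `|A \ C x| ≡ 0`.  Put `b' x = b x - avg_{C x} b` (and `0` off `Q`); `g b' (g⁻¹ ·) - b'` is
constant on components with average `0`. -/
theorem van_PN [Finite G] [Fact p.Prime] (hD : PT p D) (hQ : Up f Q)
    (h : ∀ c : List Ω → D, Eqv f (fx D) (Rf D Q) 2 c →
      (∀ l, f.In l → l.length = 3 → d c l ∈ Rf D Q (f.st l)) →
      ∃ b : Ω → D, ∀ x ∈ f.A, ∀ y ∈ f.A, Q (f.st [x, y]) → c [x, y] = b y - b x) :
    Van f (fx D) (Rf D Q) 1 := by
  classical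
  intro c hc hd
  obtain ⟨b, hb⟩ := h c hc hd
  choose! m hm using fun n (hn : ¬ p ∣ n) => exists_inv hD hn
  let R : Ω → Ω → Prop := fun x y => x ∈ f.A ∧ y ∈ f.A ∧ Q (f.st [x, y])
  have Rs : ∀ x y, R x y → R y x := fun x y h => ⟨h.2.1, h.1, by
    rw [show f.st [y, x] = f.st [x, y] from le_antisymm (Fr.st_anti (by simp)) (Fr.st_anti (by simp))]
    exact h.2.2⟩
  have Rg : ∀ g ∈ f.H, ∀ x y, R x y → R (g • x) (g • y) := fun g hg x y h =>
    ⟨f.inv g hg _ h.1, f.inv g hg _ h.2.1, by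
      rw [show f.st [g • x, g • y] = _ from Fr.st_act [x, y] hg]
      exact hQ.cj _ (Fr.ob_st (fu_in_two.2 ⟨h.1, h.2.1⟩) (by simp)) g hg h.2.2⟩
  have Tg : ∀ g ∈ f.H, ∀ x y, Relation.ReflTransGen R x y → Relation.ReflTransGen R (g • x) (g • y) :=
    fun g hg x y h => h.lift (g • ·) (Rg g hg)
  let C : Ω → Finset Ω := fun x => f.A.filter (Relation.ReflTransGen R x)
  have Cg : ∀ g ∈ f.H, ∀ x y, g • y ∈ C (g • x) ↔ y ∈ C x := fun g hg x y => by
    simp only [C, Finset.mem_filter, fu_smul_A hg]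
    exact and_congr_right fun _ => ⟨fun h => by simpa using Tg _ (inv_mem hg) _ _ h, Tg g hg x y⟩
  have Ce : ∀ x y, R x y → C x = C y := fun x y h => Finset.filter_congr fun z _ =>
    ⟨fun h' => h'.head (Rs _ _ h), fun h' => h'.head h⟩
  have Cp : ∀ x ∈ f.A, Q (f.st [x]) → ¬ p ∣ (C x).card := fun x hx hq => by
    have ho := Fr.ob_st (fu_in_one.2 hx) (by simp)
    obtain ⟨T, hT, hle⟩ := exists_syl ho.2.2 ho.2.1
    obtain ⟨y, hy, hst⟩ := hT.exists_pt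
    have hyT : ∀ g ∈ T, g • y = y := fun g hg => (fu_st_one.1 (hst.ge hg)).2
    rw [Ce x y ⟨hx, hy, hQ.fu_st ho hq (fu_in_two.2 ⟨hx, hy⟩) (by simp) fun g hg =>
      fu_st_two.2 ⟨hg.1, (fu_st_one.1 hg).2, hyT g (hle hg)⟩⟩]
    have h1 := fu_card_modEq hT.2.1 (C y) fun g hg z hz => by
      rw [← hyT g hg]; exact (Cg g (hT.1 hg) y z).2 hz
    have h2 : ((C y).filter fun x => ∀ g ∈ T, g • x = x) = f.fixA T := by
      ext z
      rw [Finset.mem_filter, Fr.mem_fixA]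
      refine ⟨fun h => ⟨(Finset.mem_filter.1 h.1).1, h.2⟩, fun h => ⟨Finset.mem_filter.2 ⟨h.1, .single
        ⟨hy, h.1, hQ.fu_st hT.ob (hQ.up _ _ ho hT.ob hle hq) (fu_in_two.2 ⟨hy, h.1⟩) (by simp) fun g hg =>
          fu_st_two.2 ⟨hT.1 hg, hyT g hg, h.2 g hg⟩⟩⟩, h.2⟩⟩
    rw [h2] at h1
    exact fun h => Fr.card_fixA hT.2.1 hT.1 ((h1.dvd_iff dvd_rfl).1 h)
  have bg : ∀ g ∈ f.H, ∀ x y, Relation.ReflTransGen R x y → b (g • y) - g • b y = b (g • x) - g • b x :=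
    fun g hg x y h => by
      induction h with
      | refl => rfl
      | @tail y z _ h ih =>
        have h1 := Rg g hg _ _ h
        have h2 := (fu_Rf_pos (P := f.st (act g [y, z])) h1.2.2).1 ((hc _ (fu_in_two.2 ⟨h.1, h.2.1⟩) rfl).2 g hg)
        rw [show act g [y, z] = [g • y, g • z] from rfl, hb _ h1.1 _ h1.2.1 h1.2.2, hb _ h.1 _ h.2.1 h.2.2,
          smul_sub] at h2
        rw [← ih, ← sub_eq_zero, ← h2]
        abel
  let b' : Ω → D := fun x => if Q (f.st [x]) then b x - m (C x).card • ∑ y ∈ C x, b y else 0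
  have be : ∀ g ∈ f.H, ∀ x ∈ f.A, b' (g • x) = g • b' x := fun g hg x hx => by
    have e : Q (f.st [g • x]) ↔ Q (f.st [x]) := by
      rw [show f.st [g • x] = _ from Fr.st_act [x] hg]
      exact hQ.cj_iff (Fr.ob_st (fu_in_one.2 hx) (by simp)) hg
    simp only [b', e]
    split_ifs with hq
    · rw [fu_card_act (Cg g hg x), fu_sum_act (Cg g hg x), Finset.sum_congr rfl
        (g := fun y => g • b y + (b (g • x) - g • b x)) fun y hy => by
          rw [← bg g hg x y (Finset.mem_filter.1 hy).2]; abel,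
        Finset.sum_add_distrib, Finset.sum_const, smul_add, hm _ (Cp x hx hq), ← Finset.smul_sum, smul_sub,
        smul_comm g]
      abel
    · rw [smul_zero]
  have bf : ∀ x ∈ f.A, b' x ∈ fx D (f.st [x]) := fun x hx g hg => by
    rw [← be g hg.1 x hx, (fu_st_one.1 hg).2]
  refine ⟨fun l => l.head?.elim 0 b', fun l hl hk => ?_, fun l hl hk => ?_⟩
  · obtain ⟨x, rfl⟩ := List.length_eq_one_iff.1 hk
    refine ⟨bf x (fu_in_one.1 hl), fun g hg => ?_⟩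
    show b' (g • x) - g • b' x ∈ _
    rw [be g hg x (fu_in_one.1 hl), sub_self]
    exact zero_mem _
  · obtain ⟨x, y, rfl⟩ := List.length_eq_two.1 hk
    obtain ⟨hx, hy⟩ := fu_in_two.1 hl
    rw [fu_d_two]
    show _ - (b' y - b' x) ∈ _
    by_cases hq : Q (f.st [x, y])
    · have ho := Fr.ob_st hl (by simp)
      simp only [b', if_pos (hQ.fu_st ho hq (fu_in_one.2 hx) (by simp) (Fr.st_anti (by simp))),
        if_pos (hQ.fu_st ho hq (fu_in_one.2 hy) (by simp) (Fr.st_anti (by simp))), Ce x y ⟨hx, hy, hq⟩,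
        hb x hx y hy hq, sub_sub_sub_cancel_right, sub_self]
      exact zero_mem _
    · exact (fu_Rf_neg hq).2 (sub_mem (hc _ hl hk).1 (sub_mem (fx_anti (Fr.st_anti (by simp)) (bf y hy))
        (fx_anti (Fr.st_anti (by simp)) (bf x hx))))

end Cfsg.Lib.LK
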