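import Cfsg.Agent.Lib.LK.KP
import Cfsg.Agent.Lib.LK.Full

set_option autoImplicit false

namespace Cfsg.Lib.LK

open Subgroup Cfsg.Lib.Transfer
open scoped commutatorElement

variable {Γ Ω W : Type*} [Group Γ] [MulAction Γ Ω] [AddCommGroup W] [DistribMulAction Γ W]

theorem tb_pgroup {a : Γ} (ha : a * a = 1) : IsPGroup 2 (zpowers a) := by
  rintro ⟨_, n, rfl⟩
  refine ⟨1, Subtype.ext ?_⟩
  have h2 : a ^ 2 = 1 := by rw [sq, ha]
  show (a ^ n) ^ 2 ^ 1 = 1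
  rw [pow_one, ← zpow_natCast, ← zpow_mul, mul_comm, zpow_mul, zpow_natCast, h2, one_zpow]

theorem tb_zp_le {g : Γ} {K : Subgroup Γ} (h : g ⋆ K = K) : zpowers g ≤ normalizer (K : Set Γ) :=
  zpowers_le.2 (conj_eq_self_iff.1 h)

/-- a common fixed point of two commuting involutions and an involution fixing or swapping them -/
theorem tb_fix (f : Fr 2 Γ Ω) (hH : f.H = ⊤) {a b g : Γ} (ha : a * a = 1) (hb : b * b = 1) (hg : g * g = 1)
    (hab : a * b = b * a) (h : (g * a * g⁻¹ = a ∧ g * b * g⁻¹ = b) ∨ g * a * g⁻¹ = b) :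
    ∃ y ∈ f.A, a • y = y ∧ b • y = y ∧ g • y = y := by
  have h1 : IsPGroup 2 ↥(zpowers a ⊔ zpowers b) := by
    refine (tb_pgroup ha).to_sup_of_normal_left' (tb_pgroup hb) (tb_zp_le ?_)
    rw [conj_zpowers, ← hab, mul_inv_cancel_right]
  have h2 : g ⋆ (zpowers a ⊔ zpowers b) = zpowers a ⊔ zpowers b := by
    rw [conj_sup, conj_zpowers, conj_zpowers]
    rcases h with ⟨h3, h4⟩ | h3
    · rw [h3, h4]
    · have h4 : g * b * g⁻¹ = a := by
        rw [← h3]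
        calc g * (g * a * g⁻¹) * g⁻¹ = (g * g) * a * (g * g)⁻¹ := by group
          _ = a := by rw [hg]; group
      rw [h3, h4, sup_comm]
  have h3 : IsPGroup 2 ↥((zpowers a ⊔ zpowers b) ⊔ zpowers g) :=
    h1.to_sup_of_normal_left' (tb_pgroup hg) (tb_zp_le h2)
  obtain ⟨y, hy, h4⟩ := f.exists_fix h3 (hH ▸ le_top)
  exact ⟨y, hy, h4 a (mem_sup_left (mem_sup_left (mem_zpowers a))), h4 b (mem_sup_left (mem_sup_right (mem_zpowers b))),
    h4 g (mem_sup_right (mem_zpowers g))⟩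

/-- `van_PN`.  With `e` from `exists_e` put `e' a = e (zpowers a)`; for commuting transvections
`k a b = e' a y - e' b y` for any `y ∈ A` fixed by `a` and `b` (`exists_fix`; independent of `y`, as
both differences are `c [y, y']`).  `k2`: equivariance of `e`; `k3`: one `y` for `a, b, c`; `k4`: `y`
fixed by the 2-group `⟨a, b, g⟩`, `e = e' a y`.  `b y = e' a y - h a` for any transvection
`a ∈ st [y]` (they commute, `Sy.comm`). -/
theorem van_TB [Finite Γ] [FaithfulSMul Γ W] (hD : PT 2 W) (hs : Sy Γ W) (f : Fr 2 Γ Ω)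
    (hH : f.H = ⊤) (hY : f.Y = ⊥) : Van f (fx W) (Rf W (QT W)) 1 := by
  classical
  refine van_PN hD up_QT fun c hc hd => ?_
  obtain ⟨e, he1, he2⟩ := exists_e hD up_QT hc hd
  have hob : ∀ a : Γ, Tv W a → f.Ob (zpowers a) := fun a ha => ⟨hY ▸ bot_le, hH ▸ le_top, tb_pgroup ha.sq⟩
  have hq : ∀ a : Γ, Tv W a → QT W (zpowers a) := fun a ha => ⟨a, mem_zpowers a, ha⟩
  have hfix : ∀ (a : Γ) (y : Ω), y ∈ f.A → a • y = y → y ∈ f.fixA (zpowers a) := fun a y hy h =>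
    Fr.mem_fixA.2 ⟨hy, fun g hg => (zpowers_le (H := MulAction.stabilizer Γ y)).2 h hg⟩
  have e1 : ∀ a : Γ, Tv W a → ∀ x ∈ f.A, ∀ y ∈ f.A, a • x = x → a • y = y →
      c [x, y] = e (zpowers a) y - e (zpowers a) x := fun a ha x hx y hy h1 h2 =>
    he1 _ (hob a ha) (hq a ha) x (hfix a x hx h1) y (hfix a y hy h2)
  have e2 : ∀ a : Γ, Tv W a → ∀ y ∈ f.A, a • y = y → ∀ g : Γ,
      e (zpowers (g * a * g⁻¹)) (g • y) = g • e (zpowers a) y := fun a ha y hy h1 g => by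
    rw [← conj_zpowers]
    exact he2 _ (hob a ha) (hq a ha) g (hH ▸ mem_top g) y (hfix a y hy h1)
  obtain ⟨k, hk⟩ : ∃ k : Γ → Γ → W, ∀ a b : Γ, Tv W a → Tv W b → ∀ y ∈ f.A, a • y = y → b • y = y →
      k a b = e (zpowers a) y - e (zpowers b) y := by
    refine ⟨fun a b => if h : ∃ y ∈ f.A, a • y = y ∧ b • y = y then
      e (zpowers a) h.choose - e (zpowers b) h.choose else 0, fun a b ha hb y hy h1 h2 => ?_⟩
    have h : ∃ y ∈ f.A, a • y = y ∧ b • y = y := ⟨y, hy, h1, h2⟩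
    obtain ⟨h3, h4, h5⟩ := h.choose_spec
    have h6 := e1 a ha _ h3 y hy h4 h1
    rw [e1 b hb _ h3 y hy h5 h2] at h6
    simp only [dif_pos h]
    rw [sub_eq_sub_iff_sub_eq_sub] at h6
    rw [← neg_sub, ← h6, neg_sub]
  obtain ⟨h, hh⟩ := kp hs k (by
    intro g a b ha hb hab
    obtain ⟨y, hy, h1, h2, -⟩ := tb_fix f hH (g := 1) ha.sq hb.sq (mul_one 1) hab (Or.inl ⟨by group, by group⟩)
    rw [hk _ _ (ha.conj g) (hb.conj g) (g • y) (f.inv g (hH ▸ mem_top g) y hy)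
      (by rw [mul_smul, mul_smul, inv_smul_smul, h1]) (by rw [mul_smul, mul_smul, inv_smul_smul, h2]),
      hk a b ha hb y hy h1 h2, e2 a ha y hy h1, e2 b hb y hy h2, smul_sub]) (by
    intro a b c ha hb hc hab hbc hac
    obtain ⟨y, hy, h1, h2, h3⟩ := tb_fix f hH (g := c) ha.sq hb.sq hc.sq hab
      (Or.inl ⟨by rw [← hac, mul_inv_cancel_right], by rw [← hbc, mul_inv_cancel_right]⟩)
    rw [hk a b ha hb y hy h1 h2, hk b c hb hc y hy h2 h3, hk a c ha hc y hy h1 h3, sub_add_sub_cancel]) (by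
    intro a b g ha hb hab hg hgab
    obtain ⟨y, hy, h1, h2, h3⟩ := tb_fix f hH (g := g) ha.sq hb.sq hg hab (Or.inr hgab)
    refine ⟨e (zpowers a) y, ?_, ?_, ?_⟩
    · rw [← e2 a ha y hy h1 a, mul_inv_cancel_right, h1]
    · rw [← e2 a ha y hy h1 b, ← hab, mul_inv_cancel_right, h2]
    · rw [hk a b ha hb y hy h1 h2, ← e2 a ha y hy h1 g, hgab, h3])
  obtain ⟨b, hb⟩ : ∃ b : Ω → W, ∀ y ∈ f.A, ∀ a : Γ, Tv W a → a • y = y → b y = e (zpowers a) y - h a := by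
    refine ⟨fun y => if hx : ∃ a : Γ, Tv W a ∧ a • y = y then e (zpowers hx.choose) y - h hx.choose else 0,
      fun y hy a ha h1 => ?_⟩
    have hx : ∃ a : Γ, Tv W a ∧ a • y = y := ⟨a, ha, h1⟩
    obtain ⟨h2, h3⟩ := hx.choose_spec
    have hP : IsPGroup 2 (f.st [y]) := (Fr.ob_st (fu_in_one.2 hy) (by simp)).2.2
    have h4 := hs.comm h2 ha hP (fu_st_one.2 ⟨hH ▸ mem_top _, h3⟩) (fu_st_one.2 ⟨hH ▸ mem_top _, h1⟩)
    have h5 := hh _ _ h2 ha h4
    rw [hk _ _ h2 ha y hy h3 h1] at h5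
    simp only [dif_pos hx]
    exact sub_eq_sub_iff_sub_eq_sub.1 h5
  refine ⟨b, fun x hx y hy ⟨t, ht, hT⟩ => ?_⟩
  obtain ⟨-, h1, h2⟩ := fu_st_two.1 ht
  rw [hb x hx t hT h1, hb y hy t hT h2, e1 t hT x hx y hy h1 h2, sub_sub_sub_cancel_right]

end Cfsg.Lib.LK
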