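import Cfsg.Agent.Lib.LK.St
import Cfsg.Agent.Lib.LK.TB

set_option autoImplicit false

namespace Cfsg.Lib.LK

open Subgroup Cfsg.Lib.Transfer
open scoped commutatorElement

variable {Γ Ω W : Type*} [Group Γ] [MulAction Γ Ω] [AddCommGroup W] [DistribMulAction Γ W]

theorem t2_Rf_congr {Q Q' : Subgroup Γ → Prop} {P : Subgroup Γ} (h : Q P ↔ Q' P) : Rf W Q P = Rf W Q' P := by
  by_cases h1 : Q P
  · rw [Rf, Rf, ite'_pos h1, ite'_pos (h.1 h1)]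
  · rw [Rf, Rf, ite'_neg h1, ite'_neg fun h2 => h1 (h.2 h2)]
/-- If `hc` of `star` fails: `Q0 ⊥ = QT` on 2-groups (`exists_MBo`, `MBo.cases`, `QT.q0`), `sy_of`,
`van_TB`, `Van.congr`.  Else `van_L1` with `M = Rf Q_N`, `Q_N P = ¬ J NS P ≤ ⊥`: `van_LN`
(`cf_of_np`, `SNP.np`, `H₀ = ⊤`, `W = ⊤`), and `Van (Rf Q_N) (Rf Q0) 1` by `van_FL` with
`j = J TvS` (`cl_J'`): slice `X = ⊥` trivial (`MBo.cases`), slice `X ∈ Q_N` trivial, else it is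
`(Rf Q', Z0)` with `Q' P = J TvS P ≠ X ∨ Q_N P`: `van_R1` with `Z = J NS T ⊔ X`, `star`, `CF`. -/
theorem van_T2 [Finite Γ] [Finite W] [FaithfulSMul Γ W] (hD : PT 2 W) (hO : O2 Γ) (f : Fr 2 Γ Ω)
    (hH : f.H = ⊤) (hY : f.Y = ⊥) : Van f (fx W) (Rf W (Q0 W ⊥)) 1 := by
  have hQ : Up f (Q0 W ⊥) := hY ▸ up_Q0 f
  have mono : ∀ {A P : Subgroup Γ}, Q0 W ⊥ A → A ≤ P → Q0 W ⊥ P := fun h hle h' =>
    h ((J_mono _ hle).trans h')
  have nb : ∀ A ∈ NS Γ W, ¬ A ≤ ⊥ := fun A hA h => hA.2.1 ((J_le _ A).trans h)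
  by_cases hc : (∃ a b : Γ, CAx W a b) ∨ ∃ B : Subgroup Γ, MBo W ⊥ B ∧ B ∈ NS Γ W
  swap
  · rw [not_or] at hc
    refine (van_TB hD (sy_of hO hc.1) f hH hY).congr le_rfl (fun _ _ => rfl) fun P hP => ?_
    refine t2_Rf_congr ⟨QT.q0, fun h => ?_⟩
    obtain ⟨B, hB, hle⟩ := exists_MBo h
    rcases hB.cases hD (hP.2.2.to_le hle) with ⟨t, ht, rfl⟩ | h'
    · exact ⟨t, hle (mem_zpowers t), ht⟩
    · exact absurd ⟨B, hB, h'.2⟩ hc.2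
  have hcf : CF 2 ⊤ (⊤ : AddSubgroup W) (NS Γ W) :=
    cf_of_np hD inv_NS (fun _ _ _ _ => trivial) fun A hA _ _ => hA.2.2.np
  have iN : Inv f.H (NS Γ W) := fun g _ => inv_NS g trivial
  have iT : Inv f.H (TvS Γ W) := fun g _ => inv_TvS g trivial
  have hN : Up f fun P => ¬ J (NS Γ W) P ≤ ⊥ := hY ▸ up_J iN
  have hNQ : ∀ P, ¬ J (NS Γ W) P ≤ ⊥ → Q0 W ⊥ P := fun P h => by
    by_contra h'
    exact h (J_le_iff.2 fun A hA hle => absurd (mono hA.2.1 hle) h')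
  have hS := sys_Rf_Rf (D := W) hN hQ fun P _ => hNQ P
  refine van_L1 (sys_Rf hQ).1 (fam_Rf hN) hS.le (sys_Rf hN).1.le le_rfl
    (hY ▸ (van_LN hD inv_NS hcf le_rfl f le_top le_top).2) ?_
  have hj := cl_J' iT (.inr hY)
  refine van_FL hS hj le_rfl fun X hX e => ?_
  by_cases hX0 : X = ⊥
  · refine van_of_le fun P hP => ?_
    by_cases hP' : J (TvS Γ W) P ≠ X
    · rw [ite'_pos (Q := fun P => J (TvS Γ W) P ≠ X) hP']
    rw [ite'_neg (Q := fun P => J (TvS Γ W) P ≠ X) hP']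
    refine (t2_Rf_congr ⟨hNQ P, fun h h' => ?_⟩).le
    obtain ⟨B, hB, hle⟩ := exists_MBo h
    rcases hB.cases hD (hP.2.2.to_le hle) with h1 | h1
    · exact hB.2.1 (le_bot_iff.1 ((le_J h1 hle).trans_eq ((not_not.1 hP').trans hX0)))
    · exact nb B h1.2 ((le_J h1.2 hle).trans h')
  have hXQ : Q0 W ⊥ X := by
    by_contra h
    refine hX0 (le_bot_iff.1 (e.ge.trans (J_le_iff.2 ?_)))
    rintro _ ⟨t, ht, rfl⟩ hle
    exact absurd (QT.q0 ⟨t, hle (mem_zpowers t), ht⟩) h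
  have h0 : ∀ P, (f.loc X hX).Ob P → Rf W (Q0 W ⊥) P = Z0 Γ W P := fun P hP =>
    ite'_pos (mono hXQ hP.1)
  by_cases hXN : ¬ J (NS Γ W) X ≤ ⊥
  · refine van_of_le fun P hP => ?_
    by_cases hP' : J (TvS Γ W) P ≠ X
    · rw [ite'_pos (Q := fun P => J (TvS Γ W) P ≠ X) hP']
    rw [ite'_neg (Q := fun P => J (TvS Γ W) P ≠ X) hP', Rf,
      ite'_pos (Q := fun P => ¬ J (NS Γ W) P ≤ ⊥) fun h => hXN ((J_mono _ hP.1).trans h)]
    exact bot_le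
  obtain ⟨T, hT, -⟩ := exists_syl (p := 2) (X := ⊥) (H := (f.loc X hX).H) IsPGroup.of_bot bot_le
  obtain ⟨A, hA, hAX⟩ := star hD hO hc hX.2.2 e fun A hA hle =>
    nb A hA ((le_J hA hle).trans (not_not.1 hXN))
  obtain ⟨g, -, hg⟩ := hT.conj_le hA.1 (le_inf (hH ▸ le_top) hAX)
  have hA' := inv_NS g trivial A hA
  refine (van_R1 hD ((hj.up_ne hX e).or (hN.loc hX)) hT fun _ => ⟨J (NS Γ W) T ⊔ X, le_sup_right,
    sup_le (J_le _ T) hT.ob.1, .inr fun h => nb _ hA' ((le_J hA' ((le_J hA' hg).trans le_sup_left)).trans h),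
    fun v hv _ => hcf _ le_top T hT v trivial fun g hg => hv g ⟨hg.1, conj_eq_self_iff.1 ?_⟩⟩).congr le_rfl
    (fun P hP => ?_) fun P hP => (h0 P hP).symm
  · rw [conj_sup, conj_eq_self_iff.2 hg.2, conj_eq_self_iff.2 hg.1.2]
  · by_cases hP' : J (TvS Γ W) P ≠ X
    · rw [ite'_pos (Q := fun P => J (TvS Γ W) P ≠ X) hP', h0 P hP]
      exact ite'_pos (Q := fun P => J (TvS Γ W) P ≠ X ∨ ¬ J (NS Γ W) P ≤ ⊥) (.inl hP')
    · rw [ite'_neg (Q := fun P => J (TvS Γ W) P ≠ X) hP']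
      exact t2_Rf_congr (or_iff_right hP')

end Cfsg.Lib.LK
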