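import Cfsg.Agent.Lib.LK.FC
import Cfsg.Agent.Lib.LK.T2

set_option autoImplicit false

namespace Cfsg.Lib.LK

open Subgroup Cfsg.Lib.Transfer
open scoped commutatorElement

variable {p : ℕ} {G Ω D : Type*} [Group G] [MulAction G Ω] [AddCommGroup D] [DistribMulAction G D]
  {f : Fr p G Ω} {N O M N' O' : Subgroup G → AddSubgroup D} {Q : Subgroup G → Prop} {k : ℕ}

/-- objects `B ≥ Y` correspond to their images: `|B| = |ρ B| |Y|`, `fx B = ι (fx (ρ B))`, and every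
subgroup of `ρ P` is the image of an object `≤ P` -/
theorem q0_iff [Finite G] [Finite D] [Fact p.Prime] {Γ W : Type*} [Group Γ] [AddCommGroup W]
    [DistribMulAction Γ W] (f : Fr p G Ω) (ρ : f.H →* Γ) (ι : W →+ D)
    (hι : Function.Injective ι) (hr : ι.range = fx D f.Y)
    (he : ∀ (h : f.H) (w : W), ι (ρ h • w) = (h : G) • ι w)
    (hY : ∀ h : f.H, (h : G) ∈ f.Y → ρ h = 1)
    (hK : ∀ h : f.H, ρ h = 1 → (∃ n : ℕ, (h : G) ^ p ^ n = 1) → (h : G) ∈ f.Y)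
    {P : Subgroup G} (hP : f.Ob P) : Q0 D f.Y P ↔ Q0 W ⊥ ((P.subgroupOf f.H).map ρ) := by
  let φ : Subgroup G → Subgroup Γ := fun B => (B.subgroupOf f.H).map ρ
  have φm : ∀ {A B}, A ≤ B → φ A ≤ φ B := fun h => map_mono (comap_mono h)
  have hk : ∀ h : f.H, (h : G) ∈ P → ρ h = 1 → (h : G) ∈ f.Y := fun h h1 h2 =>
    hK h h2 ((hP.2.2 ⟨h, h1⟩).imp fun n e => congrArg Subtype.val e)
  have c1 : ∀ B, f.Y ≤ B → B ≤ P → Nat.card B = Nat.card f.Y * Nat.card (φ B) := fun B h1 h2 => by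
    rw [← card_mul_relIndex h1, ← relIndex_ker, ← relIndex_subgroupOf (h2.trans hP.2.1),
      ← inf_relIndex_right ρ.ker]
    congr 2
    exact le_antisymm (fun h hh => ⟨hY h hh, h1 hh⟩) fun h hh => hk h (h2 hh.2) hh.1
  have m0 : ∀ w, ι w ∈ fx D f.Y := fun w => hr ▸ ⟨w, rfl⟩
  have c2 : ∀ B, f.Y ≤ B → B ≤ P → Nat.card (fx D B) = Nat.card (fx W (φ B)) := fun B h1 h2 => by
    rw [← AddSubgroup.card_map_of_injective (K := fx W (φ B)) hι]
    congr 2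
    refine le_antisymm (fun v hv => ?_) ?_
    · obtain ⟨w, rfl⟩ := hr.ge (fx_anti h1 hv)
      refine ⟨w, ?_, rfl⟩
      rintro _ ⟨h, hh, rfl⟩
      exact hι ((he h w).trans (hv h hh))
    · rintro _ ⟨w, hw, rfl⟩ g hg
      exact (he ⟨g, hP.2.1 (h2 hg)⟩ w).symm.trans (congrArg ι (hw _ ⟨_, hg, rfl⟩))
  have c3 : ∀ B, f.Y ≤ B → B ≤ P → ∀ B' ≤ φ B, ∃ A, f.Y ≤ A ∧ A ≤ B ∧ φ A = B' := fun B h1 h2 B' h3 =>
    ⟨(B'.comap ρ).map f.H.subtype ⊓ B, fun y hy => ⟨⟨⟨y, f.Yle hy⟩, by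
      rw [SetLike.mem_coe, mem_comap, hY _ hy]; exact one_mem _, rfl⟩, h1 hy⟩, inf_le_right, by
      refine le_antisymm ?_ fun x hx => ?_
      · rintro _ ⟨h, ⟨⟨h', h4, e⟩, -⟩, rfl⟩
        exact (Subtype.ext e : h' = h) ▸ h4
      · obtain ⟨h, h4, rfl⟩ := h3 hx
        exact ⟨h, ⟨⟨h, hx, rfl⟩, h4⟩, rfl⟩⟩
  have c4 : ∀ B, f.Y ≤ B → B ≤ P → (Bo D f.Y B ↔ Bo W ⊥ (φ B)) := fun B h1 h2 => by
    have key : ∀ A, f.Y ≤ A → A ≤ B → (Nat.card A * Nat.card (fx D A) ≤ Nat.card B * Nat.card (fx D B) ↔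
        Nat.card (φ A) * Nat.card (fx W (φ A)) ≤ Nat.card (φ B) * Nat.card (fx W (φ B))) := fun A h3 h4 => by
      rw [c1 A h3 (h4.trans h2), c1 B h1 h2, c2 A h3 (h4.trans h2), c2 B h1 h2, mul_assoc, mul_assoc,
        Nat.mul_le_mul_left_iff Nat.card_pos]
    refine ⟨fun h => ⟨bot_le, ?_, fun B' _ h3 => ?_⟩, fun h => ⟨h1, fun a ha b hb v hv => ?_,
      fun A h3 h4 => (key A h3 h4).2 (h.best _ bot_le (φm h4))⟩⟩
    · rintro _ ⟨a, ha, rfl⟩ _ ⟨b, hb, rfl⟩ w -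
      exact hι (by rw [he, he, he, he, h.comm a ha b hb _ (m0 w)])
    · obtain ⟨A, h4, h5, rfl⟩ := c3 B h1 h2 B' h3
      exact (key A h4 h5).1 (h.best A h4 h5)
    · obtain ⟨w, rfl⟩ := hr.ge hv
      have := congrArg ι (h.comm _ ⟨⟨a, hP.2.1 (h2 ha)⟩, ha, rfl⟩ _ ⟨⟨b, hP.2.1 (h2 hb)⟩, hb, rfl⟩ w
        fun g hg => by rw [mem_bot.1 hg, one_smul])
      rwa [he, he, he, he] at this
  have c5 : ∀ B, B ≤ P → (B ≤ f.Y ↔ φ B ≤ ⊥) := fun B h2 =>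
    ⟨fun h => by rintro _ ⟨a, ha, rfl⟩; exact hY a (h ha), fun h b hb =>
      hk ⟨b, hP.2.1 (h2 hb)⟩ (h2 hb) (h ⟨_, hb, rfl⟩)⟩
  refine not_congr (J_le_iff.trans (Iff.trans ⟨fun h B' hB' hle => ?_, fun h B hB hle => ?_⟩ J_le_iff.symm))
  · obtain ⟨A, h1, h2, rfl⟩ := c3 P hP.1 le_rfl B' hle
    exact (c5 A h2).1 (h A ((c4 A h1 h2).2 hB') h2)
  · exact (c5 B hle).2 (h _ ((c4 B hB.le hle).1 hB) (φm hle))

/-- `Q' P = Q0 P ∨ ¬ p ∣ (P ⊓ U).relIndex U`.  `van_L1` with `M = Rf Q'`.  `Van M Z0` by `van_lamI`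
(`exists_pgrp_normalizer` with a Sylow subgroup of `U` above `X ⊓ U`).  `Van (Rf Q0) M` by `van_FL`
with `cl_inf`: the slice at `X ≤ U` is trivial unless `X` is Sylow in `U`; then `X ≠ Y`, every object
`P` of `loc X` has `P ⊓ U = X`, the slice is `(Rf Q0, Z0)`, and `ih` applies (`J_BoS_le`). -/
theorem base_a [Finite G] [Finite D] [Fact p.Prime] (hD : PT p D) (hk : 1 ≤ k) (f : Fr p G Ω)
    (ih : ∀ X (hX : f.Ob X), X ≠ f.Y → LAs D (f.loc X hX) k) {U T : Subgroup G} (hUH : U ≤ f.H)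
    (hYU : f.Y ≤ U) (hU : f.H ≤ normalizer (U : Set G)) (hact : PAct p U (fx D f.Y) ⊥)
    (hT : IsPGroup p T) (hTU : T ≤ U) (hTY : ¬ T ≤ f.Y) :
    Van f (Rf D (Q0 D f.Y)) (Z0 G D) k := by
  have hQ : Up f (Q0 D f.Y) := up_Q0 f
  have hR : Up f fun P => ¬ p ∣ (P ⊓ U).relIndex U :=
    ⟨fun P P' _ _ hle h h' => h (h'.trans (relIndex_dvd_of_le_left U (inf_le_inf_right U hle))),
      fun P _ g hg h => by
        rwa [← relIndex_conj g, conj_inf, conj_eq_self_iff.2 (hU hg)] at h⟩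
  have hQ' := hQ.or hR
  have hS := sys_Rf_Rf (D := D) hQ hQ' fun P _ => Or.inl
  refine van_L1 (sys_Rf hQ).2 (fam_Rf hQ') (sys_Rf hQ').2.le hS.le hk ?_ ?_
  · refine van_FL hS (cl_inf hU hYU) hk fun X hX e => ?_
    by_cases hp : p ∣ X.relIndex U
    · refine van_of_le fun P _ => ?_
      by_cases hP' : P ⊓ U ≠ X
      · rw [ite'_pos (Q := fun P => P ⊓ U ≠ X) hP']
      · rw [ite'_neg (Q := fun P => P ⊓ U ≠ X) hP']
        exact (t2_Rf_congr (or_iff_left (by rw [not_not.1 hP']; exact not_not.2 hp)).symm).le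
    have hXY : X ≠ f.Y := fun h => by
      obtain ⟨g, hg, hle⟩ := exists_conj_le_of_not_dvd_relIndex' hp hT hTU
      rw [h, conj_le_iff_le_inv_conj, conj_Y (inv_mem (hUH hg))] at hle
      exact hTY hle
    have h1 : ∀ P, (f.loc X hX).Ob P → P ⊓ U = X := fun P hP =>
      (eq_of_not_dvd_relIndex_of_le hp (hP.2.2.to_le inf_le_left) inf_le_right
        (le_inf hP.1 (e.ge.trans inf_le_right))).symm
    refine (ih X hX hXY (Q0 D f.Y) (hQ.loc hX) fun P hP h => ?_).congr hk (fun P hP => ?_) fun P hP => ?_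
    · rwa [Q0, Fr.loc_Y, J_J _ (J_BoS_le hX.1 hP.1 (hP.2.1.trans inf_le_right)) (J_le _ P)]
    · exact (ite'_neg (Q := fun P => P ⊓ U ≠ X) (not_not.2 (h1 P hP))).symm
    · exact (ite'_pos (Q := fun P => Q0 D f.Y P ∨ ¬ p ∣ (P ⊓ U).relIndex U) (.inr (by rwa [h1 P hP]))).symm
  · refine van_lamI (sys_Rf hQ').2 hk fun X hX => ?_
    by_cases h : Q0 D f.Y X ∨ ¬ p ∣ (X ⊓ U).relIndex U
    · exact .inl (ite'_pos (Q := fun P => Q0 D f.Y P ∨ ¬ p ∣ (P ⊓ U).relIndex U) h).le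
    obtain ⟨T₀, h1, h2⟩ := exists_syl (hX.2.2.to_le inf_le_left) (inf_le_right : X ⊓ U ≤ U)
    obtain ⟨T', h3, h4, h5⟩ := exists_pgrp_normalizer hX.2.2 (hX.2.1.trans hU) h1.2.1
      (h2.lt_of_ne fun e => h (.inr (e ▸ h1.2.2))) h1.1
    refine .inr ⟨hD.imp fun e he v _ => he v, U, T', inf_le_left.trans hU, fun u hu => ?_, h3,
      le_inf (h4.trans inf_le_left) (le_inf ((h4.trans inf_le_left).trans hUH) (h4.trans inf_le_right)), h5⟩
    exact (hact u hu.1).imp fun n hn v hv => hn v (fx_anti hX.1 ((sys_Rf hQ').1.le X hX hv))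

/-- `W = fx D f.Y`, `Γ` = image of `H` in `AddAut W` (acts faithfully), `U` = preimage of `O₂(Γ)`.
If some 2-subgroup of `U` is not in `Y`: `base_a`.  Else `O2 Γ` (a Sylow 2-subgroup of the preimage
of `N` maps onto `N`) and `hK`; `van_L3` with `van_full`, `van_FC`, `q0_iff`, `van_T2`. -/
theorem base2 [Finite G] [Finite D] (hD : PT 2 D) (f : Fr 2 G Ω)
    (ih : ∀ X (hX : f.Ob X), X ≠ f.Y → LAs D (f.loc X hX) 2) :
    Van f (Rf D (Q0 D f.Y)) (Z0 G D) 2 := by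
  letI : DistribMulAction f.H (fx D f.Y) :=
    { smul := fun h w => ⟨(h : G) • (w : D), by
        have := smul_mem_fx (h : G) w.2
        rwa [conj_Y h.2] at this⟩
      one_smul := fun w => Subtype.ext (one_smul G (w : D))
      mul_smul := fun a b w => Subtype.ext (mul_smul (a : G) (b : G) (w : D))
      smul_zero := fun a => Subtype.ext (smul_zero (a : G))
      smul_add := fun a v w => Subtype.ext (smul_add (a : G) (v : D) (w : D)) }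
  let σ := MulAction.toPermHom f.H (fx D f.Y)
  letI : DistribMulAction σ.range (fx D f.Y) :=
    { smul_zero := by rintro ⟨_, a, rfl⟩; exact smul_zero a
      smul_add := by rintro ⟨_, a, rfl⟩ v w; exact smul_add a v w }
  have he : ∀ (h : f.H) (w : fx D f.Y), (fx D f.Y).subtype (σ.rangeRestrict h • w) =
      (h : G) • (fx D f.Y).subtype w := fun _ _ => rfl
  have hY : ∀ h : f.H, (h : G) ∈ f.Y → σ.rangeRestrict h = 1 := fun h hh =>
    Subtype.ext (Equiv.ext fun w => Subtype.ext (w.2 h hh))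
  by_cases hc : ∃ N : Subgroup σ.range, N.Normal ∧ IsPGroup 2 N ∧ ∃ T : Subgroup G, IsPGroup 2 T ∧
      T ≤ (N.comap σ.rangeRestrict).map f.H.subtype ∧ ¬ T ≤ f.Y
  · obtain ⟨N, h1, h2, T, h3, h4, h5⟩ := hc
    refine base_a hD one_le_two f ih (map_subtype_le _) (fun y hy => ⟨⟨y, f.Yle hy⟩, ?_, rfl⟩)
      (fun g hg => mem_normalizer_of_conj_le (conj_le_iff.2 ?_)) ?_ h3 h4 h5
    · rw [SetLike.mem_coe, mem_comap, hY _ hy]; exact one_mem _
    · rintro _ ⟨u, hu, rfl⟩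
      exact ⟨⟨g, hg⟩ * u * ⟨g, hg⟩⁻¹, (h1.comap _).conj_mem u hu _, rfl⟩
    · rintro _ ⟨u, hu, rfl⟩
      obtain ⟨n, hn⟩ := h2 ⟨_, hu⟩
      refine ⟨n, fun v hv => AddSubgroup.mem_bot.2 (sub_eq_zero.2 ?_)⟩
      have h6 : σ.rangeRestrict (u ^ 2 ^ n) = 1 := by rw [map_pow]; exact congrArg Subtype.val hn
      have := he (u ^ 2 ^ n) ⟨v, hv⟩
      rw [h6, one_smul] at this
      exact this.symm
  have key : ∀ N : Subgroup σ.range, N.Normal → IsPGroup 2 N → ∀ h : f.H, σ.rangeRestrict h ∈ N →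
      (∃ n : ℕ, (h : G) ^ 2 ^ n = 1) → (h : G) ∈ f.Y := fun N h1 h2 h h3 ⟨n, hn⟩ => by
    by_contra h4
    refine hc ⟨N, h1, h2, zpowers (h : G), ?_, zpowers_le.2 ⟨h, h3, rfl⟩, fun h5 => h4 (h5 (mem_zpowers _))⟩
    rintro ⟨_, m, rfl⟩
    refine ⟨n, Subtype.ext ?_⟩
    change ((h : G) ^ m) ^ 2 ^ n = 1
    rw [← zpow_natCast, ← zpow_mul, mul_comm, zpow_mul, zpow_natCast, hn, one_zpow]
  have hK : ∀ h : f.H, σ.rangeRestrict h = 1 → (∃ n : ℕ, (h : G) ^ 2 ^ n = 1) → (h : G) ∈ f.Y :=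
    fun h hh => key ⊥ inferInstance IsPGroup.of_bot h hh
  have hO : O2 σ.range := fun N h1 h2 => eq_bot_iff.2 fun x hx => by
    obtain ⟨h, rfl⟩ := σ.rangeRestrict_surjective x
    obtain ⟨a, m, hm, e⟩ := Nat.exists_eq_pow_mul_and_not_dvd (orderOf_pos h).ne' 2 (by norm_num)
    have h3 := hY _ (key N h1 h2 (h ^ m) (by rw [map_pow]; exact pow_mem hx m) ⟨a, by
      rw [← coe_pow, ← pow_mul, mul_comm, ← e, pow_orderOf_eq_one, coe_one]⟩)
    obtain ⟨n, hn⟩ := h2 ⟨_, hx⟩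
    rw [map_pow] at h3
    exact mem_bot.2 (orderOf_eq_one_iff.1 (Nat.eq_one_of_dvd_coprimes
      (((Nat.Prime.coprime_iff_not_dvd Nat.prime_two).2 hm).pow_left n)
      (orderOf_dvd_of_pow_eq_one (congrArg Subtype.val hn)) (orderOf_dvd_of_pow_eq_one h3)))
  have hQ : Up f (Q0 D f.Y) := up_Q0 f
  have hW : PT 2 (fx D f.Y) := hD.imp fun e h v => Subtype.ext (h v)
  exact van_L3 sys_fx (fam_Rf hQ) (sys_Rf hQ).2.le (sys_Rf hQ).1.le le_rfl (van_full hD)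
    (van_FC hD f σ.rangeRestrict σ.rangeRestrict_surjective (fx D f.Y).subtype Subtype.val_injective
      (AddSubgroup.range_subtype _) he hY hK hQ
      (fun P hP => q0_iff f σ.rangeRestrict (fx D f.Y).subtype Subtype.val_injective
        (AddSubgroup.range_subtype _) he hY hK hP)
      fun S hS => van_T2 hW hO (topFr S hS) rfl rfl)

end Cfsg.Lib.LK
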