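import Cfsg.Agent.Lib.LK.Bas

set_option autoImplicit false

namespace Cfsg.Lib.LK

open Subgroup Cfsg.Lib.Transfer
open scoped commutatorElement

variable {p : ℕ} {G Ω D : Type*} [Group G] [MulAction G Ω] [AddCommGroup D] [DistribMulAction G D]
  {f : Fr p G Ω} {N O M N' O' : Subgroup G → AddSubgroup D} {Q : Subgroup G → Prop} {k : ℕ}

variable {X Y B P : Subgroup G}

theorem bo_card_mul {H K : Subgroup G} (h : H ≤ K) : Nat.card H * H.relIndex K = Nat.card K := by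
  rw [← Nat.card_congr (subgroupOfEquivOfLe h).toEquiv]
  exact card_mul_index _

theorem bo_card_add (H K : AddSubgroup D) : Nat.card ↥(H ⊓ K) * H.relIndex K = Nat.card K := by
  rw [← Nat.card_congr (AddSubgroup.addSubgroupOfEquivOfLe (inf_le_right (a := H) (b := K))).toEquiv,
    AddSubgroup.inf_addSubgroupOf_right]
  exact AddSubgroup.card_mul_index _

theorem bo_smul_mem {g : G} {v : D} (hg : g ∈ normalizer (X : Set G)) (hv : v ∈ fx D X) :
    g • v ∈ fx D X := conj_eq_self_iff.2 hg ▸ smul_mem_fx g hv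

theorem PT.card [Finite D] [Fact p.Prime] (hD : PT p D) : ∃ n, Nat.card D = p ^ n := by
  obtain ⟨e, he⟩ := hD
  exact (IsPGroup.iff_card (G := Multiplicative D)).1 (show IsPGroup p (Multiplicative D) from fun g => ⟨e, he g.toAdd⟩)

theorem Bo.idx [Finite G] [Finite D] (h : Bo D Y B) {B₀ : Subgroup G} (h1 : Y ≤ B₀) (h2 : B₀ ≤ B) :
    (fx D B).relIndex (fx D B₀) ≤ B₀.relIndex B := by
  have h3 := h.best B₀ h1 h2
  have h4 := bo_card_add (fx D B) (fx D B₀)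
  rw [inf_of_le_left (fx_anti h2)] at h4
  rw [← h4, ← bo_card_mul h2, mul_assoc, mul_comm (B₀.relIndex B)] at h3
  exact Nat.le_of_mul_le_mul_left (Nat.le_of_mul_le_mul_left h3 Nat.card_pos) Nat.card_pos

theorem bo_self : Bo D Y Y :=
  ⟨le_rfl, fun a ha b hb v hv => by rw [hv b hb, hv a ha, hv b hb],
    fun B₀ h1 h2 => by rw [le_antisymm h2 h1]⟩
theorem card_fx_conj (g : G) (P : Subgroup G) :
    Nat.card (fx D (g ⋆ P)) = Nat.card (fx D P) :=
  (Nat.card_congr ⟨fun v => ⟨g • v.1, smul_mem_fx g v.2⟩,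
    fun v => ⟨g⁻¹ • v.1, by simpa only [inv_conj_conj] using smul_mem_fx g⁻¹ v.2⟩,
    fun v => Subtype.ext (inv_smul_smul g v.1), fun v => Subtype.ext (smul_inv_smul g v.1)⟩).symm
theorem Bo.conj (h : Bo D Y B) {g : G} (hg : g ∈ normalizer (Y : Set G)) : Bo D Y (g ⋆ B) := by
  have hY := conj_eq_self_iff.2 hg
  have hY' := conj_eq_self_iff.2 (inv_mem hg)
  refine ⟨hY ▸ conj_mono g h.le, fun a ha b hb v hv => ?_, fun B₀ h1 h2 => ?_⟩
  · have := h.comm _ (mem_conj.1 ha) _ (mem_conj.1 hb) _ (hY' ▸ smul_mem_fx g⁻¹ hv)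
    simpa only [mul_smul, smul_inv_smul, smul_left_cancel_iff] using this
  · have := h.best (g⁻¹ ⋆ B₀) (hY' ▸ conj_mono g⁻¹ h1) (le_conj_iff_inv_conj_le.1 h2)
    rwa [card_conj, card_fx_conj, ← card_conj g B, ← card_fx_conj g B] at this
theorem MBo.conj (h : MBo D Y B) {g : G} (hg : g ∈ normalizer (Y : Set G)) :
    MBo D Y (g ⋆ B) := by
  have hY := conj_eq_self_iff.2 hg
  have hY' := conj_eq_self_iff.2 (inv_mem hg)
  refine ⟨h.1.conj hg, fun e => h.2.1 (conj_inj.1 (e.trans hY.symm)), fun B' h1 h2 => ?_⟩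
  rcases h.2.2 _ (h1.conj (inv_mem hg)) (le_conj_iff_inv_conj_le.1 h2) with e | e
  · exact Or.inl (conj_inj.1 (e.trans hY'.symm))
  · exact Or.inr (by rw [← e, conj_inv_conj])
theorem inv_BoS (f : Fr p G Ω) : Inv f.H (BoS D f.Y) := fun _ hg _ hB => Bo.conj hB (f.Yn hg)
theorem cl_BoS (f : Fr p G Ω) : Cl f (J (BoS D f.Y)) := cl_J' (inv_BoS f) (Or.inl bo_self)
theorem up_Q0 (f : Fr p G Ω) : Up f (Q0 D f.Y) := up_J (inv_BoS f)

/-- For `X ≤ B₁ ≤ B ⊔ X` put `B₀ = B ⊓ B₁ ≥ Y`; `B₁ = B₀ X`, `|B ⊔ X : B₁| = |B : B₀|`,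
`fx B₁ = fx B₀ ⊓ fx X`, `fx (B ⊔ X) = fx B ⊓ fx X`, and
`|fx B₀ ⊓ fx X : fx B ⊓ fx X| ≤ |fx B₀ : fx B| ≤ |B : B₀|`. -/
theorem Bo.sup [Finite G] [Finite D] (h : Bo D Y B) (hYX : Y ≤ X)
    (hn : B ≤ normalizer (X : Set G)) : Bo D X (B ⊔ X) := by
  have hm : ∀ a ∈ B ⊔ X, ∃ b ∈ B, ∀ v ∈ fx D X, a • v = b • v := fun a ha => by
    have h1 : a ∈ ((B ⊔ X : Subgroup G) : Set G) := ha
    rw [coe_mul_of_left_le_normalizer_right B X hn] at h1
    obtain ⟨b, hb, x, hx, rfl⟩ := h1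
    exact ⟨b, hb, fun v hv => by rw [mul_smul, hv x hx]⟩
  refine ⟨le_sup_right, fun a ha b hb v hv => ?_, fun B₁ h1 h2 => ?_⟩
  · obtain ⟨a', ha', ea⟩ := hm a ha
    obtain ⟨b', hb', eb⟩ := hm b hb
    rw [ea v hv, eb v hv, ea _ (bo_smul_mem (hn hb') hv), eb _ (bo_smul_mem (hn ha') hv)]
    exact h.comm _ ha' _ hb' v (fx_anti hYX hv)
  · have h3 := h.idx (B₀ := B₁ ⊓ B) (le_inf (hYX.trans h1) h.le) inf_le_right
    rw [inf_relIndex_right] at h3
    have h4 : B₁.relIndex B ≤ B₁.relIndex (B ⊔ X) :=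
      relIndex_le_of_le_right le_sup_left index_ne_zero_of_finite
    have h5 : (fx D B).relIndex (fx D B₁) ≤ (fx D B).relIndex (fx D (B₁ ⊓ B)) :=
      AddSubgroup.relIndex_le_of_le_right (fx_anti inf_le_left) AddSubgroup.index_ne_zero_of_finite
    have h6 : Nat.card ↥(fx D B ⊓ fx D B₁) ≤ Nat.card (fx D (B ⊔ X)) := by
      rw [fx_sup]
      exact AddSubgroup.card_le_of_le (inf_le_inf_left _ (fx_anti h1))
    rw [← bo_card_add (fx D B) (fx D B₁), ← bo_card_mul h2, mul_assoc, mul_comm (B₁.relIndex _)]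
    exact Nat.mul_le_mul_left _ (Nat.mul_le_mul h6 (h5.trans (h3.trans h4)))

theorem J_BoS_le [Finite G] [Finite D] (hYX : Y ≤ X) (hXP : X ≤ P)
    (hn : P ≤ normalizer (X : Set G)) : J (BoS D Y) P ≤ J (BoS D X) P :=
  J_le_iff.2 fun _ hB hle =>
    le_sup_left.trans (le_J (Bo.sup hB hYX (hle.trans hn)) (sup_le hle hXP))

theorem exists_MBo [Finite G] (h : Q0 D Y P) : ∃ B, MBo D Y B ∧ B ≤ P := by
  have h1 : ∃ B, Bo D Y B ∧ B ≠ Y ∧ B ≤ P := by
    by_contra h2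
    exact h (J_le_iff.2 fun B hB hle => by_contra fun h3 => h2 ⟨B, hB, fun e => h3 e.le, hle⟩)
  obtain ⟨B, hB, hm⟩ := wellFounded_lt.has_min {B | Bo D Y B ∧ B ≠ Y ∧ B ≤ P} h1
  refine ⟨B, ⟨hB.1, hB.2.1, fun B' h2 h3 => ?_⟩, hB.2.2⟩
  by_cases e : B' = Y
  · exact Or.inl e
  · exact Or.inr (h3.eq_of_not_lt (hm B' ⟨h2, e, h3.trans hB.2.2⟩))
theorem MBo.q0 (h : MBo D Y B) (hP : B ≤ P) : Q0 D Y P :=
  fun h1 => h.2.1 (le_antisymm ((le_J h.1 hP).trans h1) h.1.le)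

/-- `A₀` is not a best offender, so `|A₀| |fx A₀| < |B₀| |fx B₀| ≤ |B| |fx B|` for some `B₀`, so
`|fx A₀ : fx B| < p`, a power of `p`. -/
theorem MBo.fx_eq [Finite G] [Finite D] [Fact p.Prime] (hD : PT p D) (h : MBo D Y B)
    {A₀ : Subgroup G} (h1 : Y < A₀) (h2 : A₀ ≤ B) (h3 : A₀.relIndex B = p) :
    fx D A₀ = fx D B := by
  have hp : p.Prime := Fact.out
  have h4 : ¬ Bo D Y A₀ := fun h5 => by
    rcases h.2.2 A₀ h5 h2 with e | e
    · exact h1.ne' e
    · rw [e, relIndex_self] at h3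
      exact hp.one_lt.ne h3
  have h5 : Nat.card A₀ * Nat.card (fx D A₀) < Nat.card B * Nat.card (fx D B) := by
    by_contra h6
    exact h4 ⟨h1.le, fun a ha b hb => h.1.comm a (h2 ha) b (h2 hb), fun B₀ h7 h8 =>
      (h.1.best B₀ h7 (h8.trans h2)).trans (not_lt.1 h6)⟩
  have h6 := bo_card_add (fx D B) (fx D A₀)
  have h7 := h6
  rw [inf_of_le_left (fx_anti h2)] at h7
  rw [← h7, ← bo_card_mul h2, h3, mul_assoc, mul_comm p] at h5
  have h8 := Nat.lt_of_mul_lt_mul_left (Nat.lt_of_mul_lt_mul_left h5)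
  obtain ⟨n, hn⟩ := hD.card
  obtain ⟨k, -, hk⟩ := (Nat.dvd_prime_pow hp).1
    (hn ▸ (Dvd.intro_left _ h6).trans (fx D A₀).card_addSubgroup_dvd_card)
  have h9 : k = 0 := by
    rw [hk] at h8
    by_contra h10
    exact h8.not_ge (Nat.le_self_pow h10 p)
  rw [h9, pow_zero] at hk
  exact le_antisymm (AddSubgroup.relIndex_eq_one.1 hk) (fx_anti h2)

/-- If `Y ≰ A₀` then `A₀ ⊔ Y = B` and `v ∈ fx B`; if `Y < A₀` use `fx_eq`; in both cases the sum is
`p • v`.  If `A₀ = Y`: `|fx Y : fx B| ≤ p`, `B = ⟨a⟩ Y`, the image `V'` of `w ↦ a w - w` on `fx Y` has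
order `≤ p` and is `a`-invariant, so `a` fixes it (`a ^ p` acts trivially); `a ^ i v = v + i u`,
`u = a v - v`, `p u = 0`, `∑ = p v + (p (p - 1) / 2) u = 0`. -/
theorem MBo.np_odd [Finite G] [Finite D] [Fact p.Prime] (hD : PT p D) (hp : p ≠ 2)
    (h : MBo D Y B) (hB : IsPGroup p B) (hn : B ≤ normalizer (Y : Set G)) :
    NP p (fx D Y) B := by
  have hpp : p.Prime := Fact.out
  intro A₀ h1 h2 v hv hpv hvA a ha ha'
  have key : v ∈ fx D B → ∑ i ∈ Finset.range p, a ^ i • v = 0 := fun h3 => by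
    rw [Finset.sum_congr rfl fun i _ => h3 _ (pow_mem ha i), Finset.sum_const, Finset.card_range, hpv]
  by_cases hY : Y ≤ A₀
  swap
  · have h3 := relIndex_mul_relIndex A₀ (A₀ ⊔ Y) B le_sup_left (sup_le h1 h.1.le)
    rw [h2] at h3
    rcases (Nat.dvd_prime hpp).1 (Dvd.intro_left _ h3) with e | e
    · exact key (fx_anti (relIndex_eq_one.1 e) (fx_sup (D := D) A₀ Y ▸ ⟨hvA, hv⟩))
    · rw [e] at h3
      exact absurd (le_sup_right.trans (relIndex_eq_one.1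
        (Nat.eq_of_mul_eq_mul_right hpp.pos (h3.trans (one_mul p).symm)))) hY
  rcases hY.lt_or_eq with hY | rfl
  · exact key (h.fx_eq hD hY h1 h2 ▸ hvA)
  let φ : D →+ D := DistribSMul.toAddMonoidHom D a - AddMonoidHom.id D
  have hφ : ∀ w, φ w = a • w - w := fun _ => rfl
  have h3 : Nat.card ((fx D Y).map φ) ≤ p := by
    rw [← AddSubgroup.relIndex_ker, ← h2]
    exact (AddSubgroup.relIndex_le_of_le_left
      (show fx D B ≤ φ.ker from fun w hw => sub_eq_zero.2 (hw a ha)) AddSubgroup.index_ne_zero_of_finite).trans (h.1.idx le_rfl h1)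
  have h4 : a • φ v = φ v := by
    by_cases e : φ v = 0
    · rw [e, smul_zero]
    obtain ⟨n, hn'⟩ := hB.card_orbit (φ v)
    have h5 : MulAction.orbit B (φ v) ⊆ ((fx D Y).map φ : Set D) \ {0} := by
      rintro _ ⟨b, rfl⟩
      refine ⟨⟨(b : G) • v, bo_smul_mem (hn b.2) hv, ?_⟩, fun h6 => e ((smul_eq_zero_iff_eq b).1 h6)⟩
      change a • (b : G) • v - (b : G) • v = (b : G) • (a • v - v)
      rw [smul_sub, h.1.comm a ha b b.2 v hv]
    have h6 := Set.ncard_le_ncard h5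
    rw [Set.ncard_diff_singleton_of_mem (zero_mem _), ← Nat.card_coe_set_eq, hn',
      ← Nat.card_coe_set_eq] at h6
    have h7 : n = 0 := by
      by_contra h8
      have := Nat.le_self_pow h8 p
      have := hpp.pos
      change _ ≤ Nat.card ((fx D Y).map φ) - 1 at h6
      omega
    rw [h7, pow_zero, Nat.card_coe_set_eq, Set.ncard_eq_one] at hn'
    obtain ⟨z, hz⟩ := hn'
    have h8 : (⟨a, ha⟩ : B) • φ v ∈ ({z} : Set D) := hz ▸ MulAction.mem_orbit _ _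
    have h9 : φ v ∈ ({z} : Set D) := hz ▸ MulAction.mem_orbit_self _
    exact h8.trans h9.symm
  have h5 : ∀ i : ℕ, a ^ i • v = v + i • φ v := fun i => by
    induction i with
    | zero => simp
    | succ i ih => rw [pow_succ', mul_smul, ih, smul_add, smul_comm a i, h4, succ_nsmul, hφ]; abel
  obtain ⟨m, hm⟩ := hpp.odd_of_ne_two hp
  have h6 : ∑ i ∈ Finset.range p, i = m * p := by
    have := Finset.sum_range_id_mul_two p
    have e : p - 1 = 2 * m := by omega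
    rw [e] at this
    nlinarith
  rw [Finset.sum_congr rfl fun i _ => h5 i, Finset.sum_add_distrib, Finset.sum_const,
    Finset.card_range, hpv, ← Finset.sum_smul, h6, mul_smul, ← map_nsmul, hpv, map_zero, smul_zero,
    add_zero]

/-- Thompson–Timmesfeld.  `B` is abelian (faithful).  Fix `u`; `V = ⟨a u - u | a ∈ B⟩`,
`B* = C_B(V)`.  If `a u - a' u ∈ fx B` then `a⁻¹ a' ∈ B*` (as `(b-1)(c-1) u = (c-1)(b-1) u`), so
`|B : B*| ≤ |V + fx B : fx B|` and `|B| |fx B| ≤ |B*| |V + fx B| ≤ |B*| |fx B*|`: `B*` is a best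
offender, `B* = ⊥` or `B`.  If `B* = ⊥` then `|D| ≤ |B| |fx B| ≤ |V + fx B|`, `D = V + fx B`, so
`[D, B] = [D, B, B]`, impossible for a nontrivial `p`-group acting faithfully on a `p`-group (take a
maximal proper `B`-invariant subgroup above... or: `[D, B; n] = 0`). -/
theorem MBo.quad [Finite G] [Finite D] [Fact p.Prime] [FaithfulSMul G D] (hD : PT p D)
    (h : MBo D ⊥ B) (hB : IsPGroup p B) :
    ∀ a ∈ B, ∀ b ∈ B, ∀ u : D, a • (b • u - u) = b • u - u := by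
  intro a ha b hb u
  have hc : ∀ a ∈ B, ∀ b ∈ B, ∀ v : D, a • b • v = b • a • v := fun a ha b hb v =>
    h.1.comm a ha b hb v fun g hg => by rw [mem_bot.1 hg, one_smul]
  let S : Subgroup G :=
    { carrier := {c | c ∈ B ∧ ∀ b ∈ B, c • (b • u - u) = b • u - u}
      mul_mem' := fun h1 h2 => ⟨mul_mem h1.1 h2.1, fun b hb => by rw [mul_smul, h2.2 b hb, h1.2 b hb]⟩
      one_mem' := ⟨one_mem _, fun b _ => one_smul _ _⟩
      inv_mem' := fun h1 => ⟨inv_mem h1.1, fun b hb => by rw [inv_smul_eq_iff, h1.2 b hb]⟩ }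
  have hS : S ≤ B := fun c hc => hc.1
  have hin : ∀ c ∈ B, c • u - u ∈ fx D B → c ∈ S := fun c h1 h2 => ⟨h1, fun b hb => by
    have := h2 b hb
    rw [smul_sub] at this ⊢
    rw [hc c h1 b hb, sub_eq_sub_iff_sub_eq_sub, this]⟩
  let ψ : B ⧸ S.subgroupOf B → fx D S ⧸ (fx D B).addSubgroupOf (fx D S) := fun q =>
    QuotientAddGroup.mk ⟨(q.out : G) • u - u, fun c hc => hc.2 _ q.out.2⟩
  have hψ : Function.Injective ψ := fun q q' e => by
    have h1 : -((q.out : G) • u - u) + ((q'.out : G) • u - u) ∈ fx D B :=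
      QuotientAddGroup.eq (s := (fx D B).addSubgroupOf (fx D S)) |>.1 e
    rw [← QuotientGroup.out_eq' q, ← QuotientGroup.out_eq' q', QuotientGroup.eq]
    refine hin _ (q.out⁻¹ * q'.out).2 ?_
    have h2 := h1 _ (inv_mem q.out.2)
    rw [← h2, show -((q.out : G) • u - u) + ((q'.out : G) • u - u) =
      (q'.out : G) • u - (q.out : G) • u by abel, smul_sub, inv_smul_smul, ← mul_smul] at h1
    exact h1
  have h1 : S.relIndex B ≤ (fx D B).relIndex (fx D S) := Nat.card_le_card_of_injective ψ hψ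
  have h2 : Bo D ⊥ S := ⟨bot_le, fun a ha b hb v _ => hc a (hS ha) b (hS hb) v, fun B₀ h3 h4 => by
    refine (h.1.best B₀ h3 (h4.trans hS)).trans ?_
    have h5 := bo_card_add (fx D B) (fx D S)
    rw [inf_of_le_left (fx_anti hS)] at h5
    rw [← h5, ← bo_card_mul hS, mul_assoc, mul_comm (S.relIndex B)]
    exact Nat.mul_le_mul_left _ (Nat.mul_le_mul_left _ h1)⟩
  rcases h.2.2 S h2 hS with e | e
  · obtain ⟨q, hq⟩ := (hψ.bijective_of_nat_card_le (h.1.idx bot_le hS)).2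
      (QuotientAddGroup.mk ⟨-u, fun g hg => by rw [mem_bot.1 (e.le hg), one_smul]⟩)
    have h3 : -(-u) + ((q.out : G) • u - u) ∈ fx D B :=
      QuotientAddGroup.eq (s := (fx D B).addSubgroupOf (fx D S)) |>.1 hq.symm
    rw [show -(-u) + ((q.out : G) • u - u) = (q.out : G) • u by abel] at h3
    have h4 := h3 _ (inv_mem q.out.2)
    rw [inv_smul_smul] at h4
    rw [← h4] at h3
    rw [h3 b hb, sub_self, smul_zero]
  · exact (e.ge ha).2 b hb

end Cfsg.Lib.LK
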