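import Cfsg.Agent.Lib.LK.Bas

set_option autoImplicit false

namespace Cfsg.Lib.LK

open Subgroup Cfsg.Lib.Transfer
open scoped commutatorElement

variable {p : ℕ} {G Ω D : Type*} [Group G] [MulAction G Ω] [AddCommGroup D] [DistribMulAction G D]
  {f : Fr p G Ω} {N O M N' O' : Subgroup G → AddSubgroup D} {Q : Subgroup G → Prop} {k : ℕ}

/-- the subgroups of `Γ` that can be stabilizers -/
def Gd {Γ : Type*} [Group Γ] [MulAction Γ Ω] (f : Fr p G Ω) (f' : Fr p Γ Ω) (φ : Γ →* G)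
    (P : Subgroup Γ) : Prop :=
  f'.Ob P ∧ f.Ob (P.map φ) ∧ ∀ γ ∈ f'.H, φ γ ∈ P.map φ → γ ∈ P

/-- Change of group and of ambient module along a relation `R P` inducing isomorphisms
`N (φ P) / O (φ P) ≃ N' P / O' P`.  `(f'.st l).map φ = f.st l`, `act γ l = act (φ γ) l`, and
`Gd f f' φ (f'.st l)` for nonempty `l`.  Given a cochain on one side choose related values on the
other; `(d c l, d c' l) = d (fun m => (c m, c' m)) l ∈ R (st l)` (`d_map` with `fst`, `snd`,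
`d_mem`, `anti`). -/
theorem van_CA {Γ W : Type*} [Group Γ] [MulAction Γ Ω] [AddCommGroup W] [DistribMulAction Γ W]
    {f' : Fr p Γ Ω} {N₁ O₁ : Subgroup Γ → AddSubgroup W} (φ : Γ →* G)
    (hφ : ∀ γ ∈ f'.H, ∀ x : Ω, γ • x = φ γ • x) (hH : f'.H.map φ = f.H) (hA : f'.A = f.A)
    (R : Subgroup Γ → AddSubgroup (D × W))
    (anti : ∀ P P', Gd f f' φ P → Gd f f' φ P' → P ≤ P' → R P' ≤ R P)
    (eqv : ∀ P, Gd f f' φ P → ∀ γ ∈ f'.H, ∀ v w, (v, w) ∈ R P → (φ γ • v, γ • w) ∈ R (γ ⋆ P))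
    (ex1 : ∀ P, Gd f f' φ P → ∀ v ∈ N (P.map φ), ∃ w, (v, w) ∈ R P)
    (ex2 : ∀ P, Gd f f' φ P → ∀ w ∈ N₁ P, ∃ v, (v, w) ∈ R P)
    (mem : ∀ P, Gd f f' φ P → ∀ v w, (v, w) ∈ R P →
      v ∈ N (P.map φ) ∧ w ∈ N₁ P ∧ (v ∈ O (P.map φ) ↔ w ∈ O₁ P))
    (hk : 1 ≤ k) : Van f N O k ↔ Van f' N₁ O₁ k := by
  have hact : ∀ γ ∈ f'.H, ∀ l : List Ω, act γ l = act (φ γ) l := fun γ hγ l =>
    List.map_congr_left fun x _ => hφ γ hγ x
  have hIn : ∀ l, f'.In l ↔ f.In l := fun l => by unfold Fr.In; rw [hA]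
  have hmem : ∀ γ ∈ f'.H, φ γ ∈ f.H := fun γ hγ => hH ▸ mem_map_of_mem φ hγ
  have hsurj : ∀ g ∈ f.H, ∃ γ ∈ f'.H, φ γ = g := fun g hg => by rwa [← hH] at hg
  have hst : ∀ l, (f'.st l).map φ = f.st l := by
    intro l
    refine le_antisymm ?_ fun g hg => ?_
    · rintro _ ⟨γ, hγ, rfl⟩
      exact ⟨hmem γ hγ.1, fun x hx => by rw [← hφ γ hγ.1, hγ.2 x hx]⟩
    · obtain ⟨γ, hγ, rfl⟩ := hsurj g hg.1
      exact ⟨γ, ⟨hγ, fun x hx => by rw [hφ γ hγ, hg.2 x hx]⟩, rfl⟩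
  have hGd : ∀ l, f.In l → ∀ n, l.length = n → 1 ≤ n → Gd f f' φ (f'.st l) := by
    intro l hl n hn h1
    refine ⟨Fr.ob_st' ((hIn l).2 hl) hn h1, ?_, fun γ hγ h => ?_⟩
    · rw [hst]
      exact Fr.ob_st' hl hn h1
    · rw [hst] at h
      exact ⟨hγ, fun x hx => by rw [hφ γ hγ, h.2 x hx]⟩
  have hd : ∀ (n : ℕ) (c : List Ω → D) (c' : List Ω → W), 1 ≤ n →
      (∀ l, f.In l → l.length = n → (c l, c' l) ∈ R (f'.st l)) →
      ∀ l, f.In l → l.length = n + 1 → (d c l, d c' l) ∈ R (f'.st l) := by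
    intro n c c' hn h l hl hlen
    have h1 := d_map (AddMonoidHom.fst D W) (fun m => (c m, c' m)) l
    have h2 := d_map (AddMonoidHom.snd D W) (fun m => (c m, c' m)) l
    simp only [AddMonoidHom.coe_fst, AddMonoidHom.coe_snd] at h1 h2
    have h3 : (d c l, d c' l) = d (fun m => (c m, c' m)) l := Prod.ext h1 h2
    rw [h3]
    refine d_mem _ _ l fun m hm hml => ?_
    have hmn : m.length = n := by omega
    exact anti _ _ (hGd l hl _ hlen (by omega)) (hGd m (hl.sub hm) _ hmn hn) (Fr.st_sub hm) (h m (hl.sub hm) hmn)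
  have hO : ∀ l, f.In l → ∀ n, l.length = n → 1 ≤ n → ∀ v w, (v, w) ∈ R (f'.st l) →
      v ∈ N (f.st l) ∧ w ∈ N₁ (f'.st l) ∧ (v ∈ O (f.st l) ↔ w ∈ O₁ (f'.st l)) := by
    intro l hl n hn h1 v w h
    have := mem _ (hGd l hl n hn h1) v w h
    rwa [hst] at this
  have hE : ∀ (n : ℕ) (c : List Ω → D) (c' : List Ω → W), 1 ≤ n →
      (∀ l, f.In l → l.length = n → (c l, c' l) ∈ R (f'.st l)) → (Eqv f N O n c ↔ Eqv f' N₁ O₁ n c') := by
    intro n c c' hn h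
    have key : ∀ l, f.In l → l.length = n → ∀ γ ∈ f'.H,
        (c (act (φ γ) l) - φ γ • c l ∈ O (f.st (act (φ γ) l)) ↔
          c' (act γ l) - γ • c' l ∈ O₁ (f'.st (act γ l))) := by
      intro l hl hlen γ hγ
      have hl' : f.In (act γ l) := (hIn _).1 (((hIn l).2 hl).act hγ)
      have hlen' : (act γ l).length = n := by rw [length_act, hlen]
      have h1 := eqv _ (hGd l hl n hlen hn) γ hγ _ _ (h l hl hlen)
      rw [← Fr.st_act l hγ] at h1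
      have h2 := (R _).sub_mem (h _ hl' hlen') h1
      rw [← hact γ hγ]
      exact (hO _ hl' n hlen' hn _ _ h2).2.2
    constructor
    · intro hc l hl hlen
      have hl := (hIn l).1 hl
      exact ⟨(hO l hl n hlen hn _ _ (h l hl hlen)).2.1, fun γ hγ =>
        (key l hl hlen γ hγ).1 ((hc l hl hlen).2 _ (hmem γ hγ))⟩
    · intro hc l hl hlen
      refine ⟨(hO l hl n hlen hn _ _ (h l hl hlen)).1, fun g hg => ?_⟩
      obtain ⟨γ, hγ, rfl⟩ := hsurj g hg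
      exact (key l hl hlen γ hγ).2 ((hc l ((hIn l).2 hl) hlen).2 γ hγ)
  have hx1 : ∀ (n : ℕ) (c : List Ω → D), 1 ≤ n → Eqv f N O n c →
      ∃ c' : List Ω → W, ∀ l, f.In l → l.length = n → (c l, c' l) ∈ R (f'.st l) := by
    intro n c hn hc
    have : ∀ l, ∃ w, f.In l → l.length = n → (c l, w) ∈ R (f'.st l) := by
      intro l
      by_cases h : f.In l ∧ l.length = n
      · obtain ⟨w, hw⟩ := ex1 _ (hGd l h.1 n h.2 hn) (c l) (by rw [hst]; exact (hc l h.1 h.2).1)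
        exact ⟨w, fun _ _ => hw⟩
      · exact ⟨0, fun h1 h2 => absurd ⟨h1, h2⟩ h⟩
    choose c' hc' using this
    exact ⟨c', hc'⟩
  have hx2 : ∀ (n : ℕ) (c' : List Ω → W), 1 ≤ n → Eqv f' N₁ O₁ n c' →
      ∃ c : List Ω → D, ∀ l, f.In l → l.length = n → (c l, c' l) ∈ R (f'.st l) := by
    intro n c' hn hc
    have : ∀ l, ∃ v, f.In l → l.length = n → (v, c' l) ∈ R (f'.st l) := by
      intro l
      by_cases h : f.In l ∧ l.length = n
      · obtain ⟨v, hv⟩ := ex2 _ (hGd l h.1 n h.2 hn) (c' l) (hc l ((hIn l).2 h.1) h.2).1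
        exact ⟨v, fun _ _ => hv⟩
      · exact ⟨0, fun h1 h2 => absurd ⟨h1, h2⟩ h⟩
    choose c hc using this
    exact ⟨c, hc⟩
  constructor
  · intro hV c' hc' hcoc
    obtain ⟨c, hc⟩ := hx2 (k + 1) c' (by omega) hc'
    obtain ⟨b, hb, hbc⟩ := hV c ((hE _ c c' (by omega) hc).2 hc') fun l hl hlen =>
      (hO l hl _ hlen (by omega) _ _ (hd _ c c' (by omega) hc l hl hlen)).2.2.2 (hcoc l ((hIn l).2 hl) hlen)
    obtain ⟨b', hb'⟩ := hx1 k b hk hb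
    refine ⟨b', (hE _ b b' hk hb').1 hb, fun l hl hlen => ?_⟩
    have hl := (hIn l).1 hl
    exact (hO l hl _ hlen (by omega) _ _ ((R _).sub_mem (hc l hl hlen) (hd _ b b' hk hb' l hl hlen))).2.2.1
      (hbc l hl hlen)
  · intro hV c hc0 hcoc
    obtain ⟨c', hc⟩ := hx1 (k + 1) c (by omega) hc0
    obtain ⟨b', hb', hbc⟩ := hV c' ((hE _ c c' (by omega) hc).1 hc0) fun l hl hlen =>
      (hO l ((hIn l).1 hl) _ hlen (by omega) _ _ (hd _ c c' (by omega) hc l ((hIn l).1 hl) hlen)).2.2.1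
        (hcoc l ((hIn l).1 hl) hlen)
    obtain ⟨b, hb⟩ := hx2 k b' hk hb'
    refine ⟨b, (hE _ b b' hk hb).2 hb', fun l hl hlen => ?_⟩
    exact (hO l hl _ hlen (by omega) _ _ ((R _).sub_mem (hc l hl hlen) (hd _ b b' hk hb l hl hlen))).2.2.2
      (hbc l ((hIn l).2 hl) hlen)

end Cfsg.Lib.LK
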