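import Cfsg.Agent.Lib.LK.Bas
import Cfsg.Agent.Lib.LK.Full
import Cfsg.Agent.Lib.PGroup.Basic

set_option autoImplicit false

namespace Cfsg.Lib.LK

open Subgroup Cfsg.Lib.Transfer
open scoped commutatorElement

variable {p : ℕ} {G Ω D : Type*} [Group G] [MulAction G Ω] [AddCommGroup D] [DistribMulAction G D]
  {f : Fr p G Ω} {N O M N' O' : Subgroup G → AddSubgroup D} {Q : Subgroup G → Prop} {k : ℕ}

theorem nt_max [Finite G] [hp : Fact p.Prime] {L K : Subgroup G} (hK : IsPGroup p K) (h : L ≤ K) (hne : ¬ K ≤ L) :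
    ∃ M : Subgroup G, L ≤ M ∧ M ≤ K ∧ ¬ K ≤ M ∧ (∀ A ≤ K, ¬ A ≤ M → (A ⊓ M).relIndex A = p) ∧
      ∀ a ∈ K, a ∉ M → (∀ g ∈ K, ∃ i < p, ∃ m ∈ M, g = a ^ i * m) ∧
        ∀ i < p, ∀ j < p, (a ^ j)⁻¹ * a ^ i ∈ M → i = j := by
  obtain ⟨M, h1, h2, h3⟩ := PGroup.exists_normal_index_eq_of_ne_top hK (H := L.subgroupOf K)
    fun e => hne (subgroupOf_eq_top.1 e)
  have hm : ∀ a : K, a.1 ∈ M.map K.subtype ↔ a ∈ M := fun a => mem_map_iff_mem K.subtype_injective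
  refine ⟨M.map K.subtype, fun x hx => (hm ⟨x, h hx⟩).2 (h1 hx), map_subtype_le _, fun e => ?_,
    fun A hA hAM => ?_, fun a ha haM => ?_⟩
  · rw [show M = ⊤ from eq_top_iff.2 fun x _ => (hm x).1 (e x.2), index_top] at h3
    exact hp.out.one_lt.ne h3
  · rw [inf_relIndex_left, ← map_subgroupOf_eq_of_le hA, relIndex_map_map_of_injective _ _ K.subtype_injective]
    refine (hp.out.eq_one_or_self_of_dvd _ (h3 ▸ relIndex_dvd_index_of_normal M _)).resolve_left fun e => hAM ?_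
    exact fun x hx => (hm ⟨x, hA hx⟩).2 (relIndex_eq_one.1 e hx)
  · have hc : Nat.card (K ⧸ M) = p := h3
    have h0 : ((⟨a, ha⟩ : K) : K ⧸ M) ≠ 1 := fun e => haM ((hm ⟨a, ha⟩).2 ((QuotientGroup.eq_one_iff _).1 e))
    have ho : orderOf ((⟨a, ha⟩ : K) : K ⧸ M) = p := orderOf_eq_prime (hc ▸ pow_card_eq_one') h0
    refine ⟨fun g hg => ?_, fun i hi j hj e => ?_⟩
    · classical
      have := mem_zpowers_iff_mem_range_orderOf.1 ((zpowers_eq_top_of_prime_card hc h0).ge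
        (mem_top ((⟨g, hg⟩ : K) : K ⧸ M)))
      obtain ⟨i, hi, e⟩ := Finset.mem_image.1 this
      rw [← QuotientGroup.mk_pow, QuotientGroup.eq] at e
      exact ⟨i, ho ▸ Finset.mem_range.1 hi, _, (hm _).2 e, by simp⟩
    · refine (pow_injOn_Iio_orderOf (ho ▸ hj) (ho ▸ hi) ?_).symm
      simp only [← QuotientGroup.mk_pow]
      exact QuotientGroup.eq.2 ((hm _).1 e)

open Classical in
/-- the orbit of `w` under `M` -/
noncomputable def ntO [Finite G] (M : Subgroup G) (w : D) : Finset D :=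
  (Set.toFinite (M : Set G)).toFinset.image (· • w)

theorem mem_ntO [Finite G] {M : Subgroup G} {w v : D} : v ∈ ntO M w ↔ ∃ g ∈ M, g • w = v := by
  simp [ntO]

theorem smul_mem_ntO [Finite G] {M : Subgroup G} {w : D} {g : G} (hg : g ∈ M) (v : D) :
    g • v ∈ ntO M w ↔ v ∈ ntO M w := by
  simp only [mem_ntO]
  exact ⟨fun ⟨h, h1, h2⟩ => ⟨g⁻¹ * h, mul_mem (inv_mem hg) h1, by rw [mul_smul, h2, inv_smul_smul]⟩,
    fun ⟨h, h1, h2⟩ => ⟨g * h, mul_mem hg h1, by rw [mul_smul, h2]⟩⟩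

theorem sum_ntO_fx [Finite G] (M : Subgroup G) (w : D) : ∑ v ∈ ntO M w, v ∈ fx D M := fun g hg => by
  rw [Finset.smul_sum, ← fu_sum_act (smul_mem_ntO hg) fun v => v]

/-- Norm lemma.  `Jp` a `p`-group generated by subgroups with `NP`, `E ⊆ W` a finite `Jp`-invariant
set of elements killed by `p` in which only `0` can be fixed by `Jp`.  Then `∑ E = 0`.  Sum over
`Jp`-orbits: for `w` not fixed take a maximal subgroup `M ≥ Stab w` of `Jp` (normal of index `p`), a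
member `A ≰ M`, `A₀ = A ⊓ M`, `a ∈ A \ M`; the orbit is the disjoint union of the `a ^ i • (M w)`,
`u = ∑ M w` is fixed by `A₀`.  (Or induct on `|E|`, removing one orbit.) -/
theorem sum_eq_zero_of_np [Finite G] [Fact p.Prime] {W : AddSubgroup D} {𝒜 : Set (Subgroup G)}
    {T : Subgroup G} (hT : IsPGroup p T) (hnp : ∀ A ∈ 𝒜, A ≤ T → NP p W A) (E : Finset D)
    (hW : ∀ w ∈ E, w ∈ W ∧ p • w = 0) (hE : ∀ g ∈ J 𝒜 T, ∀ w ∈ E, g • w ∈ E)
    (h0 : ∀ w ∈ E, w ∈ fx D (J 𝒜 T) → w = 0) : ∑ w ∈ E, w = 0 := by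
  classical
  induction E using Finset.strongInduction with
  | H E ih =>
  rcases E.eq_empty_or_nonempty with rfl | ⟨w, hw⟩
  · rfl
  have hO : ntO (J 𝒜 T) w ⊆ E := fun v hv => by
    obtain ⟨g, hg, rfl⟩ := mem_ntO.1 hv
    exact hE g hg w hw
  rw [← Finset.sum_sdiff hO, ih _ (Finset.sdiff_ssubset hO ⟨w, mem_ntO.2 ⟨1, one_mem _, one_smul _ _⟩⟩)
    (fun v hv => hW v (Finset.mem_sdiff.1 hv).1) (fun g hg v hv => Finset.mem_sdiff.2
      ⟨hE g hg v (Finset.mem_sdiff.1 hv).1, fun h => (Finset.mem_sdiff.1 hv).2 ((smul_mem_ntO hg v).1 h)⟩)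
    (fun v hv => h0 v (Finset.mem_sdiff.1 hv).1), zero_add]
  by_cases hf : J 𝒜 T ≤ J 𝒜 T ⊓ MulAction.stabilizer G w
  · refine Finset.sum_eq_zero fun v hv => ?_
    obtain ⟨g, -, rfl⟩ := mem_ntO.1 hv
    rw [h0 w hw fun g hg => (hf hg).2, smul_zero]
  obtain ⟨M, h1, h2, h3, h4, h5⟩ := nt_max (hT.to_le (J_le 𝒜 T)) inf_le_left hf
  obtain ⟨A, hA, hAT, hAM⟩ : ∃ A ∈ 𝒜, A ≤ T ∧ ¬ A ≤ M := by
    by_contra! h
    exact h3 (J_le_iff.2 h)
  obtain ⟨a, ha, haM⟩ := SetLike.not_le_iff_exists.1 hAM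
  have hAJ := le_J hA hAT
  obtain ⟨h6, h7⟩ := h5 a (hAJ ha) haM
  have hM : ∀ v ∈ ntO M w, v ∈ W ∧ p • v = 0 := fun v hv => by
    obtain ⟨g, hg, rfl⟩ := mem_ntO.1 hv
    exact hW _ (hE g (h2 hg) w hw)
  have e : ntO (J 𝒜 T) w = (Finset.range p).biUnion fun i => (ntO M w).image (a ^ i • ·) := by
    ext v
    simp only [mem_ntO, Finset.mem_biUnion, Finset.mem_range, Finset.mem_image]
    constructor
    · rintro ⟨g, hg, rfl⟩
      obtain ⟨i, hi, m, hm, rfl⟩ := h6 g hg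
      exact ⟨i, hi, _, ⟨m, hm, rfl⟩, (mul_smul _ _ _).symm⟩
    · rintro ⟨i, -, _, ⟨m, hm, rfl⟩, rfl⟩
      exact ⟨a ^ i * m, mul_mem (pow_mem (hAJ ha) i) (h2 hm), mul_smul _ _ _⟩
  rw [e, Finset.sum_biUnion, ← hnp A hA hAT (A ⊓ M) inf_le_left (h4 A hAJ hAM) _ (sum_mem fun v hv => (hM v hv).1)
    (by rw [Finset.smul_sum]; exact Finset.sum_eq_zero fun v hv => (hM v hv).2)
    (fx_anti inf_le_right (sum_ntO_fx M w)) a ha fun h => haM h.2]
  · exact Finset.sum_congr rfl fun i _ => by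
      rw [Finset.sum_image fun _ _ _ _ => smul_left_cancel _, Finset.smul_sum]
  · intro i hi j hj hne
    refine Finset.disjoint_left.2 fun v hv hv' => hne (h7 i (by simpa using hi) j (by simpa using hj) ?_)
    obtain ⟨_, hu, rfl⟩ := Finset.mem_image.1 hv
    obtain ⟨_, hu', e⟩ := Finset.mem_image.1 hv'
    obtain ⟨m, hm, rfl⟩ := mem_ntO.1 hu
    obtain ⟨m', hm', rfl⟩ := mem_ntO.1 hu'
    have : m'⁻¹ * ((a ^ j)⁻¹ * a ^ i) * m ∈ M := h1 (mem_inf.2 ⟨mul_mem (mul_mem (inv_mem (h2 hm'))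
      (mul_mem (inv_mem (pow_mem (hAJ ha) j)) (pow_mem (hAJ ha) i))) (h2 hm), by
        simp only [MulAction.mem_stabilizer_iff, mul_smul, ← e, inv_smul_smul]⟩)
    exact (mul_mem_cancel_left (inv_mem hm')).1 ((mul_mem_cancel_right hm).1 this)

/-- Glauberman's norm argument.  Downward induction on `i` for `p ^ i • v ∈ fx H`, so assume
`p • v ∈ fx H`.  `E = {h v - v | h ∈ H}`; `J = J 𝒜 T ≤ T ≤ N_H(J)` fixes `v`.  If `J` fixes `h v`
then `h⁻¹ ⋆ J ≤ L = Stab_H(v) ≥ T`, so `l ⋆ h⁻¹ ⋆ J ≤ T` for some `l ∈ L`; it equals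
`J 𝒜 ((l h⁻¹) ⋆ T)`, so its members lie in `J`, it is `J`, `l h⁻¹ ∈ N_H(J) ≤ L`, `h v = v`.  So
`∑ E = 0`, `∑_{w ∈ H v} w = |H : L| v` is `H`-fixed and `p ∤ |H : L|` (`exists_inv`). -/
theorem cf_of_np [Finite G] [Fact p.Prime] (hD : PT p D) {H₀ : Subgroup G} {W : AddSubgroup D}
    {𝒜 : Set (Subgroup G)} (hinv : Inv H₀ 𝒜) (hW : ∀ g ∈ H₀, ∀ v ∈ W, g • v ∈ W)
    (hnp : ∀ A ∈ 𝒜, A ≤ H₀ → IsPGroup p A → NP p W A) : CF p H₀ W 𝒜 := by
  classical
  intro H hH T hT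
  have hTN : T ≤ H ⊓ normalizer ((J 𝒜 T : Subgroup G) : Set G) := fun t ht => ⟨hT.1 ht, conj_eq_self_iff.1 (by
    rw [← J_conj hinv (hH (hT.1 ht)), conj_eq_self_of_mem ht])⟩
  have step : ∀ v ∈ W, v ∈ fx D (H ⊓ normalizer ((J 𝒜 T : Subgroup G) : Set G)) → p • v ∈ fx D H →
      v ∈ fx D H := fun v hv h1 h2 => by
    have hTL : T ≤ H ⊓ MulAction.stabilizer G v := fun t ht => ⟨hT.1 ht, h1 t (hTN ht)⟩
    have hL : ¬ p ∣ T.relIndex (H ⊓ MulAction.stabilizer G v) *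
        (H ⊓ MulAction.stabilizer G v).relIndex H := by
      rw [relIndex_mul_relIndex _ _ _ hTL inf_le_left]; exact hT.2.2
    have h3 := sum_eq_zero_of_np (W := W) hT.2.1
      (fun A hA hAT => hnp A hA (hAT.trans (hT.1.trans hH)) (hT.2.1.to_le hAT)) ((ntO H v).image (· - v))
      (fun w hw => by
        obtain ⟨_, hu, rfl⟩ := Finset.mem_image.1 hw
        obtain ⟨h, hh, rfl⟩ := mem_ntO.1 hu
        exact ⟨sub_mem (hW h (hH hh) v hv) hv, by rw [smul_sub, smul_comm, h2 h hh, sub_self]⟩)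
      (fun g hg w hw => by
        obtain ⟨u, hu, rfl⟩ := Finset.mem_image.1 hw
        rw [smul_sub, (hTL (J_le _ _ hg)).2]
        exact Finset.mem_image_of_mem _ ((smul_mem_ntO (hT.1 (J_le _ _ hg)) u).2 hu))
      fun w hw hf => by
        obtain ⟨_, hu, rfl⟩ := Finset.mem_image.1 hw
        obtain ⟨h, hh, rfl⟩ := mem_ntO.1 hu
        obtain ⟨l, hl, hle⟩ := Syl.conj_le (H := H ⊓ MulAction.stabilizer G v) (X := h⁻¹ ⋆ J 𝒜 T)
          ⟨hTL, hT.2.1, fun e => hL (e.mul_right _)⟩ (isPGroup_conj (hT.2.1.to_le (J_le _ _)) _) (by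
            refine conj_le_iff.2 fun g hg => mem_inf.2 ⟨mul_mem (mul_mem (inv_mem hh) (hT.1 (J_le _ _ hg)))
              (inv_mem (inv_mem hh)), ?_⟩
            have := hf g hg
            rw [smul_sub, (hTL (J_le _ _ hg)).2, sub_left_inj] at this
            simp only [MulAction.mem_stabilizer_iff, mul_smul, inv_inv, this, inv_smul_smul])
        have hm : l * h⁻¹ ∈ H := mul_mem hl.1 (inv_mem hh)
        rw [conj_conj] at hle
        have := h1 _ ⟨hm, mem_normalizer_of_conj_le (by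
          rw [← J_conj hinv (hH hm)] at hle ⊢
          exact J_le_iff.2 fun B hB h => le_J hB ((le_J hB h).trans hle))⟩
        rw [mul_smul, smul_eq_iff_eq_inv_smul, (inv_mem hl).2, inv_smul_eq_iff] at this
        rw [← this, sub_self]
    rw [Finset.sum_image fun _ _ _ _ => sub_left_inj.1, Finset.sum_sub_distrib, Finset.sum_const, sub_eq_zero] at h3
    have h4 : (ntO H v).card = (H ⊓ MulAction.stabilizer G v).relIndex H := by
      rw [inf_relIndex_left, ← Set.ncard_coe_finset]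
      refine Eq.trans ?_ (MulAction.index_stabilizer H v).symm
      congr 1
      ext w
      simp [mem_ntO, MulAction.mem_orbit_iff, Subgroup.smul_def]
    obtain ⟨m, hm⟩ := exists_inv hD (n := (ntO H v).card) fun e => hL ((h4 ▸ e).mul_left _)
    rw [← hm v, ← h3]
    exact nsmul_mem (sum_ntO_fx H v) m
  obtain ⟨e, he⟩ := hD
  suffices ∀ i : ℕ, ∀ v ∈ W, v ∈ fx D (H ⊓ normalizer ((J 𝒜 T : Subgroup G) : Set G)) → p ^ i • v = 0 →
    v ∈ fx D H from fun v hv h => this e v hv h (he v)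
  intro i
  induction i with
  | zero => intro v _ _ h; rw [pow_zero, one_smul] at h; exact h ▸ zero_mem _
  | succ i ih =>
    exact fun v hv h1 h2 => step v hv h1 (ih _ (nsmul_mem hv p) (nsmul_mem h1 p) (by rwa [smul_smul, ← pow_succ]))

theorem J_le_set (U T : Subgroup G) : J {B | B ≤ U} T = T ⊓ U := by
  exact le_antisymm (J_le_iff.2 fun B hB h => le_inf h hB) (le_J (inf_le_right : T ⊓ U ≤ U) inf_le_left)

/-- Frattini: `H = (U ⊓ H) N_H(T ⊓ U)`, and `U ⊓ H = C (T ⊓ U)` where `C`, the kernel on `W`, is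
normal in `U ⊓ H` with `p`-group quotient, `T ⊓ U` Sylow in `U ⊓ H`. -/
theorem cf_of_pact [Finite G] [Fact p.Prime] {H₀ U : Subgroup G} {W : AddSubgroup D}
    (hU : H₀ ≤ normalizer (U : Set G)) (hW : ∀ g ∈ H₀, ∀ v ∈ W, g • v ∈ W)
    (h : PAct p (U ⊓ H₀) W ⊥) : CF p H₀ W {B | B ≤ U} := by
  intro H hH T hT v hv h1
  rw [J_le_set] at h1
  have hn : H ≤ normalizer ((U ⊓ H : Subgroup G) : Set G) := fun g hg => conj_eq_self_iff.1 (by
    rw [conj_inf, conj_eq_self_iff.2 (hU (hH hg)), conj_eq_self_of_mem hg])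
  have hle : T ⊓ U ≤ U ⊓ H := le_inf inf_le_right (inf_le_left.trans hT.1)
  have hs : ¬ p ∣ (T ⊓ U).relIndex (U ⊓ H) := by
    have := not_dvd_relIndex_of_le_normalizer hT.2.2 inf_le_right hn
    rwa [← inf_relIndex_right, ← inf_assoc, inf_eq_left.2 (inf_le_left.trans hT.1)] at this
  have hTU : T ⊓ U ≤ MulAction.stabilizer G v := fun g hg => h1 g ⟨hT.1 hg.1, le_normalizer hg⟩
  let C : Subgroup ↥(U ⊓ H) :=
    { carrier := {g | ∀ w ∈ W, g.1 • w = w}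
      one_mem' := fun w _ => one_smul _ w
      mul_mem' := fun {a b} ha hb w hw => by rw [coe_mul, mul_smul, hb w hw, ha w hw]
      inv_mem' := fun {a} ha w hw => by rw [coe_inv, inv_smul_eq_iff, ha w hw] }
  have : C.Normal := ⟨fun a ha g w hw => by
    rw [coe_mul, coe_mul, mul_smul, mul_smul, ha _ (hW _ (hH g⁻¹.2.2) w hw), coe_inv, smul_inv_smul]⟩
  have hC : IsPGroup p (↥(U ⊓ H) ⧸ C) := fun g => by
    obtain ⟨g, rfl⟩ := QuotientGroup.mk_surjective g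
    obtain ⟨k, hk⟩ := h g ⟨g.2.1, hH g.2.2⟩
    exact ⟨k, by
      rw [← QuotientGroup.mk_pow, QuotientGroup.eq_one_iff]
      exact fun w hw => sub_eq_zero.1 (hk w hw)⟩
  obtain ⟨n, hn'⟩ := IsPGroup.iff_card.1 hC
  have hK : U ⊓ H ≤ MulAction.stabilizer G v := by
    have h2 : (MulAction.stabilizer G v).relIndex (U ⊓ H) ∣ p ^ n :=
      hn' ▸ index_dvd_of_le (H := C) fun g hg => hg v hv
    obtain ⟨_ | i, -, e⟩ := (Nat.dvd_prime_pow Fact.out).1 h2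
    · exact relIndex_eq_one.1 e
    · exact absurd ((e ▸ dvd_pow_self p i.succ_ne_zero).trans (relIndex_dvd_of_le_left _ hTU)) hs
  intro g hg
  obtain ⟨n, hn1, hn2⟩ := frattini_argument hle (hT.2.1.to_le inf_le_left) hs hn hg
  have := h1 _ ⟨mul_mem hn1.2 hg, hn2⟩
  rwa [mul_smul, smul_eq_iff_eq_inv_smul, hK (inv_mem hn1)] at this

end Cfsg.Lib.LK
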