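import Cfsg.Agent.Lib.LK.LN
import Cfsg.Agent.Lib.LK.NT
import Cfsg.Agent.Lib.LK.CA

set_option autoImplicit false

namespace Cfsg.Lib.LK

open Subgroup Cfsg.Lib.Transfer
open scoped commutatorElement

variable {p : ℕ} {G Ω D : Type*} [Group G] [MulAction G Ω] [AddCommGroup D] [DistribMulAction G D]
  {f : Fr p G Ω} {N O M N' O' : Subgroup G → AddSubgroup D} {Q : Subgroup G → Prop} {k : ℕ}

theorem lam_nrm_inf {X A B : Subgroup G} (hA : X ≤ normalizer (A : Set G)) (hB : X ≤ normalizer (B : Set G)) :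
    X ≤ normalizer ((A ⊓ B : Subgroup G) : Set G) := fun g hg =>
  conj_eq_self_iff.1 (by rw [conj_inf, conj_eq_self_iff.2 (hA hg), conj_eq_self_iff.2 (hB hg)])

theorem lam_nrm_sub {H U : Subgroup G} (h : H ≤ normalizer (U : Set G)) :
    (⊤ : Subgroup H) ≤ normalizer ((U.subgroupOf H : Subgroup H) : Set H) := fun g _ =>
  mem_normalizer_iff.2 fun x => by simpa [mem_subgroupOf] using mem_normalizer_iff.1 (h g.2) (x : G)

theorem lam_map_conj {Γ : Type*} [Group Γ] (φ : Γ →* G) (γ : Γ) (P : Subgroup Γ) :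
    (γ ⋆ P).map φ = φ γ ⋆ P.map φ := by
  rw [map_map, map_map]
  congr 1
  ext x
  simp

/-- `X ⊓ U` is not Sylow in `U`.  Take `S` Sylow in `X ⊔ U` above `X`; `S ⊓ U` is Sylow in the
normal subgroup `U`, so `S ⊓ U ≰ X`; `S = X (S ⊓ U)`, `N_S(X) > X`; `T = S ⊓ U ⊓ N(X)`. -/
theorem exists_pgrp_normalizer [Finite G] [Fact p.Prime] {X U T₀ : Subgroup G} (hX : IsPGroup p X)
    (hn : X ≤ normalizer (U : Set G)) (hT : IsPGroup p T₀) (h1 : X ⊓ U < T₀) (h2 : T₀ ≤ U) :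
    ∃ T : Subgroup G, IsPGroup p T ∧ T ≤ U ⊓ normalizer (X : Set G) ∧ ¬ T ≤ X := by
  obtain ⟨S, h3, h4, h5, h6⟩ := exists_sylowIn_ge hX (le_sup_left : X ≤ X ⊔ U)
  have h7 := card_le_of_not_dvd_relIndex
    (not_dvd_relIndex_of_le_normalizer h6 le_sup_right (sup_le hn le_normalizer)) hT h2
  have h8 : ¬ S ⊓ U ≤ X := fun h =>
    (card_lt_of_lt h1).not_ge (h7.trans (card_le_of_le (le_inf h inf_le_right)))
  obtain ⟨g, hg, hg'⟩ := SetLike.exists_of_lt (lt_inf_normalizer_of_lt (h5.to_le (sup_le inf_le_left h3))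
    (right_lt_sup.2 h8))
  obtain ⟨n, hn', y, hy, rfl⟩ := exists_mul_of_mem_sup (lam_nrm_inf (h3.trans le_normalizer) hn) hg.1
  exact ⟨S ⊓ (U ⊓ normalizer (X : Set G)), h5.to_inf_left, inf_le_right, fun h => hg' (mul_mem (h ⟨hn'.1, hn'.2,
    (mul_mem_cancel_right (le_normalizer hy)).1 hg.2⟩) hy)⟩

/-- Strong induction on `f.Y.relIndex f.H`, all `k ≥ 1` at once.  `𝒜 = {B | B ≤ U}`, `cf_of_pact`
with `W = fx D f.Y`, `Q_U P = ¬ J 𝒜 P ≤ Y`.  `k = 1`: `van_R1` with `Z = (T' ⊓ U) ⊔ Y`.  `k + 1`: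
`van_L3` with `N = Rf Q_U` (`van_LN`), `M = Rf (· ≠ Y)`; `Van N M k` by `van_FL cl_id`: the slices at
`X = Y` and at `X ∈ Q_U` are trivial, else induction in `loc X` with `exists_pgrp_normalizer` for
`U ⊓ H` and `T₀ = (T ⊔ Y) ⊓ U`. -/
theorem van_lamF [Finite G] [Fact p.Prime] (hD : PT p D) (hk : 1 ≤ k) (f : Fr p G Ω)
    {U T : Subgroup G} (hU : f.H ≤ normalizer (U : Set G))
    (hact : PAct p (U ⊓ f.H) (fx D f.Y) ⊥) (hT : IsPGroup p T) (hTU : T ≤ U ⊓ f.H)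
    (hTY : ¬ T ≤ f.Y) : Van f (Rf D fun P => P ≠ f.Y) (Z0 G D) k := by
  induction hn : Nat.card f.H - Nat.card f.Y using Nat.strong_induction_on generalizing f k T with
  | _ n ih =>
  have hinv : Inv f.H {B | B ≤ U} := fun g hg B hB => (conj_mono g hB).trans (conj_eq_self_iff.2 (hU hg)).le
  have hcf := cf_of_pact hU (fun g hg v hv => by simpa only [conj_Y hg] using smul_mem_fx g hv) hact
  obtain ⟨S, hS, hTS⟩ := exists_syl hT (hTU.trans inf_le_right)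
  have hY := hS.ob.1
  have hT' : T ≤ S ⊓ U := le_inf hTS (hTU.trans inf_le_left)
  obtain rfl | ⟨k, rfl, hk'⟩ : k = 1 ∨ ∃ j, k = j + 1 ∧ 1 ≤ j := by
    rcases hk.eq_or_lt with h | h
    exacts [.inl h.symm, .inr ⟨k - 1, by omega, by omega⟩]
  · refine van_R1 hD up_ne_Y hS fun _ => ⟨S ⊓ U ⊔ f.Y, le_sup_right, sup_le inf_le_left hY,
      fun e => hTY (hT'.trans (le_sup_left.trans e.le)), fun v hv hv' =>
        hcf _ le_rfl S hS v (fx_anti hY hv') (fx_anti ?_ hv)⟩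
    rw [J_le_set]
    exact fun g hg => ⟨hg.1, conj_eq_self_iff.1 (by rw [conj_sup, conj_eq_self_iff.2 hg.2, conj_Y hg.1])⟩
  have hQ := up_J (f := f) hinv
  have hs := sys_Rf_Rf (D := D) hQ up_ne_Y fun P _ h e => h (e ▸ J_le _ _)
  refine van_L3 (sys_Rf hQ).2 (fam_Rf up_ne_Y) le_Z0 hs.le hk'
    (van_LN hD hinv hcf hk f le_rfl le_rfl).1 (van_FL hs cl_id hk' fun X hX _ => ?_)
  by_cases h1 : X = f.Y ∨ ¬ J {B | B ≤ U} X ≤ f.Y
  · refine van_of_le fun P _ => ?_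
    by_cases h2 : P = X
    · rw [ite'_neg (not_not.2 h2), h2]
      rcases h1 with h1 | h1
      · simp [Rf, ite', h1, J_le]
      · simp [Rf, ite', h1, Z0]
    · rw [ite'_pos h2]
  rw [not_or, not_not] at h1
  have h3 := h1.2
  rw [J_le_set] at h3
  obtain ⟨T', a1, a2, a3⟩ := exists_pgrp_normalizer (U := U ⊓ f.H) (T₀ := S ⊓ U) hX.2.2
    (lam_nrm_inf (hX.2.1.trans hU) (hX.2.1.trans le_normalizer)) hS.2.1.to_inf_left
    (lt_of_le_not_ge (fun g hg => ⟨hY (h3 ⟨hg.1, hg.2.1⟩), hg.2.1⟩) fun h =>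
      hTY fun g hg => h3 ⟨(h (hT' hg)).1, (hT' hg).2⟩) (inf_le_inf hS.1 le_rfl |>.trans (inf_comm _ _).le)
  have h4 := card_lt_of_lt (lt_of_le_of_ne hX.1 (Ne.symm h1.1))
  have h5 := card_le_of_le (f.loc X hX).Yle
  have h6 := card_le_of_le (inf_le_left : (f.loc X hX).H ≤ f.H)
  have h7 : ∀ P, (f.loc X hX).Ob P → P ≠ f.Y := fun P hP e => h1.1 (le_antisymm (e ▸ hP.1) hX.1)
  refine (ih _ (by rw [Fr.loc_Y, Fr.loc_H] at *; omega) hk' (f.loc X hX) (inf_le_left.trans hU)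
    (fun u hu => (hact u ⟨hu.1, hu.2.1⟩).imp fun _ h v hv => h v (fx_anti hX.1 hv)) a1
    (a2.trans (inf_assoc _ _ _).le) a3 rfl).congr hk' (fun P hP => ?_) fun P hP => ?_
  · by_cases h2 : P = X
    · simp [Rf, ite', h2, h1.2]
    · simp [Rf, ite', h2, h7 P hP]
  · simp [Rf, ite', h7 P hP]

/-- `van_CA` with `f' = f.sub`, `φ = f.H.subtype`, `W = N Y ⧸ O Y` (build the
`DistribMulAction f.H W`), `R P = {(v, w) | v ∈ N Y, mk v = w}` for `P.map φ = Y` and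
`O (P.map φ) × ⊥` otherwise; then `van_lamF` in `f.sub`. -/
theorem van_lamA [Finite G] [Fact p.Prime] (hS : Sys f N O) (hk : 1 ≤ k)
    (htor : ∃ e : ℕ, ∀ v ∈ N f.Y, p ^ e • v ∈ O f.Y) {U T : Subgroup G}
    (hU : f.H ≤ normalizer (U : Set G)) (hact : PAct p (U ⊓ f.H) (N f.Y) (O f.Y))
    (hT : IsPGroup p T) (hTU : T ≤ U ⊓ f.H) (hTY : ¬ T ≤ f.Y) :
    Van f (ite' (fun P => P ≠ f.Y) O N) O k := by
  classical
  have hY : f.Ob f.Y := Fr.ob_Y
  have hN : ∀ g : f.H, ∀ v ∈ N f.Y, g.1 • v ∈ N f.Y := fun g v hv => by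
    simpa only [conj_Y g.2] using hS.fN.eqv _ hY g g.2 v hv
  have hO : ∀ g : f.H, ∀ v ∈ O f.Y, g.1 • v ∈ O f.Y := fun g v hv => by
    simpa only [conj_Y g.2] using hS.fO.eqv _ hY g g.2 v hv
  let ρ : f.H → N f.Y →+ N f.Y := fun g =>
    ((DistribSMul.toAddMonoidHom D g.1).comp (N f.Y).subtype).codRestrict _ fun v => hN g v v.2
  let W := N f.Y ⧸ (O f.Y).addSubgroupOf (N f.Y)
  let π : N f.Y →+ W := QuotientAddGroup.mk' _
  have hπ : Function.Surjective π := QuotientAddGroup.mk'_surjective _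
  have h0 : ∀ v, π v = 0 ↔ v.1 ∈ O f.Y := fun v => QuotientAddGroup.eq_zero_iff v
  let σ : f.H → W →+ W := fun g => QuotientAddGroup.map _ _ (ρ g) fun v hv => hO g v hv
  let _ : DistribMulAction f.H W :=
    { smul := fun g w => σ g w
      one_smul := fun w => by
        obtain ⟨v, rfl⟩ := hπ w
        exact congrArg π (Subtype.ext (one_smul G v.1))
      mul_smul := fun g h w => by
        obtain ⟨v, rfl⟩ := hπ w
        exact congrArg π (Subtype.ext (mul_smul g.1 h.1 v.1))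
      smul_zero := fun g => map_zero (σ g)
      smul_add := fun g => map_add (σ g) }
  have hs : ∀ (g : f.H) v, g • π v - π v = 0 ↔ g.1 • v.1 - v.1 ∈ O f.Y := fun g v =>
    (show g • π v - π v = π (ρ g v - v) from (map_sub π (ρ g v) v).symm) ▸ h0 _
  have hm : ∀ P : Subgroup f.H, P.map f.H.subtype = f.Y ↔ P = f.sub.Y := fun P => by
    rw [← map_subtype_inj (K := P), Fr.sub, subgroupOf_map_subtype, inf_eq_left.2 f.Yle]
  let R : Subgroup f.H → AddSubgroup (D × W) := fun P =>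
    if P.map f.H.subtype = f.Y then ((N f.Y).subtype.prod π).range else (O (P.map f.H.subtype)).prod ⊥
  refine (van_CA (f' := f.sub) (N₁ := Rf W fun P => P ≠ f.sub.Y) (O₁ := Z0 _ W) f.H.subtype (fun _ _ _ => rfl)
    (by rw [Fr.sub, ← MonoidHom.range_eq_map, range_subtype]) rfl R (fun P P' hP hP' hle z hz => ?_)
    (fun P hP γ _ v w hz => ?_) (fun P hP v hv => ?_) (fun P hP w hw => ?_) (fun P hP v w hz => ?_) hk).2
    (van_lamF (U := U.subgroupOf f.H) (T := T.subgroupOf f.H) (htor.imp fun e he w => ?_) hk f.sub (lam_nrm_sub hU)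
      (fun u hu => (hact u ⟨hu.1, u.2⟩).imp fun j hj w _ => ?_) hT.comap_subtype
      (fun g hg => ⟨(hTU hg).1, trivial⟩) fun h => hTY fun g hg => h (x := ⟨g, (hTU hg).2⟩) hg)
  · have h1 : P.map f.H.subtype ≤ P'.map f.H.subtype := map_mono hle
    by_cases h2 : P'.map f.H.subtype = f.Y
    · simp only [R, if_pos h2] at hz
      simpa only [R, if_pos (le_antisymm (h2 ▸ h1) hP.2.1.1)] using hz
    simp only [R, if_neg h2] at hz
    have h3 := hS.fO.anti _ _ hP.2.1 hP'.2.1 h1 hz.1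
    by_cases h4 : P.map f.H.subtype = f.Y
    · simp only [R, if_pos h4]
      rw [h4] at h3
      exact ⟨⟨z.1, hS.le _ hY h3⟩, Prod.ext rfl (((h0 _).2 h3).trans hz.2.symm)⟩
    · simp only [R, if_neg h4]
      exact ⟨h3, hz.2⟩
  · have h1 := (up_ne_Y (f := f)).cj_iff hP.2.1 γ.2
    by_cases h2 : P.map f.H.subtype = f.Y
    · simp only [R, if_pos h2] at hz
      simp only [R, lam_map_conj, coe_subtype, if_pos (not_not.1 fun e => h1.1 e h2)]
      obtain ⟨x, hx⟩ := hz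
      obtain ⟨rfl, rfl⟩ := Prod.mk.inj hx
      exact ⟨ρ γ x, rfl⟩
    · simp only [R, if_neg h2] at hz
      simp only [R, lam_map_conj, coe_subtype, if_neg (h1.2 h2)]
      exact ⟨hS.fO.eqv _ hP.2.1 _ γ.2 v hz.1, by rw [show w = 0 from hz.2]; exact smul_zero γ⟩
  · by_cases h2 : P.map f.H.subtype = f.Y
    · rw [ite'_neg (not_not.2 h2), h2] at hv
      exact ⟨π ⟨v, hv⟩, by simp only [R, if_pos h2]; exact ⟨⟨v, hv⟩, rfl⟩⟩
    · rw [ite'_pos h2] at hv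
      exact ⟨0, by simp only [R, if_neg h2]; exact ⟨hv, rfl⟩⟩
  · by_cases h2 : P.map f.H.subtype = f.Y
    · obtain ⟨v, rfl⟩ := hπ w
      exact ⟨v, by simp only [R, if_pos h2]; exact ⟨v, rfl⟩⟩
    · rw [Rf, ite'_pos fun e => h2 ((hm P).2 e)] at hw
      exact ⟨0, by simp only [R, if_neg h2]; exact ⟨zero_mem _, hw⟩⟩
  · by_cases h2 : P.map f.H.subtype = f.Y
    · simp only [R, if_pos h2] at hz
      obtain ⟨x, hx⟩ := hz
      obtain ⟨rfl, rfl⟩ := Prod.mk.inj hx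
      rw [ite'_neg (not_not.2 h2), Rf, ite'_neg (not_not.2 ((hm P).1 h2)), h2]
      exact ⟨x.2, fun g hg => sub_eq_zero.1 ((hs g x).2 (hS.triv _ hY _ (h2 ▸ mem_map_of_mem _ hg) _ x.2)),
        (h0 x).symm⟩
    · simp only [R, if_neg h2] at hz
      rw [ite'_pos h2, Rf, ite'_pos fun e => h2 ((hm P).2 e)]
      exact ⟨hz.1, hz.2, iff_of_true hz.1 hz.2⟩
  · obtain ⟨v, rfl⟩ := hπ w
    rw [← map_nsmul, h0]
    exact he v v.2
  · obtain ⟨v, rfl⟩ := hπ w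
    exact (hs _ v).2 (hj v v.2)

/-- `van_FL cl_id` and `van_lamA` in `loc X` -/
theorem van_lamI [Finite G] [Fact p.Prime] (hS : Sys f N O) (hk : 1 ≤ k)
    (h : ∀ X, f.Ob X → N X ≤ O X ∨ ((∃ e : ℕ, ∀ v ∈ N X, p ^ e • v ∈ O X) ∧
      ∃ U T : Subgroup G, f.H ⊓ normalizer (X : Set G) ≤ normalizer (U : Set G) ∧
        PAct p (U ⊓ (f.H ⊓ normalizer (X : Set G))) (N X) (O X) ∧ IsPGroup p T ∧
        T ≤ U ⊓ (f.H ⊓ normalizer (X : Set G)) ∧ ¬ T ≤ X)) : Van f N O k := van_FL hS cl_id hk fun X hX _ => by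
  rcases h X hX with h1 | ⟨h1, U, T, h2, h3, h4, h5, h6⟩
  · refine van_of_le fun P _ => ?_
    by_cases h2 : P = X
    · rwa [ite'_neg (not_not.2 h2), h2]
    · rw [ite'_pos h2]
  · exact van_lamA (hS.loc hX) hk h1 h2 h3 h4 h5 h6

end Cfsg.Lib.LK
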