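import Cfsg.Agent.Lib.LK.Amb
import Cfsg.Agent.Lib.LK.Lam

set_option autoImplicit false

namespace Cfsg.Lib.LK

open Subgroup Cfsg.Lib.Transfer
open scoped commutatorElement

variable {p : ℕ} {G Ω : Type*} [Group G] [MulAction G Ω] {f : Fr p G Ω} {k : ℕ}
  {B : Type*} [AddCommGroup B] {ι : B → G}

/-- the centralizer of `X` modulo the normal subgroup `A` -/
def cmA (A : Subgroup G) [hA : A.Normal] (X : Subgroup G) : Subgroup G where
  carrier := {u | ∀ x ∈ X, ⁅u, x⁆ ∈ A}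
  mul_mem' := fun {u v} hu hv x hx => by
    have e : ⁅u * v, x⁆ = u * ⁅v, x⁆ * u⁻¹ * ⁅u, x⁆ := by simp only [commutatorElement_def]; group
    rw [e]; exact mul_mem (hA.conj_mem _ (hv x hx) u) (hu x hx)
  one_mem' := fun x _ => by simp
  inv_mem' := fun {u} hu x hx => by
    have e : ⁅u⁻¹, x⁆ = u⁻¹ * ⁅u, x⁆⁻¹ * u⁻¹⁻¹ := by simp only [commutatorElement_def]; group
    rw [e]; exact hA.conj_mem _ (inv_mem (hu x hx)) _

theorem mem_cmA {A X : Subgroup G} [A.Normal] {u : G} : u ∈ cmA A X ↔ ∀ x ∈ X, ⁅u, x⁆ ∈ A := Iff.rfl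

theorem normalizer_le_cmA [Finite G] {A X : Subgroup G} [hA : A.Normal] :
    normalizer (X : Set G) ≤ normalizer (cmA A X : Set G) := by
  intro g hg
  refine mem_normalizer_of_conj_le (conj_le_iff.2 fun u hu x hx => ?_)
  have hx' : g⁻¹ * x * g ∈ X := mem_conj.1 ((conj_eq_self_iff.2 hg).symm ▸ hx)
  have e : ⁅g * u * g⁻¹, x⁆ = g * ⁅u, g⁻¹ * x * g⁆ * g⁻¹ := by
    simp only [commutatorElement_def]; group
  rw [e]; exact hA.conj_mem _ (hu _ hx') g

theorem cmA_le_normalizer [Finite G] {A X : Subgroup G} [hA : A.Normal] (h : A ≤ X) :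
    cmA A X ≤ normalizer (X : Set G) := by
  intro u hu
  refine mem_normalizer_of_conj_le (conj_le_iff.2 fun x hx => ?_)
  have e : u * x * u⁻¹ = ⁅u, x⁆ * x := by simp only [commutatorElement_def]; group
  rw [e]; exact mul_mem (h (hu x hx)) hx

theorem exists_T_of_not_Cen [Finite G] [Fact p.Prime] {A X : Subgroup G} [hA : A.Normal]
    (h : ¬ Cen p A X) : ∃ T : Subgroup G, IsPGroup p T ∧ T ≤ cmA A X ∧ ¬ T ≤ X := by
  unfold Cen at h
  push Not at h
  obtain ⟨c, ⟨n, hn⟩, h1, h2⟩ := h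
  refine ⟨zpowers c, ?_, zpowers_le.2 h1, fun a => h2 (zpowers_le.1 a)⟩
  rintro ⟨_, m, rfl⟩
  refine ⟨n, Subtype.ext ?_⟩
  change (c ^ m) ^ p ^ n = 1
  rw [← zpow_natCast, ← zpow_mul, mul_comm, zpow_mul, zpow_natCast, hn, one_zpow]

/-- `van_lamI`: for `X` not `Cen A`, `U = {u | ⁅u, X⁆ ≤ A}`, `T = ⟨c⟩`; `u⁻¹ x u = x a` and `χ` is
additive on `X` and zero on `A`, so `U` acts trivially. -/
theorem van_C0a [Finite G] [Fact p.Prime] (h : Ce p ι) (hH : f.H = ⊤) (hY : f.Y = h.A)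
    (hk : 1 ≤ k) : Van f (ite' (Cen p h.A) (o1 B) h.nC) (o1 B) k := by
  have := h.normal
  have hle := (h.le_nC (f := f) hY.ge).1
  refine van_lamI ((h.sys_nC hY.ge).mid (fam_ite' up_Cen fam_o1 h.fam_nC hle)
    (le_ite' _ hle).1 (le_ite' _ hle).2).2 hk fun X hX => ?_
  by_cases hc : Cen p h.A X
  · left; rw [ite'_pos hc]
  right
  have hAX : h.A ≤ X := hY ▸ hX.1
  obtain ⟨T, hT, hTU, hTX⟩ := exists_T_of_not_Cen hc
  obtain ⟨e, he⟩ := h.pt
  rw [ite'_neg hc]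
  refine ⟨⟨e, fun χ _ x _ => he (χ x)⟩, cmA h.A X, T, inf_le_right.trans normalizer_le_cmA,
    fun u hu => ⟨0, fun χ hχ x hx => ?_⟩, hT,
    le_inf hTU (le_inf (hH ▸ le_top) (hTU.trans (cmA_le_normalizer hAX))), hTX⟩
  have hχ' := h.nC_le_nH hAX hχ
  obtain ⟨b, hb⟩ := mem_cmA.1 (inv_mem (mem_inf.1 hu).1) x hx
  have e : u⁻¹ * x * u = ι b * x := by rw [hb]; simp only [commutatorElement_def]; group
  rw [pow_zero, pow_one, Fn.sub_apply, Fn.smul_apply, e, hχ'.1 _ (hAX ⟨b, rfl⟩) _ hx, hχ'.2,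
    zero_add, sub_self]

/-- the trivial action -/
@[reducible] def trvAct (G B : Type*) [Group G] [AddCommGroup B] : DistribMulAction G B where
  smul _ b := b
  one_smul _ := rfl
  mul_smul _ _ _ := rfl
  smul_zero _ := rfl
  smul_add _ _ _ := rfl

theorem van_Trv [Finite G] [Fact p.Prime] [DistribMulAction G B] (ht : ∀ (g : G) (b : B), g • b = b)
    {A : Subgroup G} [A.Normal] (hB : PT p B) (hH : f.H = ⊤)
    (hY : A ≤ f.Y) (hk : 1 ≤ k) : Van f (fx B) (Rf B (Cen p A)) k := by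
  have hS := sys_Rf (D := B) (f := f) (up_Cen (p := p) (A := A))
  refine van_L2 sys_fx hS.2.fN le_Z0 hS.1.le hk (van_full hB)
    (van_lamI hS.2 (by omega) fun X hX => ?_)
  by_cases hc : Cen p A X
  · left; rw [Rf, ite'_pos hc]
  right
  obtain ⟨T, hT, hTU, hTX⟩ := exists_T_of_not_Cen hc
  obtain ⟨e, he⟩ := hB
  exact ⟨⟨e, fun v _ => he v⟩, ⊤, T, le_top.trans (normalizer_eq_top (⊤ : Subgroup G)).ge,
    fun u _ => ⟨0, fun v _ => by rw [ht, sub_self]; exact zero_mem _⟩, hT,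
    le_inf le_top (le_inf (hH ▸ le_top) (hTU.trans (cmA_le_normalizer (hY.trans hX.1)))), hTX⟩

/-- the relation `v ≡ ι b` -/
noncomputable def Ce.rel (h : Ce p ι) (P : Subgroup G) : AddSubgroup (Amb G × B) where
  carrier := {x | x.1 - am (ι x.2) ∈ sO (Zc P ⊔ h.A)}
  add_mem' := fun {x y} hx hy => by
    have := sub_mem (add_mem hx hy) (rel_mem_sO (Z := Zc P ⊔ h.A) (x := ι x.2) (y := ι y.2)
      (mem_sup_right ⟨_, rfl⟩) (mem_sup_right ⟨_, rfl⟩))
    rw [← h.add] at this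
    change x.1 + y.1 - am (ι (x.2 + y.2)) ∈ sO (Zc P ⊔ h.A)
    convert this using 1; abel
  zero_mem' := by
    change (0 : Amb G) - am (ι 0) ∈ sO (Zc P ⊔ h.A)
    rw [h.zero, zero_sub]; exact neg_mem am_one_mem_sO
  neg_mem' := fun {x} hx => by
    have := sub_mem (add_mem (neg_mem hx) (rel_mem_sO (Z := Zc P ⊔ h.A) (x := ι x.2) (y := ι (-x.2))
      (mem_sup_right ⟨_, rfl⟩) (mem_sup_right ⟨_, rfl⟩))) (am_one_mem_sO (Z := Zc P ⊔ h.A))
    rw [← h.add, add_neg_cancel, h.zero] at this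
    change -x.1 - am (ι (-x.2)) ∈ sO (Zc P ⊔ h.A)
    convert this using 1; abel

theorem Ce.mem_rel (h : Ce p ι) {P : Subgroup G} {v : Amb G} {b : B} :
    (v, b) ∈ h.rel P ↔ v - am (ι b) ∈ sO (Zc P ⊔ h.A) := Iff.rfl

theorem eq_one_of_am_mem {P : Subgroup G} {z : G} (hz : z ∈ Zc P) (h : am z ∈ sO (Zc P)) :
    z = 1 := by
  classical
  let : CommGroup (Zc P) :=
    { (inferInstance : Group (Zc P)) with
      mul_comm := fun a b => Subtype.ext ((mem_Zc.1 b.2).2 a (mem_Zc.1 a.2).1) }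
  have := alift_sO (B := Additive (Zc P))
    (ψ := fun x => if hx : x ∈ Zc P then Additive.ofMul ⟨x, hx⟩ else 0)
    (fun x hx y hy => by rw [dif_pos hx, dif_pos hy, dif_pos (mul_mem hx hy)]; rfl) h
  rw [alift_am, dif_pos hz] at this
  exact congrArg Subtype.val (Additive.ofMul.injective this)

/-- The constant system `A` on `Cen A`: `van_CA` (`φ = id`) with the trivial module `W` (a synonym of
`B` with trivial action), `N₁ = fx W`, `O₁ = Rf W (Cen A)`; on `Cen A` relate `v` and `b` if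
`v - am (ι b) ∈ zO P` (injective: `alift_sO` into `Additive (Zc P)`), off it `R P = ⊤`.  For `W`:
`van_L2` from `van_full` and `Van (Rf W (Cen A)) Z0 (k + 1)`, which is `van_lamI` with `U = ⊤` (a
non-centric `X` is not Sylow, `T = ⟨c⟩`). -/
theorem van_C0b [Finite G] [Fact p.Prime] (h : Ce p ι) (hH : f.H = ⊤) (hY : f.Y = h.A)
    (hk : 1 ≤ k) : Van f (on (Cen p h.A) (zA h.A)) (on (Cen p h.A) zO) k := by
  have := h.normal
  let := trvAct G B
  have hZ : ∀ P, f.Ob P → h.A ≤ Zc P := fun P hP a ha =>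
    mem_Zc.2 ⟨hP.1 (hY ▸ ha), fun x _ => mem_center_iff.1 (h.le_center ha) x⟩
  have hF : Fam f (on (Cen p h.A) h.rel) := by
    refine fam_on up_Cen (fun P Q hP hQ hle hc x hx => ?_) fun P hP _ g _ x hx => ?_
    · exact sO_mono (sup_le_sup_right (hc.bot.Zc_le hle hQ.2.2) _) hx
    · have := smul_mem_sO g hx
      rw [smul_sub, smul_am, h.cen, mul_inv_cancel_right, conj_sup, ← Zc_conj,
        conj_eq_self_of_normal g h.A] at this
      exact this
  refine (van_CA (f' := f) (MonoidHom.id G) (fun _ _ _ => rfl) (map_id _) rfl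
    (on (Cen p h.A) h.rel) (fun P P' hP hP' => hF.anti P P' hP.1 hP'.1)
    (fun P hP γ hγ v w hvw => hF.eqv P hP.1 γ hγ _ hvw) (fun P hP v hv => ?_) (fun P hP w _ => ?_)
    (fun P hP v w hvw => ?_) hk).2 (van_Trv (fun _ _ => rfl) h.pt hH hY.ge hk)
  · by_cases hc : Cen p h.A P
    · rw [map_id, on_pos hc] at hv
      obtain ⟨a, ha, s, hs, rfl⟩ := AddSubgroup.mem_sup.1 hv
      obtain ⟨_, ⟨b, rfl⟩, hb⟩ := sN_nf hs
      refine ⟨b, ?_⟩
      rw [on_pos hc, h.mem_rel, add_sub_assoc]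
      exact add_mem (sO_mono le_sup_left ha) (sO_mono le_sup_right hb)
    · exact ⟨0, by rw [on_neg hc]; trivial⟩
  · refine ⟨am (ι w), ?_⟩
    by_cases hc : Cen p h.A P
    · rw [on_pos hc, h.mem_rel, sub_self]; exact zero_mem _
    · rw [on_neg hc]; trivial
  · rw [map_id]
    by_cases hc : Cen p h.A P
    · rw [on_pos hc, h.mem_rel, sup_eq_left.2 (hZ P hP.1)] at hvw
      rw [on_pos hc, on_pos hc, fu_Rf_pos hc]
      refine ⟨?_, fun _ _ => rfl, fun hv => h.inj ?_, fun hw => ?_⟩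
      · rw [← sub_add_cancel v (am (ι w))]
        exact add_mem (AddSubgroup.mem_sup_left hvw) (AddSubgroup.mem_sup_right (am_mem_sN ⟨w, rfl⟩))
      · have := sub_mem hv hvw
        rw [sub_sub_cancel] at this
        exact (eq_one_of_am_mem (hZ P hP.1 ⟨w, rfl⟩) this).trans h.zero.symm
      · subst hw
        have := add_mem hvw (am_one_mem_sO (Z := Zc P))
        rwa [← h.zero, sub_add_cancel] at this
    · rw [on_neg hc, on_neg hc, fu_Rf_neg hc]
      exact ⟨trivial, fun _ _ => rfl, fun _ _ _ => rfl, fun _ => trivial⟩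

end Cfsg.Lib.LK
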