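import Cfsg.Agent.Lib.LK.GT
import Cfsg.Agent.Lib.LK.C0a

set_option autoImplicit false

namespace Cfsg.Lib.LK

open Subgroup Cfsg.Lib.Transfer
open scoped commutatorElement

variable {p : ℕ} {G Ω : Type*} [Group G] [MulAction G Ω] {f : Fr p G Ω} {k : ℕ}
  {B : Type*} [AddCommGroup B] {ι : B → G}

/-- the elements centralizing `X` modulo the normal subgroup `A` -/
def c0cU (A X : Subgroup G) [hA : A.Normal] : Subgroup G where
  carrier := {u | ∀ x ∈ X, ⁅u, x⁆ ∈ A}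
  mul_mem' := fun {u v} hu hv x hx => by
    have e : ⁅u * v, x⁆ = u * ⁅v, x⁆ * u⁻¹ * ⁅u, x⁆ := by simp only [commutatorElement_def]; group
    exact e ▸ mul_mem (hA.conj_mem _ (hv x hx) u) (hu x hx)
  one_mem' := fun x _ => by simp
  inv_mem' := fun {u} hu x hx => by
    have e : ⁅u⁻¹, x⁆ = u⁻¹ * ⁅u, x⁆⁻¹ * u⁻¹⁻¹ := by simp only [commutatorElement_def]; group
    exact e ▸ hA.conj_mem _ (inv_mem (hu x hx)) _

theorem c0c_norm {A X : Subgroup G} [hA : A.Normal] :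
    normalizer (X : Set G) ≤ normalizer ((c0cU A X : Subgroup G) : Set G) := by
  have k : ∀ g ∈ normalizer (X : Set G), ∀ u ∈ c0cU A X, g * u * g⁻¹ ∈ c0cU A X := fun g hg u hu x hx => by
    have e : ⁅g * u * g⁻¹, x⁆ = g * ⁅u, g⁻¹ * x * g⁻¹⁻¹⁆ * g⁻¹ := by simp only [commutatorElement_def]; group
    exact e ▸ hA.conj_mem _ (hu _ ((mem_normalizer_iff.1 (inv_mem hg) x).1 hx)) g
  refine fun g hg => mem_normalizer_iff.2 fun u => ⟨k g hg u, fun h => ?_⟩
  simpa [mul_assoc] using k _ (inv_mem hg) _ h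

theorem c0c_le {A X : Subgroup G} [A.Normal] (h : A ≤ X) : c0cU A X ≤ normalizer (X : Set G) := by
  have k : ∀ u ∈ c0cU A X, ∀ x ∈ X, u * x * u⁻¹ ∈ X := fun u hu x hx => by
    simpa [commutatorElement_def] using mul_mem (h (hu x hx)) hx
  refine fun u hu => mem_normalizer_iff.2 fun x => ⟨k u hu x, fun h => ?_⟩
  simpa [mul_assoc] using k _ (inv_mem hu) _ h

theorem c0c_pow (h : Ce p ι) {u x : G} {b : B} (e : ι b = ⁅u, x⁆) (n : ℕ) : ι (n • b) = ⁅u ^ n, x⁆ := by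
  induction n with
  | zero => simp [h.zero]
  | succ n ih =>
    have e' : ⁅u ^ (n + 1), x⁆ = u * ⁅u ^ n, x⁆ * u⁻¹ * ⁅u, x⁆ := by
      simp only [commutatorElement_def, pow_succ']; group
    rw [e', ← ih, ← e, h.cen _ u, mul_inv_cancel_right, succ_nsmul, h.add]

/-- `van_L2` with `N, O` the centre system on `Cen ⊥` (`van_GT` for `f.bot`, `Van.of_eq`) and
`M = ite' (Cen A) O N`; `Van M O (k + 1)` by `van_lamI`: for `X` centric, not `Cen A`,
`U = {u | ⁅u, X⁆ ≤ A}`, `T = ⟨c⟩`, `u ^ p ^ e` centralizes `X`.  Then `Van.congr_up`. -/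
theorem van_C0c [Finite G] [Fact p.Prime] (h : Ce p ι) (hH : f.H = ⊤) (hY : f.Y = h.A)
    (hk : 2 ≤ k) : Van f (on (Cen p h.A) zN) (on (Cen p h.A) zO) k := by
  have := h.normal
  have hS : Sys f (on (Cen p ⊥) zN) (on (Cen p ⊥) zO) := sys_z up_Cen fun _ _ a => a
  have hQ : Up f (Cen p h.A) := up_Cen
  have hM := fam_ite' hQ hS.fO hS.fN hS.le
  obtain ⟨l1, l2⟩ := le_ite' (Cen p h.A) hS.le
  obtain ⟨s1, s2⟩ := hS.mid hM l1 l2
  refine (van_L2 hS hM l1 l2 (by omega) ((van_GT (f := f.bot) hH rfl hk).of_eq rfl rfl)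
    (van_lamI s2 (by omega) fun X hX => ?_)).congr_up (by omega) hQ s1 (sys_z hQ fun _ _ a => a.bot)
    (fun P _ a => ?_) fun P _ a => ?_
  · by_cases a : Cen p h.A X
    · exact .inl (ite'_pos a).le
    by_cases b : Cen p ⊥ X
    swap
    · exact .inl (le_top.trans (on_neg b).ge)
    rw [ite'_neg a, on_pos b, on_pos b]
    simp only [Cen, not_forall] at a
    obtain ⟨c, ⟨n, hn⟩, h1, h2⟩ := a
    have hA : h.A ≤ X := hY ▸ hX.1
    refine .inr ⟨sN_tor (hX.2.2.to_le inf_le_left), c0cU h.A X, zpowers c, inf_le_right.trans c0c_norm,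
      fun u hu => ?_, fun g => ?_, zpowers_le.2 ⟨h1, hH ▸ mem_top c, c0c_le hA h1⟩, fun e => h2 (zpowers_le.1 e)⟩
    · obtain ⟨e, he⟩ := h.pt
      refine ⟨e, fun v hv => ?_⟩
      rw [smul_eq_of_centralizer (fun z hz => ?_) hv, sub_self]
      · exact zero_mem _
      obtain ⟨b, hb⟩ := h.mem_A.1 (hu.1 z hz.1)
      have := c0c_pow h hb (p ^ e)
      rw [he, h.zero] at this
      exact commutatorElement_eq_one_iff_mul_comm.1 this.symm
    · obtain ⟨g, m, rfl⟩ := g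
      refine ⟨n, Subtype.ext ?_⟩
      change (c ^ m) ^ p ^ n = 1
      rw [← zpow_natCast, ← zpow_mul, mul_comm, zpow_mul, zpow_natCast, hn, one_zpow]
  · rw [ite'_pos a, on_pos a.bot, on_pos a.bot, on_pos a, on_pos a]
    exact ⟨rfl, rfl⟩
  · rw [ite'_neg a, on_neg a, on_neg a]
    exact ⟨le_rfl, le_rfl⟩

/-- `van_L2` with `van_C0c`, `van_C0b` -/
theorem van_C0c' [Finite G] [Fact p.Prime] (h : Ce p ι) (hH : f.H = ⊤) (hY : f.Y = h.A)
    (hk : 2 ≤ k) : Van f (on (Cen p h.A) zN) (on (Cen p h.A) (zA h.A)) k := by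
  have := h.normal
  obtain ⟨l1, l2⟩ := le_zA (f := f) (𝒰 := Cen p h.A) h.le_center hY.ge
  exact van_L2 (sys_z up_Cen fun _ _ a => a.bot) (fam_zA up_Cen fun _ _ a => a.bot) l1 l2 (by omega)
    (van_C0c h hH hY hk) (van_C0b h hH hY (by omega))

end Cfsg.Lib.LK
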