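import Cfsg.Agent.Lib.LK.C0c

set_option autoImplicit false

namespace Cfsg.Lib.LK

open Subgroup Cfsg.Lib.Transfer
open scoped commutatorElement

variable {p : ℕ} {G Ω : Type*} [Group G] [MulAction G Ω] {f : Fr p G Ω} {k : ℕ}
  {B : Type*} [AddCommGroup B] {ι : B → G}

/-- the frame of a quotient group -/
theorem exists_quot_frame [Finite G] [Fact p.Prime] {Gb : Type*} [Group Gb] (π : G →* Gb)
    (hπ : Function.Surjective π) (hH : f.H = ⊤) (ht : ∀ g ∈ π.ker, ∀ x : Ω, g • x = x) :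
    ∃ (_ : MulAction Gb Ω) (f' : Fr p Gb Ω), f'.H = ⊤ ∧ f'.Y = ⊥ ∧ f'.A = f.A ∧
      ∀ (g : G) (x : Ω), g • x = π g • x := by
  let φ : Gb →* Equiv.Perm Ω := π.liftOfSurjective hπ ⟨MulAction.toPermHom G Ω, fun g hg =>
    Equiv.ext fun x => ht g hg x⟩
  let _ : MulAction Gb Ω := MulAction.compHom Ω φ
  have e : ∀ (g : G) (x : Ω), g • x = π g • x := fun g x =>
    (congrArg (fun s : Equiv.Perm Ω => s x) (show φ (π g) = MulAction.toPermHom G Ω g from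
      π.liftOfRightInverse_comp_apply _ _ _ g)).symm
  refine ⟨_, {
    H := ⊤
    A := f.A
    Y := ⊥
    inv := fun g _ x hx => by
      obtain ⟨g, rfl⟩ := hπ g
      exact e g x ▸ f.inv g (hH ▸ mem_top g) x hx
    card := f.card
    pg := fun x hx => ((f.pg x hx).map π).to_le fun g hg => by
      obtain ⟨g, rfl⟩ := hπ g
      exact mem_map_of_mem π ⟨hH ▸ mem_top g, (e g x).trans hg.2⟩
    Yle := bot_le
    Yn := fun g _ => conj_eq_self_iff.1 (conj_eq_bot_iff.2 rfl)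
    Yfix := by simp }, rfl, rfl, rfl, e⟩

/-- for `A ≤ P` (lift a `p`-element of `Gb` to a `p`-element of `G`: `A` is a `p`-group) -/
theorem cen_map_iff {Gb : Type*} [Group Gb] (π : G →* Gb) (hπ : Function.Surjective π)
    (hA : IsPGroup p π.ker) {P : Subgroup G} (hP : π.ker ≤ P) :
    Cen p ⊥ (P.map π) ↔ Cen p π.ker P := by
  refine ⟨fun h c ⟨n, hn⟩ hc => ?_, fun h c ⟨n, hn⟩ hc => ?_⟩
  · rw [← comap_map_eq_self hP]
    refine h (π c) ⟨n, by rw [← map_pow, hn, map_one]⟩ ?_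
    rintro _ ⟨x, hx, rfl⟩
    rw [← map_commutatorElement]
    exact hc x hx
  · obtain ⟨c, rfl⟩ := hπ c
    obtain ⟨m, hm⟩ := hA ⟨c ^ p ^ n, by rwa [MonoidHom.mem_ker, map_pow]⟩
    refine mem_map_of_mem π (h c ⟨n + m, by rw [pow_add, pow_mul]; exact congrArg Subtype.val hm⟩ fun x hx => ?_)
    rw [MonoidHom.mem_ker, map_commutatorElement]
    exact hc _ (mem_map_of_mem π hx)

theorem c0d_inj {P Z : Subgroup G} (h : Z ≤ Zc P) {y : G} (hy : y ∈ Zc P) (h1 : am y ∈ sO (Zc P) ⊔ sN Z) :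
    y ∈ Z := by
  classical
  obtain ⟨a, ha, b, hb, e⟩ := AddSubgroup.mem_sup.1 h1
  obtain ⟨z, hz, h2⟩ := sN_nf hb
  let _ : CommGroup (Zc P) := { (inferInstance : Group (Zc P)) with
    mul_comm := fun a b => Subtype.ext ((mem_Zc.1 b.2).2 _ a.2.1) }
  have h3 := alift_sO (ψ := fun g => if h : g ∈ Zc P then Additive.ofMul (⟨g, h⟩ : Zc P) else 0)
    (fun x hx y hy => by rw [dif_pos hx, dif_pos hy, dif_pos (mul_mem hx hy)]; rfl) (add_mem ha (sO_mono h h2))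
  rw [← add_sub_assoc, e, map_sub, alift_am, alift_am, dif_pos hy, dif_pos (h hz), sub_eq_zero] at h3
  have h4 : y = z := congrArg Subtype.val (Additive.ofMul.injective h3)
  exact h4 ▸ hz

section
variable {Gb : Type*} [Group Gb] (π : G →* Gb)

theorem c0d_Zc (P : Subgroup G) : (Zc P).map π ≤ Zc (P.map π) := by
  rintro _ ⟨z, hz, rfl⟩
  refine mem_Zc.2 ⟨mem_map_of_mem π hz.1, ?_⟩
  rintro _ ⟨x, hx, rfl⟩
  rw [← map_mul, ← map_mul, (mem_Zc.1 hz).2 x hx]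

theorem c0d_sN (Z : Subgroup G) : (sN Z).map (alift fun x => am (π x)) = sN (Z.map π) := by
  rw [sN, sN, AddMonoidHom.map_closure, coe_map, Set.image_image, Set.image_image]
  simp

theorem c0d_sO (Z : Subgroup G) {v : Amb G} (hv : v ∈ sO Z) : alift (fun x => am (π x)) v ∈ sO (Z.map π) := by
  refine (AddSubgroup.closure_le ((sO (Z.map π)).comap (alift fun x => am (π x)))).2 ?_ hv
  rintro _ ⟨x, hx, y, hy, rfl⟩
  simpa using rel_mem_sO (mem_map_of_mem π hx) (mem_map_of_mem π hy)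

theorem c0d_smul (g : G) (v : Amb G) :
    alift (fun x => am (π x)) (g • v) = π g • alift (fun x => am (π x)) v :=
  DFunLike.congr_fun (amb_ext (α := (alift fun x => am (π x)).comp (DistribSMul.toAddMonoidHom _ g))
    (β := (DistribSMul.toAddMonoidHom _ (π g)).comp (alift fun x => am (π x))) fun x => by simp) v

end

theorem c0d_add (h : Ce p ι) {a b : B} {c c' x : G} (hc : ι a = ⁅c, x⁆) (hc' : ι b = ⁅c', x⁆) :
    ι (a + b) = ⁅c * c', x⁆ := by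
  have e : ⁅c * c', x⁆ = c * ⁅c', x⁆ * c⁻¹ * ⁅c, x⁆ := by simp only [commutatorElement_def]; group
  rw [e, ← hc', h.cen, mul_inv_cancel_right, ← hc, add_comm, h.add]

theorem c0d_neg (h : Ce p ι) {a : B} {c x : G} (hc : ι a = ⁅c, x⁆) : ι (-a) = ⁅c⁻¹, x⁆ := by
  have e : ⁅c⁻¹, x⁆ = c⁻¹ * ⁅c, x⁆⁻¹ * c := by simp only [commutatorElement_def]; group
  rw [e, ← hc, ← h.neg, h.cen, inv_mul_cancel_right]

theorem c0d_pow (h : Ce p ι) {a : B} {c x : G} (hc : ι a = ⁅c, x⁆) (n : ℕ) : ι (n • a) = ⁅c ^ n, x⁆ := by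
  induction n with
  | zero => simp [h.zero]
  | succ n ih => rw [succ_nsmul, pow_succ, c0d_add h ih hc]

/-- the image of `Z(P)` in `Z(P / A)`, as a family on `Gb` -/
noncomputable def zM {Gb : Type*} [Group Gb] (π : G →* Gb) (P : Subgroup Gb) :
    AddSubgroup (Amb Gb) := sO (Zc P) ⊔ sN ((Zc (P.comap π)).map π)

/-- `van_CA` with `φ = π`, relation the graph of `alift (am ∘ π)` modulo `zO`, and `van_C0c'` -/
theorem van_C0d1 [Finite G] [Fact p.Prime] (h : Ce p ι) (hH : f.H = ⊤) (hY : f.Y = h.A)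
    {Gb : Type*} [Group Gb] [MulAction Gb Ω] (π : G →* Gb) (hπ : Function.Surjective π)
    (hK : π.ker = h.A) (f' : Fr p Gb Ω) (hH' : f'.H = ⊤) (hY' : f'.Y = ⊥) (hA : f'.A = f.A)
    (ha : ∀ (g : G) (x : Ω), g • x = π g • x) (hk : 2 ≤ k) :
    Van f' (on (Cen p ⊥) (zM π)) (on (Cen p ⊥) zO) k := by
  classical
  have := h.normal
  have hc : ∀ P, f.Ob P → (Cen p ⊥ (P.map π) ↔ Cen p h.A P) := fun P hP =>
    hK ▸ cen_map_iff π hπ (hK ▸ h.pg) (hK ▸ hY ▸ hP.1)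
  have hm : ∀ P, f.Ob P → (P.map π).comap π = P := fun P hP => comap_map_eq_self (hK ▸ hY ▸ hP.1)
  let L : Amb G →+ Amb Gb := alift fun x => am (π x)
  let R : Subgroup G → AddSubgroup (Amb Gb × Amb G) := fun P => if Cen p h.A P then
    (zN P).comap (AddMonoidHom.snd _ _) ⊓ (zO (P.map π)).comap (AddMonoidHom.fst _ _ - L.comp (AddMonoidHom.snd _ _))
    else ⊤
  have hR : ∀ {P}, Cen p h.A P → ∀ v w, (v, w) ∈ R P ↔ w ∈ zN P ∧ v - L w ∈ zO (P.map π) := fun hP v w => by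
    simp only [R, if_pos hP]; rfl
  have hR' : ∀ {P}, ¬ Cen p h.A P → ∀ z, z ∈ R P := fun hP z => by simp only [R, if_neg hP]; trivial
  refine (van_CA π (fun γ _ => ha γ) (by rw [hH, hH', map_top_of_surjective π hπ]) hA.symm R
    (fun P P' hP hP' hle z hz => ?_) (fun P hP γ hγ v w hz => ?_) (fun P hP v hv => ?_) (fun P hP w hw => ?_)
    (fun P hP v w hz => ?_) (by omega)).2 (van_C0c' h hH hY hk) <;> by_cases h1 : Cen p h.A P
  · have h2 := (hR (h1.mono hle) _ _).1 hz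
    exact (hR h1 _ _).2 ⟨sN_mono (h1.bot.Zc_le hle hP'.1.2.2) h2.1,
      sO_mono (((hc P hP.1).2 h1).Zc_le (map_mono hle) hP'.2.1.2.2) h2.2⟩
  · exact hR' h1 _
  · have h2 := (hR h1 _ _).1 hz
    refine (hR (up_Cen.cj P hP.1 γ hγ h1) _ _).2 ⟨?_, ?_⟩
    · rw [zN, Zc_conj]; exact smul_mem_sN γ h2.1
    · rw [c0d_smul, ← smul_sub, lam_map_conj, zO, Zc_conj]; exact smul_mem_sO _ h2.2
  · exact hR' (fun e => h1 ((up_Cen.cj_iff hP.1 hγ).1 e)) _
  · rw [on_pos ((hc P hP.1).2 h1), zM, hm P hP.1, ← c0d_sN] at hv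
    obtain ⟨a, ha, _, ⟨w, hw, rfl⟩, rfl⟩ := AddSubgroup.mem_sup.1 hv
    exact ⟨w, (hR h1 _ _).2 ⟨hw, by simpa [L, zO] using ha⟩⟩
  · exact ⟨0, hR' h1 _⟩
  · rw [on_pos h1] at hw
    exact ⟨L w, (hR h1 _ _).2 ⟨hw, by simp⟩⟩
  · exact ⟨0, hR' h1 _⟩
  · obtain ⟨h2, h3⟩ := (hR h1 _ _).1 hz
    rw [on_pos ((hc P hP.1).2 h1), on_pos ((hc P hP.1).2 h1), on_pos h1, on_pos h1, zM, hm P hP.1, ← c0d_sN,
      ← sub_add_cancel v (L w), AddSubgroup.add_mem_cancel_left _ h3]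
    refine ⟨AddSubgroup.add_mem_sup h3 ⟨w, h2, rfl⟩, h2, fun h4 => ?_, fun h4 => ?_⟩
    · obtain ⟨z, hz, h5⟩ := sN_nf h2
      have h6 := sO_mono (c0d_Zc π P) (c0d_sO π _ h5)
      rw [map_sub, alift_am] at h6
      have h7 : π z ∈ (⊥ : Subgroup Gb) := c0d_inj bot_le (c0d_Zc π P (mem_map_of_mem π hz))
        (AddSubgroup.mem_sup_left (by simpa [L, zO] using sub_mem h4 h6))
      rw [← sub_add_cancel w (am z)]
      exact AddSubgroup.add_mem_sup h5 (am_mem_sN (hK ▸ h7))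
    · obtain ⟨a, ha, b, hb, rfl⟩ := AddSubgroup.mem_sup.1 h4
      rw [map_add]
      refine add_mem (sO_mono (c0d_Zc π P) (c0d_sO π _ ha)) ?_
      refine (AddSubgroup.closure_le ((zO (P.map π)).comap L)).2 ?_ hb
      rintro _ ⟨x, hx, rfl⟩
      have h5 : π x = 1 := show x ∈ π.ker from hK ▸ hx
      simpa [L, h5, zO] using am_one_mem_sO
  · have h2 := fun e => h1 ((hc P hP.1).1 e)
    simp only [on_neg h2, on_neg h1, AddSubgroup.mem_top, and_self]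

theorem c0d_cen (h : Ce p ι) {Gb : Type*} [Group Gb] (π : G →* Gb) (hK : π.ker = h.A) {P : Subgroup G} {z : G}
    {χ : Fn G B} (hz : z ∈ P) (h1 : ∀ x ∈ P, ι (χ x) = ⁅z, x⁆) : π z ∈ Zc (P.map π) := by
  refine mem_Zc.2 ⟨mem_map_of_mem π hz, ?_⟩
  rintro _ ⟨x, hx, rfl⟩
  have h2 : ⁅z, x⁆ ∈ π.ker := hK ▸ ⟨_, h1 x hx⟩
  rw [MonoidHom.mem_ker, map_commutatorElement] at h2
  exact (commutatorElement_eq_one_iff_mul_comm.1 h2).symm

theorem c0d_fam {Gb : Type*} [Group Gb] [MulAction Gb Ω] (π : G →* Gb) (hπ : Function.Surjective π)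
    (hA : IsPGroup p π.ker) (f' : Fr p Gb Ω) : Fam f' (on (Cen p ⊥) (zM π)) := by
  refine ⟨fun P Q _ hQ hle => ?_, fun P hP g hg v hv => ?_⟩ <;> by_cases h1 : Cen p ⊥ P
  · rw [on_pos h1, on_pos (h1.mono hle)]
    have h2 : Cen p π.ker (P.comap π) :=
      (cen_map_iff π hπ hA (ker_le_comap π P)).1 (by rwa [map_comap_eq_self_of_surjective hπ])
    exact sup_le_sup (sO_mono (h1.Zc_le hle hQ.2.2))
      (sN_mono (map_mono (h2.bot.Zc_le (comap_mono hle) (hQ.2.2.comap_of_ker_isPGroup π hA))))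
  · rw [on_neg h1]; exact le_top
  · rw [on_pos h1] at hv
    rw [on_pos (up_Cen.cj P hP g hg h1)]
    obtain ⟨γ, rfl⟩ := hπ g
    obtain ⟨a, ha, b, hb, rfl⟩ := AddSubgroup.mem_sup.1 hv
    have e : (π γ ⋆ P).comap π = γ ⋆ P.comap π := by
      ext x; rw [mem_comap, mem_conj, mem_conj, mem_comap, map_mul, map_mul, map_inv]
    rw [smul_add, zM, e, Zc_conj, Zc_conj, lam_map_conj]
    exact AddSubgroup.add_mem_sup (smul_mem_sO _ ha) (smul_mem_sN _ hb)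
  · rw [on_neg fun e => h1 ((up_Cen.cj_iff hP hg).1 e)]; trivial

theorem c0d_le {Gb : Type*} [Group Gb] (π : G →* Gb) (hπ : Function.Surjective π) (P : Subgroup Gb) :
    zM π P ≤ zN P :=
  sup_le sO_le_sN (sN_mono ((c0d_Zc π _).trans_eq (by rw [map_comap_eq_self_of_surjective hπ])))

/-- the relation between `Z(P / A)` and the commutator functions -/
def c0dR (h : Ce p ι) {Gb : Type*} [Group Gb] (π : G →* Gb) (hK : π.ker = h.A) (P : Subgroup G) :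
    AddSubgroup (Amb Gb × Fn G B) where
  carrier := {q | ∃ z ∈ P, (∀ x ∈ P, ι (q.2 x) = ⁅z, x⁆) ∧ q.1 - am (π z) ∈ zM π (P.map π)}
  zero_mem' := ⟨1, one_mem _, fun x _ => by simp [Fn.zero_apply, h.zero],
    AddSubgroup.mem_sup_left (by simpa using am_one_mem_sO)⟩
  add_mem' := by
    rintro q q' ⟨z, hz, h1, h2⟩ ⟨z', hz', h1', h2'⟩
    refine ⟨z * z', mul_mem hz hz', fun x hx => c0d_add h (h1 x hx) (h1' x hx), ?_⟩
    convert sub_mem (add_mem h2 h2') (AddSubgroup.mem_sup_left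
      (rel_mem_sO (c0d_cen h π hK hz h1) (c0d_cen h π hK hz' h1'))) using 1
    rw [map_mul, Prod.fst_add]; abel
  neg_mem' := by
    rintro q ⟨z, hz, h1, h2⟩
    refine ⟨z⁻¹, inv_mem hz, fun x hx => c0d_neg h (h1 x hx), ?_⟩
    have h3 := c0d_cen h π hK hz h1
    convert add_mem (neg_mem h2) (AddSubgroup.mem_sup_left
      (sub_mem (rel_mem_sO h3 (inv_mem h3)) am_one_mem_sO)) using 1
    rw [map_inv, Prod.fst_neg, mul_inv_cancel]; abel

/-- `van_L2` in `f'` (`van_GT`, `van_C0d1`) gives `Van f' zN (zM π) k`; `van_CA` with `φ = π`: on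
`Cen A` relate `v` and `χ` if there is `z ∈ P` with `ι (χ x) = ⁅z, x⁆` on `P` and
`v - am (π z) ∈ zM π (P.map π)`; a `c` with `⁅c, P⁆ ≤ A` may be replaced by its `p`-part (a power of
`c` inducing the same map), which lies in `P`.  Off `Cen A`: `R P = ⊤ × nC P`. -/
theorem van_C0d [Finite G] [Fact p.Prime] (h : Ce p ι) (hH : f.H = ⊤) (hY : f.Y = h.A)
    (ht : ∀ (b : B) (x : Ω), ι b • x = x) (hk : 2 ≤ k) :
    Van f h.nC (ite' (Cen p h.A) (o1 B) h.nC) k := by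
  classical
  have := h.normal
  obtain ⟨Gb, _, π, hπ, hK⟩ : ∃ (Gb : Type _) (_ : Group Gb) (π : G →* Gb), Function.Surjective π ∧ π.ker = h.A :=
    ⟨_, _, _, QuotientGroup.mk'_surjective _, QuotientGroup.ker_mk' _⟩
  have := Finite.of_surjective π hπ
  obtain ⟨_, f', hH', hY', hA, ha⟩ := exists_quot_frame (f := f) π hπ hH (by
    rw [hK]; rintro _ ⟨b, rfl⟩; exact ht b)
  have hF := c0d_fam π hπ (hK ▸ h.pg) f'
  have hc : ∀ P, f.Ob P → (Cen p ⊥ (P.map π) ↔ Cen p h.A P) := fun P hP =>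
    hK ▸ cen_map_iff π hπ (hK ▸ h.pg) (hK ▸ hY ▸ hP.1)
  have hm : ∀ P, f.Ob P → (P.map π).comap π = P := fun P hP => comap_map_eq_self (hK ▸ hY ▸ hP.1)
  let R : Subgroup G → AddSubgroup (Amb Gb × Fn G B) := fun P =>
    if Cen p h.A P then c0dR h π hK P else (⊤ : AddSubgroup _).prod (h.nC P)
  have hR : ∀ {P}, Cen p h.A P → ∀ v χ, (v, χ) ∈ R P ↔
      ∃ z ∈ P, (∀ x ∈ P, ι (χ x) = ⁅z, x⁆) ∧ v - am (π z) ∈ zM π (P.map π) := fun hP v w => by
    simp only [R, if_pos hP]; rfl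
  have hR' : ∀ {P}, ¬ Cen p h.A P → ∀ v χ, (v, χ) ∈ R P ↔ χ ∈ h.nC P := fun hP v χ => by
    simp only [R, if_neg hP]; exact and_iff_right trivial
  refine (van_CA π (fun γ _ => ha γ) (by rw [hH, hH', map_top_of_surjective π hπ]) hA.symm R
    (fun P P' hP hP' hle z hz => ?_) (fun P hP γ hγ v w hz => ?_) (fun P hP v hv => ?_) (fun P hP w hw => ?_)
    (fun P hP v w hz => ?_) (by omega)).1 (van_L2 (sys_z up_Cen fun _ _ e => e) hF (fun P _ => ?_) (fun P _ => ?_)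
      (by omega) (van_GT hH' hY' hk) (van_C0d1 h hH hY π hπ hK f' hH' hY' hA ha (by omega)))
  rotate_right 2
  · by_cases h1 : Cen p ⊥ P
    · rw [on_pos h1, on_pos h1]; exact le_sup_left
    · rw [on_neg h1, on_neg h1]
  · by_cases h1 : Cen p ⊥ P
    · rw [on_pos h1, on_pos h1]; exact c0d_le π hπ P
    · rw [on_neg h1, on_neg h1]
  all_goals by_cases h1 : Cen p h.A P
  · obtain ⟨c, h2, h3, h4⟩ := (hR (h1.mono hle) _ _).1 hz
    have h5 := hF.anti _ _ hP.2.1 hP'.2.1 (map_mono hle)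
    rw [on_pos ((hc P hP.1).2 h1), on_pos ((hc P' hP'.1).2 (h1.mono hle))] at h5
    exact (hR h1 _ _).2 ⟨c, h1 c ((hP'.1.2.2 ⟨c, h2⟩).imp fun _ e => congrArg Subtype.val e)
      fun x hx => ⟨_, h3 x (hle hx)⟩, fun x hx => h3 x (hle hx), h5 h4⟩
  · refine (hR' h1 _ _).2 ?_
    by_cases h2 : Cen p h.A P'
    · obtain ⟨c, -, h3, -⟩ := (hR h2 _ _).1 hz
      exact ⟨c, fun x hx => h3 x (hle hx)⟩
    · exact h.fam_nC.anti _ _ hP.1 hP'.1 hle ((hR' h2 _ _).1 hz)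
  · obtain ⟨c, h2, h3, h4⟩ := (hR h1 _ _).1 hz
    have h6 := up_Cen.cj P hP.1 γ hγ h1
    have h5 := hF.eqv _ hP.2.1 (π γ) (hH' ▸ mem_top _) _ (by rwa [on_pos ((hc P hP.1).2 h1)])
    rw [← lam_map_conj, on_pos ((hc _ (hP.1.conj hγ)).2 h6), smul_sub, smul_am, ← map_inv, ← map_mul,
      ← map_mul] at h5
    refine (hR h6 _ _).2 ⟨_, conj_mem_conj.2 h2, fun x hx => ?_, h5⟩
    have e : ⁅γ * c * γ⁻¹, x⁆ = γ * ⁅c, γ⁻¹ * x * γ⁆ * γ⁻¹ := by simp only [commutatorElement_def]; group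
    rw [e, ← h3 _ (mem_conj.1 hx), h.cen, mul_inv_cancel_right, Fn.smul_apply]
  · exact (hR' (fun e => h1 ((up_Cen.cj_iff hP.1 hγ).1 e)) _ _).2 (h.fam_nC.eqv _ hP.1 γ hγ _ ((hR' h1 _ _).1 hz))
  · rw [on_pos ((hc P hP.1).2 h1)] at hv
    obtain ⟨_, h2, h3⟩ := sN_nf hv
    obtain ⟨z, hz, rfl⟩ := h2.1
    refine ⟨fun x => Function.invFun ι ⁅z, x⁆, (hR h1 _ _).2 ⟨z, hz, fun x hx => Function.invFun_eq
      (show ⁅z, x⁆ ∈ h.A from hK ▸ ?_), AddSubgroup.mem_sup_left h3⟩⟩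
    rw [MonoidHom.mem_ker, map_commutatorElement, commutatorElement_eq_one_iff_mul_comm]
    exact ((mem_Zc.1 h2).2 _ (mem_map_of_mem π hx)).symm
  · exact ⟨0, (hR' h1 _ _).2 (zero_mem _)⟩
  · obtain ⟨c, h2⟩ := hw
    obtain ⟨a, m, h3, h4⟩ := Nat.exists_eq_pow_mul_and_not_dvd (orderOf_pos c).ne' p (Fact.out : p.Prime).ne_one
    obtain ⟨n, hn⟩ := exists_inv h.pt h3
    have h5 : ∀ x ∈ P, ι (w x) = ⁅c ^ (n * m), x⁆ := fun x hx => by rw [← c0d_pow h (h2 x hx), mul_smul, hn]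
    exact ⟨am (π (c ^ (n * m))), (hR h1 _ _).2 ⟨_, h1 _ ⟨a, by
      rw [← pow_mul, mul_assoc, mul_comm m, ← h4, mul_comm, pow_mul, pow_orderOf_eq_one, one_pow]⟩
      fun x hx => ⟨_, h5 x hx⟩, h5, by simp⟩⟩
  · exact ⟨0, (hR' h1 _ _).2 hw⟩
  · obtain ⟨c, h2, h3, h4⟩ := (hR h1 _ _).1 hz
    have h5 := c0d_cen h π hK h2 h3
    rw [on_pos ((hc P hP.1).2 h1), on_pos ((hc P hP.1).2 h1), ite'_pos h1, ← sub_add_cancel v (am (π c)),
      AddSubgroup.add_mem_cancel_left _ h4]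
    refine ⟨add_mem (c0d_le π hπ _ h4) (am_mem_sN h5), ⟨c, h3⟩, fun h6 x hx => h.inj ?_, fun h6 => ?_⟩
    · rw [zM, hm P hP.1] at h6
      have h7 : c ∈ ((Zc P).map π).comap π := c0d_inj (c0d_Zc π P) h5 h6
      rw [comap_map_eq_self (hK ▸ le_inf (hY ▸ hP.1.1) (h.le_center.trans (center_le_centralizer _)))] at h7
      rw [h3 x hx, h.zero, commutatorElement_eq_one_iff_mul_comm, (mem_Zc.1 h7).2 x hx]
    · rw [zM, hm P hP.1]
      refine AddSubgroup.mem_sup_right (am_mem_sN (mem_map_of_mem π (mem_Zc.2 ⟨h2, fun x hx => ?_⟩)))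
      rw [eq_comm, ← commutatorElement_eq_one_iff_mul_comm, ← h3 x hx, h6 x hx, h.zero]
  · have h2 := fun e => h1 ((hc P hP.1).1 e)
    have h3 := (hR' h1 _ _).1 hz
    rw [on_neg h2, on_neg h2, ite'_neg h1]
    exact ⟨trivial, h3, iff_of_true trivial h3⟩

/-- `van_L1` with `van_C0d`, `van_C0a` -/
theorem van_C0 [Finite G] [Fact p.Prime] (h : Ce p ι) (hH : f.H = ⊤) (hY : f.Y = h.A)
    (ht : ∀ (b : B) (x : Ω), ι b • x = x) (hk : 2 ≤ k) : Van f h.nC (o1 B) k := by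
  have := h.normal
  have hS := h.sys_nC (f := f) hY.ge
  exact van_L1 hS (fam_ite' up_Cen hS.fO hS.fN hS.le) (le_ite' _ hS.le).1 (le_ite' _ hS.le).2 (by omega)
    (van_C0d h hH hY ht hk) (van_C0a h hH hY (by omega))

end Cfsg.Lib.LK
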