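import Cfsg.Agent.Lib.Transfer.SylowIn

/-!
Higher limits over orbit categories in a concrete model (see `docs/LK.md`): cochains are functions
on lists of points of a `G`-set, coefficient systems are pairs `O ≤ N` of families of additive
subgroups of one ambient `G`-module, evaluated at the stabilizer of the list.
-/

set_option autoImplicit false

namespace Cfsg.Lib.LK

open Subgroup Cfsg.Lib.Transfer
open scoped commutatorElement

/-- the differential: `d c [x, y] = c [y] - c [x]`, `d c [x, y, z] = c [y, z] - c [x, z] + c [x, y]`. -/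
def d {Ω D : Type*} [AddCommGroup D] : (List Ω → D) → List Ω → D
  | _, [] => 0
  | c, x :: l => c l - d (fun m => c (x :: m)) l

section dd
variable {Ω D W : Type*} [AddCommGroup D] [AddCommGroup W]

@[simp] theorem d_nil (c : List Ω → D) : d c [] = 0 := rfl
@[simp] theorem d_cons (c : List Ω → D) (x : Ω) (l : List Ω) :
    d c (x :: l) = c l - d (fun m => c (x :: m)) l := rfl

theorem d_map (π : D →+ W) (c : List Ω → D) (l : List Ω) :
    d (fun m => π (c m)) l = π (d c l) := by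
  induction l generalizing c with
  | nil => simp
  | cons x l ih => simp [ih (fun m => c (x :: m))]

theorem d_sub (c c' : List Ω → D) (l : List Ω) :
    d (fun m => c m - c' m) l = d c l - d c' l := by
  induction l generalizing c c' with
  | nil => simp
  | cons x l ih => simp only [d_cons, ih (fun m => c (x :: m)) (fun m => c' (x :: m))]; abel

theorem d_add (c c' : List Ω → D) (l : List Ω) :
    d (fun m => c m + c' m) l = d c l + d c' l := by
  induction l generalizing c c' with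
  | nil => simp
  | cons x l ih => simp only [d_cons, ih (fun m => c (x :: m)) (fun m => c' (x :: m))]; abel

theorem d_d (c : List Ω → D) (l : List Ω) : d (d c) l = 0 := by
  induction l generalizing c with
  | nil => simp
  | cons x l ih =>
    have : (fun m => d c (x :: m)) = fun m => c m - d (fun m => c (x :: m)) m := rfl
    rw [d_cons, this, d_sub, ih]; simp

/-- `d c l` lies in every subgroup containing the values of `c` on the faces of `l` -/
theorem d_mem (M : AddSubgroup D) (c : List Ω → D) (l : List Ω)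
    (h : ∀ m : List Ω, m.Sublist l → m.length + 1 = l.length → c m ∈ M) : d c l ∈ M := by
  induction l generalizing c with
  | nil => simp
  | cons x l ih =>
    rw [d_cons]
    refine M.sub_mem (h l (List.sublist_cons_self x l) rfl) (ih _ fun m hm hl => h _ ?_ ?_)
    · exact hm.cons_cons x
    · simp [hl]

theorem d_sub_mem (M : AddSubgroup D) (c c' : List Ω → D) (l : List Ω)
    (h : ∀ m : List Ω, m.Sublist l → m.length + 1 = l.length → c m - c' m ∈ M) :
    d c l - d c' l ∈ M := by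
  rw [← d_sub]; exact d_mem M _ l h

theorem d_lmap {Ω' : Type*} (e : Ω → Ω') (c : List Ω' → D) (l : List Ω) :
    d c (l.map e) = d (fun m => c (m.map e)) l := by
  induction l generalizing c with
  | nil => simp
  | cons x l ih => simp [ih]

theorem d_sum {ι : Type*} (s : Finset ι) (c : ι → List Ω → D) (l : List Ω) :
    d (fun m => ∑ i ∈ s, c i m) l = ∑ i ∈ s, d (c i) l := by
  induction l generalizing c with
  | nil => simp
  | cons x l ih => simp [ih (fun i m => c i (x :: m)), Finset.sum_sub_distrib]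

end dd

variable {p : ℕ} {G Ω D : Type*} [Group G] [MulAction G Ω] [AddCommGroup D] [DistribMulAction G D]

/-- the action on lists -/
def act (g : G) (l : List Ω) : List Ω := l.map (g • ·)

@[simp] theorem act_nil (g : G) : act g ([] : List Ω) = [] := rfl
@[simp] theorem act_cons (g : G) (x : Ω) (l : List Ω) : act g (x :: l) = g • x :: act g l := rfl
@[simp] theorem length_act (g : G) (l : List Ω) : (act g l).length = l.length := by simp [act]
@[simp] theorem act_one (l : List Ω) : act (1 : G) l = l := by simp [act]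
theorem act_act (g h : G) (l : List Ω) : act g (act h l) = act (g * h) l := by
  simp [act, mul_smul]
theorem act_sublist (g : G) {m l : List Ω} (h : m.Sublist l) : (act g m).Sublist (act g l) :=
  h.map _

/-- `d` commutes with the action -/
theorem d_act (g : G) (c : List Ω → D) (l : List Ω) :
    d c (act g l) - g • d c l = d (fun m => c (act g m) - g • c m) l := by
  rw [d_sub, act, d_lmap]
  congr 1
  exact (d_map (DistribSMul.toAddMonoidHom D g) c l).symm

/-- fixed points -/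
def fx (D : Type*) [AddCommGroup D] [DistribMulAction G D] (P : Subgroup G) : AddSubgroup D where
  carrier := {v | ∀ g ∈ P, g • v = v}
  add_mem' := fun ha hb g hg => by rw [smul_add, ha g hg, hb g hg]
  zero_mem' := fun g _ => smul_zero g
  neg_mem' := fun ha g hg => by rw [smul_neg, ha g hg]

theorem mem_fx {P : Subgroup G} {v : D} : v ∈ fx D P ↔ ∀ g ∈ P, g • v = v := Iff.rfl
theorem fx_anti {P Q : Subgroup G} (h : P ≤ Q) : fx D Q ≤ fx D P := fun _ hv g hg => hv g (h hg)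
theorem smul_mem_fx {P : Subgroup G} {v : D} (g : G) (hv : v ∈ fx D P) : g • v ∈ fx D (g ⋆ P) := by
  intro x hx
  have := hv _ (mem_conj.1 hx)
  rw [mul_smul, mul_smul, inv_smul_eq_iff] at this
  exact this
theorem fx_sup (P Q : Subgroup G) : fx D (P ⊔ Q) = fx D P ⊓ fx D Q := by
  refine le_antisymm (le_inf (fx_anti le_sup_left) (fx_anti le_sup_right)) fun v hv => ?_
  have : P ⊔ Q ≤ MulAction.stabilizer G v := sup_le (fun g hg => hv.1 g hg) (fun g hg => hv.2 g hg)
  exact fun g hg => this hg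

/-- `D` has exponent a power of `p` -/
def PT (p : ℕ) (D : Type*) [AddCommGroup D] : Prop := ∃ e : ℕ, ∀ v : D, p ^ e • v = 0

/-- `T` is a Sylow `p`-subgroup of `H` -/
def Syl (p : ℕ) (T H : Subgroup G) : Prop := T ≤ H ∧ IsPGroup p T ∧ ¬ p ∣ T.relIndex H

/-- A frame: `H` acts on the finite set `A` of size prime to `p` with `p`-groups as point
stabilizers; the normal subgroup `Y` of `H` fixes `A` pointwise. -/
structure Fr (p : ℕ) (G Ω : Type*) [Group G] [MulAction G Ω] where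
  H : Subgroup G
  A : Finset Ω
  Y : Subgroup G
  inv : ∀ g ∈ H, ∀ x ∈ A, g • x ∈ A
  card : ¬ p ∣ A.card
  pg : ∀ x ∈ A, IsPGroup p ↥(H ⊓ MulAction.stabilizer G x)
  Yle : Y ≤ H
  Yn : H ≤ normalizer (Y : Set G)
  Yfix : ∀ x ∈ A, ∀ y ∈ Y, y • x = x

namespace Fr
variable (f : Fr p G Ω)

/-- all entries of the list lie in `A` -/
def In (l : List Ω) : Prop := ∀ x ∈ l, x ∈ f.A

/-- the stabilizer of the list in `H` -/
def st (l : List Ω) : Subgroup G where
  carrier := {g | g ∈ f.H ∧ ∀ x ∈ l, g • x = x}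
  mul_mem' := fun ha hb => ⟨mul_mem ha.1 hb.1, fun x hx => by rw [mul_smul, hb.2 x hx, ha.2 x hx]⟩
  one_mem' := ⟨one_mem _, fun x _ => one_smul _ x⟩
  inv_mem' := fun ha => ⟨inv_mem ha.1, fun x hx => by rw [inv_smul_eq_iff, ha.2 x hx]⟩

/-- the objects: `p`-subgroups between `Y` and `H` -/
def Ob (P : Subgroup G) : Prop := f.Y ≤ P ∧ P ≤ f.H ∧ IsPGroup p P

variable {f}
theorem mem_st {l : List Ω} {g : G} : g ∈ f.st l ↔ g ∈ f.H ∧ ∀ x ∈ l, g • x = x := Iff.rfl
theorem st_le (l : List Ω) : f.st l ≤ f.H := fun _ h => h.1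
theorem st_anti {m l : List Ω} (h : ∀ x ∈ m, x ∈ l) : f.st l ≤ f.st m :=
  fun _ hg => ⟨hg.1, fun x hx => hg.2 x (h x hx)⟩
theorem st_sub {m l : List Ω} (h : m.Sublist l) : f.st l ≤ f.st m := st_anti fun _ hx => h.subset hx
theorem In.sub {m l : List Ω} (hl : f.In l) (h : m.Sublist l) : f.In m := fun x hx => hl x (h.subset hx)
theorem In.act {l : List Ω} (hl : f.In l) {g : G} (hg : g ∈ f.H) : f.In (act g l) := by
  intro x hx
  obtain ⟨y, hy, rfl⟩ := List.mem_map.1 hx
  exact f.inv g hg y (hl y hy)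
theorem act_eq_of_mem_st {l : List Ω} {g : G} (hg : g ∈ f.st l) : LK.act g l = l := by
  conv_rhs => rw [← List.map_id l]
  exact List.map_congr_left fun x hx => hg.2 x hx
theorem mem_st_of_act_eq {l : List Ω} {g : G} (hg : g ∈ f.H) (h : LK.act g l = l) : g ∈ f.st l := by
  refine ⟨hg, ?_⟩
  induction l with
  | nil => simp
  | cons x l ih =>
    simp only [act_cons, List.cons.injEq] at h
    intro y hy
    rcases List.mem_cons.1 hy with rfl | hy
    · exact h.1
    · exact ih h.2 y hy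
theorem st_act (l : List Ω) {g : G} (hg : g ∈ f.H) : f.st (LK.act g l) = g ⋆ f.st l := by
  ext h
  rw [mem_conj, mem_st, mem_st]
  refine and_congr ⟨fun a => mul_mem (mul_mem (inv_mem hg) a) hg, fun a => ?_⟩ ⟨fun a x hx => ?_, fun a x hx => ?_⟩
  · simpa [mul_assoc] using mul_mem (mul_mem hg a) (inv_mem hg)
  · rw [mul_smul, mul_smul, a _ (List.mem_map.2 ⟨x, hx, rfl⟩), inv_smul_smul]
  · obtain ⟨y, hy, rfl⟩ := List.mem_map.1 hx
    have := a y hy
    rwa [mul_smul, mul_smul, inv_smul_eq_iff] at this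
theorem ob_st {l : List Ω} (hl : f.In l) (h0 : l ≠ []) : f.Ob (f.st l) := by
  obtain ⟨x, hx⟩ := List.exists_mem_of_ne_nil l h0
  refine ⟨fun y hy => ⟨f.Yle hy, fun z hz => f.Yfix z (hl z hz) y hy⟩, st_le l, ?_⟩
  exact (f.pg x (hl x hx)).to_le fun g hg => ⟨hg.1, hg.2 x hx⟩
theorem ob_st' {l : List Ω} (hl : f.In l) {n : ℕ} (h : l.length = n) (hn : 1 ≤ n) : f.Ob (f.st l) :=
  ob_st hl (by rintro rfl; simp at h; omega)
theorem Ob.conj {P : Subgroup G} (h : f.Ob P) {g : G} (hg : g ∈ f.H) : f.Ob (g ⋆ P) := by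
  refine ⟨?_, ?_, isPGroup_conj h.2.2 g⟩
  · rw [← conj_eq_self_iff.2 (f.Yn hg)]; exact conj_mono g h.1
  · rw [← conj_eq_self_of_mem hg]; exact conj_mono g h.2.1
theorem Ob.of_le {P Q : Subgroup G} (h : f.Ob Q) (hY : f.Y ≤ P) (hle : P ≤ Q) : f.Ob P :=
  ⟨hY, hle.trans h.2.1, h.2.2.to_le hle⟩

open Classical in
/-- the points of `A` fixed by `X` -/
noncomputable def fixA (f : Fr p G Ω) (X : Subgroup G) : Finset Ω := f.A.filter fun x => ∀ g ∈ X, g • x = x

theorem mem_fixA {X : Subgroup G} {x : Ω} : x ∈ f.fixA X ↔ x ∈ f.A ∧ ∀ g ∈ X, g • x = x := by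
  classical
  simp [fixA]

theorem card_fixA [Fact p.Prime] {X : Subgroup G} (hX : IsPGroup p X) (hH : X ≤ f.H) :
    ¬ p ∣ (f.fixA X).card := by
  classical
  letI : MulAction X f.A :=
    { smul := fun g x => ⟨(g : G) • (x : Ω), f.inv g (hH g.2) x x.2⟩
      one_smul := fun x => Subtype.ext (one_smul G (x : Ω))
      mul_smul := fun g h x => Subtype.ext (mul_smul (g : G) (h : G) (x : Ω)) }
  have h1 := hX.card_modEq_card_fixedPoints f.A
  have h2 : Nat.card (MulAction.fixedPoints X f.A) = (f.fixA X).card := by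
    rw [← Nat.card_eq_finsetCard]
    refine Nat.card_congr ⟨fun x => ⟨x.1.1, mem_fixA.2 ⟨x.1.2, fun g hg => ?_⟩⟩,
      fun x => ⟨⟨x.1, (mem_fixA.1 x.2).1⟩, fun g => Subtype.ext ((mem_fixA.1 x.2).2 g g.2)⟩,
      fun _ => rfl, fun _ => rfl⟩
    exact congrArg Subtype.val (x.2 ⟨g, hg⟩)
  rw [h2, Nat.card_eq_finsetCard] at h1
  exact fun h => f.card ((Nat.ModEq.dvd_iff h1 dvd_rfl).2 h)

/-- every `p`-subgroup of `H` fixes a point of `A` -/
theorem exists_fix [Fact p.Prime] {X : Subgroup G} (hX : IsPGroup p X) (hH : X ≤ f.H) :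
    ∃ x ∈ f.A, ∀ g ∈ X, g • x = x := by
  have := card_fixA hX hH
  obtain ⟨x, hx⟩ := Finset.card_pos.1 (Nat.pos_of_ne_zero fun h => this (h ▸ dvd_zero p))
  exact ⟨x, mem_fixA.1 hx⟩

theorem ob_Y [Fact p.Prime] : f.Ob f.Y := by
  obtain ⟨x, hx, -⟩ := f.exists_fix (X := ⊥) IsPGroup.of_bot bot_le
  exact ⟨le_rfl, f.Yle, (f.pg x hx).to_le fun g hg => ⟨f.Yle hg, f.Yfix x hx g hg⟩⟩

/-- the local frame at the object `X` -/
noncomputable def loc [Fact p.Prime] (f : Fr p G Ω) (X : Subgroup G) (hX : f.Ob X) : Fr p G Ω where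
  H := f.H ⊓ normalizer (X : Set G)
  A := f.fixA X
  Y := X
  inv := fun g hg x hx => mem_fixA.2 ⟨f.inv g hg.1 x (mem_fixA.1 hx).1, fun h hh => by
    have h1 : g⁻¹ * h * g ∈ X := mem_conj.1 ((conj_eq_self_iff.2 hg.2).symm ▸ hh)
    have := (mem_fixA.1 hx).2 _ h1
    rwa [mul_smul, mul_smul, inv_smul_eq_iff] at this⟩
  card := card_fixA hX.2.2 hX.2.1
  pg := fun x hx => (f.pg x (mem_fixA.1 hx).1).to_le (inf_le_inf_right _ inf_le_left)
  Yle := le_inf hX.2.1 le_normalizer
  Yn := inf_le_right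
  Yfix := fun _ hx y hy => (mem_fixA.1 hx).2 y hy

section
variable [Fact p.Prime] {X : Subgroup G} {hX : f.Ob X}
@[simp] theorem loc_H : (f.loc X hX).H = f.H ⊓ normalizer (X : Set G) := rfl
@[simp] theorem loc_A : (f.loc X hX).A = f.fixA X := rfl
@[simp] theorem loc_Y : (f.loc X hX).Y = X := rfl
theorem ob_loc {P : Subgroup G} :
    (f.loc X hX).Ob P ↔ X ≤ P ∧ P ≤ f.H ⊓ normalizer (X : Set G) ∧ IsPGroup p P := Iff.rfl
theorem Ob.of_loc {P : Subgroup G} (h : (f.loc X hX).Ob P) : f.Ob P :=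
  ⟨hX.1.trans h.1, h.2.1.trans inf_le_left, h.2.2⟩
theorem st_loc (l : List Ω) : (f.loc X hX).st l = f.st l ⊓ normalizer (X : Set G) := by
  ext g; simp only [mem_st, loc_H, mem_inf]; tauto
theorem in_loc {l : List Ω} : (f.loc X hX).In l ↔ f.In l ∧ X ≤ f.st l :=
  ⟨fun h => ⟨fun x hx => (mem_fixA.1 (h x hx)).1,
    fun g hg => ⟨hX.2.1 hg, fun x hx => (mem_fixA.1 (h x hx)).2 g hg⟩⟩,
   fun h x hx => mem_fixA.2 ⟨h.1 x hx, fun g hg => (h.2 hg).2 x hx⟩⟩
end

/-- the same frame with another `Y` -/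
def withY (f : Fr p G Ω) (Y : Subgroup G) (h1 : Y ≤ f.H) (h2 : f.H ≤ normalizer (Y : Set G))
    (h3 : ∀ x ∈ f.A, ∀ y ∈ Y, y • x = x) : Fr p G Ω :=
  { f with Y := Y, Yle := h1, Yn := h2, Yfix := h3 }

/-- the same frame with `Y = ⊥` -/
def bot (f : Fr p G Ω) : Fr p G Ω :=
  f.withY ⊥ bot_le (fun _ _ => conj_eq_self_iff.1 (conj_eq_bot_iff.2 rfl)) (by simp)

/-- the frame read in the group `f.H` -/
def sub (f : Fr p G Ω) : Fr p f.H Ω where
  H := ⊤
  A := f.A
  Y := f.Y.subgroupOf f.H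
  inv := fun g _ x hx => f.inv g g.2 x hx
  card := f.card
  pg := fun x hx => ((f.pg x hx).comap_subtype (K := f.H)).to_le fun g hg => ⟨g.2, hg.2⟩
  Yle := le_top
  Yn := fun g _ => mem_normalizer_iff.2 fun h => by
    simpa [mem_subgroupOf] using mem_normalizer_iff.1 (f.Yn g.2) (h : G)
  Yfix := fun x hx y hy => f.Yfix x hx y hy

end Fr

/-- an order reversing, `H`-equivariant family of subgroups of `D` on the objects of `f` -/
structure Fam (f : Fr p G Ω) (M : Subgroup G → AddSubgroup D) : Prop where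
  anti : ∀ P Q, f.Ob P → f.Ob Q → P ≤ Q → M Q ≤ M P
  eqv : ∀ P, f.Ob P → ∀ g ∈ f.H, ∀ v ∈ M P, g • v ∈ M (g ⋆ P)

/-- `O ≤ N` on objects -/
def Le (f : Fr p G Ω) (O N : Subgroup G → AddSubgroup D) : Prop := ∀ P, f.Ob P → O P ≤ N P

/-- a coefficient system `P ↦ N P / O P` -/
structure Sys (f : Fr p G Ω) (N O : Subgroup G → AddSubgroup D) : Prop where
  fN : Fam f N
  fO : Fam f O
  le : Le f O N
  triv : ∀ P, f.Ob P → ∀ g ∈ P, ∀ v ∈ N P, g • v - v ∈ O P

/-- equivariant cochains on lists of length `n` -/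
def Eqv (f : Fr p G Ω) (N O : Subgroup G → AddSubgroup D) (n : ℕ) (c : List Ω → D) : Prop :=
  ∀ l, f.In l → l.length = n →
    c l ∈ N (f.st l) ∧ ∀ g ∈ f.H, c (act g l) - g • c l ∈ O (f.st (act g l))

/-- the `k`-th cohomology of `N / O` vanishes (only used for `k ≥ 1`) -/
def Van (f : Fr p G Ω) (N O : Subgroup G → AddSubgroup D) (k : ℕ) : Prop :=
  ∀ c, Eqv f N O (k + 1) c → (∀ l, f.In l → l.length = k + 2 → d c l ∈ O (f.st l)) →
    ∃ b, Eqv f N O k b ∧ ∀ l, f.In l → l.length = k + 1 → c l - d b l ∈ O (f.st l)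

/-- the zero family -/
def Z0 (G D : Type*) [Group G] [AddCommGroup D] : Subgroup G → AddSubgroup D := fun _ => ⊥

/-- the family `⊤` -/
def Tp (G D : Type*) [Group G] [AddCommGroup D] : Subgroup G → AddSubgroup D := fun _ => ⊤

open Classical in
/-- `O` on `Q`, `N` off `Q` -/
noncomputable def ite' (Q : Subgroup G → Prop) (O N : Subgroup G → AddSubgroup D) :
    Subgroup G → AddSubgroup D := fun P => if Q P then O P else N P

theorem ite'_pos {Q : Subgroup G → Prop} {O N : Subgroup G → AddSubgroup D} {P : Subgroup G}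
    (h : Q P) : ite' Q O N P = O P := if_pos h
theorem ite'_neg {Q : Subgroup G → Prop} {O N : Subgroup G → AddSubgroup D} {P : Subgroup G}
    (h : ¬ Q P) : ite' Q O N P = N P := if_neg h

/-- fixed points off `Q`, zero on `Q`.  `(fx D, Rf D Q)` is the fixed point system on `Q`,
`(Rf D Q, Z0 G D)` the one on the complement of `Q`. -/
noncomputable def Rf (D : Type*) [AddCommGroup D] [DistribMulAction G D] (Q : Subgroup G → Prop) :
    Subgroup G → AddSubgroup D := ite' Q (Z0 G D) (fx D)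

/-- `Q` is closed under overgroups and `H`-conjugation, on objects -/
structure Up (f : Fr p G Ω) (Q : Subgroup G → Prop) : Prop where
  up : ∀ P P', f.Ob P → f.Ob P' → P ≤ P' → Q P → Q P'
  cj : ∀ P, f.Ob P → ∀ g ∈ f.H, Q P → Q (g ⋆ P)

/-- a monotone idempotent equivariant deflation on objects -/
structure Cl (f : Fr p G Ω) (j : Subgroup G → Subgroup G) : Prop where
  le : ∀ P, f.Ob P → j P ≤ P
  ge : ∀ P, f.Ob P → f.Y ≤ j P
  mono : ∀ P Q, f.Ob P → f.Ob Q → P ≤ Q → j P ≤ j Q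
  idem : ∀ P, f.Ob P → j (j P) = j P
  cj : ∀ P, f.Ob P → ∀ g ∈ f.H, j (g ⋆ P) = g ⋆ j P

/-- the subgroup of `P` generated by the members of `𝒜` inside `P` -/
def J (𝒜 : Set (Subgroup G)) (P : Subgroup G) : Subgroup G := sSup {B | B ∈ 𝒜 ∧ B ≤ P}

theorem J_le (𝒜 : Set (Subgroup G)) (P : Subgroup G) : J 𝒜 P ≤ P := sSup_le fun _ h => h.2
theorem le_J {𝒜 : Set (Subgroup G)} {B P : Subgroup G} (h : B ∈ 𝒜) (hle : B ≤ P) : B ≤ J 𝒜 P :=
  le_sSup ⟨h, hle⟩
theorem J_le_iff {𝒜 : Set (Subgroup G)} {P X : Subgroup G} :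
    J 𝒜 P ≤ X ↔ ∀ B ∈ 𝒜, B ≤ P → B ≤ X :=
  ⟨fun h _ hB hle => (le_J hB hle).trans h, fun h => sSup_le fun B hB => h B hB.1 hB.2⟩
theorem J_mono (𝒜 : Set (Subgroup G)) {P Q : Subgroup G} (h : P ≤ Q) : J 𝒜 P ≤ J 𝒜 Q :=
  J_le_iff.2 fun _ hB hle => le_J hB (hle.trans h)

/-- `𝒜` is invariant under conjugation by `H` -/
def Inv (H : Subgroup G) (𝒜 : Set (Subgroup G)) : Prop := ∀ g ∈ H, ∀ B ∈ 𝒜, g ⋆ B ∈ 𝒜

theorem J_conj {H : Subgroup G} {𝒜 : Set (Subgroup G)} (h : Inv H 𝒜) {g : G} (hg : g ∈ H)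
    (P : Subgroup G) : J 𝒜 (g ⋆ P) = g ⋆ J 𝒜 P := by
  refine le_antisymm (J_le_iff.2 fun B hB hle => ?_) ?_
  · rw [le_conj_iff_inv_conj_le] at hle ⊢
    exact le_J (h _ (inv_mem hg) B hB) hle
  · rw [conj_le_iff_le_inv_conj]
    refine J_le_iff.2 fun B hB hle => ?_
    rw [← conj_le_iff_le_inv_conj]
    exact le_J (h _ hg B hB) (conj_mono g hle)

/-- control of fixed points in `W` by the normalizer of `J 𝒜 T`, in all subgroups of `H₀` -/
def CF (p : ℕ) (H₀ : Subgroup G) (W : AddSubgroup D) (𝒜 : Set (Subgroup G)) : Prop :=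
  ∀ H, H ≤ H₀ → ∀ T, Syl p T H → ∀ v ∈ W,
    v ∈ fx D (H ⊓ normalizer ((J 𝒜 T : Subgroup G) : Set G)) → v ∈ fx D H

/-- the norm from a subgroup of index `p` of `A` to `A` kills the fixed points of order `p` in `W` -/
def NP (p : ℕ) (W : AddSubgroup D) (A : Subgroup G) : Prop :=
  ∀ A₀, A₀ ≤ A → A₀.relIndex A = p → ∀ v ∈ W, p • v = 0 → v ∈ fx D A₀ → ∀ a ∈ A, a ∉ A₀ →
    ∑ i ∈ Finset.range p, a ^ i • v = 0

/-- `B ≥ Y` acts on the fixed points of `Y` as an abelian best offender -/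
structure Bo (D : Type*) [AddCommGroup D] [DistribMulAction G D] (Y B : Subgroup G) : Prop where
  le : Y ≤ B
  comm : ∀ a ∈ B, ∀ b ∈ B, ∀ v ∈ fx D Y, a • b • v = b • a • v
  best : ∀ B₀, Y ≤ B₀ → B₀ ≤ B → Nat.card B₀ * Nat.card (fx D B₀) ≤ Nat.card B * Nat.card (fx D B)

/-- the best offenders over `Y` -/
def BoS (D : Type*) [AddCommGroup D] [DistribMulAction G D] (Y : Subgroup G) : Set (Subgroup G) :=
  {B | Bo D Y B}

/-- minimal best offenders properly containing `Y` -/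
def MBo (D : Type*) [AddCommGroup D] [DistribMulAction G D] (Y B : Subgroup G) : Prop :=
  Bo D Y B ∧ B ≠ Y ∧ ∀ B', Bo D Y B' → B' ≤ B → B' = Y ∨ B' = B

/-- `P` contains a best offender properly containing `Y` -/
def Q0 (D : Type*) [AddCommGroup D] [DistribMulAction G D] (Y P : Subgroup G) : Prop :=
  ¬ J (BoS D Y) P ≤ Y

/-- `U` acts on `N / O` as a `p`-group -/
def PAct (p : ℕ) (U : Subgroup G) (N O : AddSubgroup D) : Prop :=
  ∀ u ∈ U, ∃ k : ℕ, ∀ v ∈ N, u ^ p ^ k • v - v ∈ O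

/-- the statement of the local theorem in degree `k` for the frame `f` -/
def LAs (D : Type*) [AddCommGroup D] [DistribMulAction G D] (f : Fr p G Ω) (k : ℕ) : Prop :=
  ∀ Q, Up f Q → (∀ P, f.Ob P → Q P → Q (J (BoS D f.Y) P)) → Van f (Rf D Q) (Z0 G D) k

/-- the frame of the whole group on the cosets of a Sylow subgroup -/
noncomputable def topFr [Finite G] [Fact p.Prime] (S : Subgroup G) (hS : Syl p S ⊤) :
    Fr p G (G ⧸ S) where
  H := ⊤
  A := (Set.toFinite (Set.univ : Set (G ⧸ S))).toFinset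
  Y := ⊥
  inv := by simp
  card := by
    have := hS.2.2
    rwa [relIndex_top_right, index_eq_card, ← Set.ncard_univ, Set.ncard_eq_toFinset_card] at this
  pg := fun x _ => by
    obtain ⟨g, rfl⟩ := QuotientGroup.mk_surjective x
    refine (isPGroup_conj hS.2.1 g).to_le fun h hh => mem_conj.2 ?_
    have h1 : ((h * g : G) : G ⧸ S) = g := hh.2
    have h2 := QuotientGroup.eq.1 h1.symm
    rwa [← mul_assoc] at h2
  Yle := bot_le
  Yn := fun g _ => conj_eq_self_iff.1 (conj_eq_bot_iff.2 rfl)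
  Yfix := by simp

end Cfsg.Lib.LK
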