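import Cfsg.Agent.Lib.LK.Def

set_option autoImplicit false

namespace Cfsg.Lib.LK

open Subgroup Cfsg.Lib.Transfer
open scoped commutatorElement

variable {p : ℕ} {G Ω : Type*} [Group G] [MulAction G Ω] {f : Fr p G Ω} {k : ℕ}

/-- the free abelian group on `G` with the conjugation action: the ambient module for centres -/
def Amb (G : Type*) : Type _ := FreeAbelianGroup G

noncomputable instance instAmbAdd : AddCommGroup (Amb G) :=
  inferInstanceAs (AddCommGroup (FreeAbelianGroup G))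

/-- generators -/
noncomputable def am (x : G) : Amb G := FreeAbelianGroup.of x

/-- the additive map on `Amb G` given by its values on generators -/
noncomputable def alift {B : Type*} [AddCommGroup B] (ψ : G → B) : Amb G →+ B :=
  FreeAbelianGroup.lift ψ

omit [Group G] in
@[simp] theorem alift_am {B : Type*} [AddCommGroup B] (ψ : G → B) (x : G) :
    alift ψ (am x) = ψ x := FreeAbelianGroup.lift_apply_of ψ x

omit [Group G] in
theorem amb_ext {B : Type*} [AddCommGroup B] {α β : Amb G →+ B} (h : ∀ x, α (am x) = β (am x)) :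
    α = β := FreeAbelianGroup.lift_ext α β h

noncomputable instance instAmbAct : DistribMulAction G (Amb G) where
  smul g := alift fun x => am (g * x * g⁻¹)
  one_smul v := by
    have : (alift fun x : G => am ((1 : G) * x * (1 : G)⁻¹)) = AddMonoidHom.id _ :=
      amb_ext fun x => by simp
    exact DFunLike.congr_fun this v
  mul_smul g h v := by
    have : (alift fun x : G => am (g * h * x * (g * h)⁻¹)) =
        (alift fun x : G => am (g * x * g⁻¹)).comp (alift fun x : G => am (h * x * h⁻¹)) :=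
      amb_ext fun x => by simp [mul_assoc]
    exact DFunLike.congr_fun this v
  smul_zero g := map_zero (alift fun x => am (g * x * g⁻¹))
  smul_add g := map_add (alift fun x => am (g * x * g⁻¹))

@[simp] theorem smul_am (g x : G) : g • am x = am (g * x * g⁻¹) :=
  alift_am (fun x => am (g * x * g⁻¹)) x

/-- the span of `Z` -/
noncomputable def sN (Z : Subgroup G) : AddSubgroup (Amb G) := AddSubgroup.closure (am '' Z)
/-- the relations of `Z`: `sN Z / sO Z` is the abelianization of `Z` -/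
noncomputable def sO (Z : Subgroup G) : AddSubgroup (Amb G) :=
  AddSubgroup.closure {v | ∃ x ∈ Z, ∃ y ∈ Z, v = am (x * y) - am x - am y}
/-- the centre of `P` -/
def Zc (P : Subgroup G) : Subgroup G := P ⊓ centralizer (P : Set G)
/-- every `p`-element centralizing `P` modulo `A` lies in `P` -/
def Cen (p : ℕ) (A P : Subgroup G) : Prop :=
  ∀ c : G, (∃ n : ℕ, c ^ p ^ n = 1) → (∀ x ∈ P, ⁅c, x⁆ ∈ A) → c ∈ P
/-- `M` on `𝒰`, `⊤` off `𝒰` -/
noncomputable def on {D : Type*} [AddCommGroup D] (𝒰 : Subgroup G → Prop)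
    (M : Subgroup G → AddSubgroup D) : Subgroup G → AddSubgroup D := by
  classical exact fun P => if 𝒰 P then M P else ⊤
theorem on_pos {D : Type*} [AddCommGroup D] {𝒰 : Subgroup G → Prop}
    {M : Subgroup G → AddSubgroup D} {P : Subgroup G} (h : 𝒰 P) : on 𝒰 M P = M P := if_pos h
theorem on_neg {D : Type*} [AddCommGroup D] {𝒰 : Subgroup G → Prop}
    {M : Subgroup G → AddSubgroup D} {P : Subgroup G} (h : ¬ 𝒰 P) : on 𝒰 M P = ⊤ := if_neg h
/-- numerator, denominator of the centre functor -/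
noncomputable def zN (P : Subgroup G) : AddSubgroup (Amb G) := sN (Zc P)
noncomputable def zO (P : Subgroup G) : AddSubgroup (Amb G) := sO (Zc P)
/-- `zN P / zA A P = Z(P) / A` -/
noncomputable def zA (A P : Subgroup G) : AddSubgroup (Amb G) := sO (Zc P) ⊔ sN A
/-- abelian subgroups of order `m` -/
def AbS (G : Type*) [Group G] (m : ℕ) : Set (Subgroup G) :=
  {B | (∀ x ∈ B, ∀ y ∈ B, x * y = y * x) ∧ Nat.card B = m}
/-- the largest order of an abelian subgroup -/
noncomputable def dA (P : Subgroup G) : ℕ := sSup {m | ∃ B ∈ AbS G m, B ≤ P}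

/-- functions on `G` with the conjugation action -/
def Fn (G B : Type*) : Type _ := G → B

instance instFnAdd {B : Type*} [AddCommGroup B] : AddCommGroup (Fn G B) :=
  inferInstanceAs (AddCommGroup (G → B))

instance instFnAct {B : Type*} [AddCommGroup B] : DistribMulAction G (Fn G B) where
  smul g χ := fun x => χ (g⁻¹ * x * g)
  one_smul χ := funext fun x => congrArg χ (by simp)
  mul_smul g h χ := funext fun x => congrArg χ (by simp [mul_assoc])
  smul_zero _ := rfl
  smul_add _ _ _ := rfl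

section
variable {B : Type*} [AddCommGroup B]
theorem Fn.smul_apply (g : G) (χ : Fn G B) (x : G) : (g • χ) x = χ (g⁻¹ * x * g) := rfl
omit [Group G] in
theorem Fn.add_apply (χ ψ : Fn G B) (x : G) : (χ + ψ) x = χ x + ψ x := rfl
omit [Group G] in
theorem Fn.sub_apply (χ ψ : Fn G B) (x : G) : (χ - ψ) x = χ x - ψ x := rfl
omit [Group G] in
theorem Fn.neg_apply (χ : Fn G B) (x : G) : (-χ) x = -χ x := rfl
omit [Group G] in
theorem Fn.zero_apply (x : G) : (0 : Fn G B) x = 0 := rfl

/-- `B` embedded as a central `p`-subgroup -/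
structure Ce (p : ℕ) (ι : B → G) : Prop where
  add : ∀ a b, ι (a + b) = ι a * ι b
  inj : Function.Injective ι
  cen : ∀ b g, g * ι b = ι b * g
  pt : PT p B

theorem Ce.zero {ι : B → G} (h : Ce p ι) : ι 0 = 1 := by
  have := h.add 0 0
  rw [add_zero] at this
  exact (mul_eq_left.1 this.symm)
theorem Ce.neg {ι : B → G} (h : Ce p ι) (b : B) : ι (-b) = (ι b)⁻¹ :=
  eq_inv_of_mul_eq_one_left (by rw [← h.add, neg_add_cancel, h.zero])

/-- the image of `B` -/
def Ce.A {ι : B → G} (h : Ce p ι) : Subgroup G where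
  carrier := Set.range ι
  mul_mem' := by rintro _ _ ⟨a, rfl⟩ ⟨b, rfl⟩; exact ⟨a + b, h.add a b⟩
  one_mem' := ⟨0, h.zero⟩
  inv_mem' := by rintro _ ⟨a, rfl⟩; exact ⟨-a, h.neg a⟩

theorem Ce.mem_A {ι : B → G} (h : Ce p ι) {x : G} : x ∈ h.A ↔ ∃ b, ι b = x := Iff.rfl

/-- functions vanishing on `P` -/
def o1 (B : Type*) [AddCommGroup B] (P : Subgroup G) : AddSubgroup (Fn G B) where
  carrier := {χ | ∀ x ∈ P, χ x = 0}
  add_mem' := fun ha hb x hx => by rw [Fn.add_apply, ha x hx, hb x hx, add_zero]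
  zero_mem' := fun _ _ => rfl
  neg_mem' := fun ha x hx => by rw [Fn.neg_apply, ha x hx, neg_zero]

/-- functions additive on `P` and zero on the image of `B` -/
def nH (ι : B → G) (P : Subgroup G) : AddSubgroup (Fn G B) where
  carrier := {χ | (∀ x ∈ P, ∀ y ∈ P, χ (x * y) = χ x + χ y) ∧ ∀ b, χ (ι b) = 0}
  add_mem' := fun ha hb => ⟨fun x hx y hy => by
    simp only [Fn.add_apply, ha.1 x hx y hy, hb.1 x hx y hy]; abel,
    fun b => by rw [Fn.add_apply, ha.2, hb.2, add_zero]⟩
  zero_mem' := ⟨fun _ _ _ _ => (add_zero (0 : B)).symm, fun _ => rfl⟩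
  neg_mem' := fun ha => ⟨fun x hx y hy => by
    simp only [Fn.neg_apply, ha.1 x hx y hy]; abel, fun b => by rw [Fn.neg_apply, ha.2, neg_zero]⟩

/-- functions that are `⁅c, ·⁆` on `P` -/
def Ce.nC {ι : B → G} (h : Ce p ι) (P : Subgroup G) : AddSubgroup (Fn G B) where
  carrier := {χ | ∃ c : G, ∀ x ∈ P, ι (χ x) = ⁅c, x⁆}
  add_mem' := by
    rintro χ ψ ⟨c, hc⟩ ⟨c', hc'⟩
    refine ⟨c * c', fun x hx => ?_⟩
    have e : ⁅c * c', x⁆ = c * ⁅c', x⁆ * c⁻¹ * ⁅c, x⁆ := by simp only [commutatorElement_def]; group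
    rw [e, ← hc' x hx, h.cen, mul_inv_cancel_right, ← hc x hx, Fn.add_apply, add_comm, h.add]
  zero_mem' := ⟨1, fun x _ => by simp [Fn.zero_apply, h.zero]⟩
  neg_mem' := by
    rintro χ ⟨c, hc⟩
    refine ⟨c⁻¹, fun x hx => ?_⟩
    have e : ⁅c⁻¹, x⁆ = c⁻¹ * ⁅c, x⁆⁻¹ * c := by simp only [commutatorElement_def]; group
    rw [e, ← hc x hx, ← h.neg, h.cen, inv_mul_cancel_right, Fn.neg_apply]

theorem mem_o1 {P : Subgroup G} {χ : Fn G B} : χ ∈ o1 B P ↔ ∀ x ∈ P, χ x = 0 := Iff.rfl
theorem mem_nH {ι : B → G} {P : Subgroup G} {χ : Fn G B} : χ ∈ nH ι P ↔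
    (∀ x ∈ P, ∀ y ∈ P, χ (x * y) = χ x + χ y) ∧ ∀ b, χ (ι b) = 0 := Iff.rfl
theorem Ce.mem_nC {ι : B → G} (h : Ce p ι) {P : Subgroup G} {χ : Fn G B} :
    χ ∈ h.nC P ↔ ∃ c : G, ∀ x ∈ P, ι (χ x) = ⁅c, x⁆ := Iff.rfl
end

end Cfsg.Lib.LK
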