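import Cfsg.Agent.Lib.LK.Def
import Cfsg.Agent.Lib.Fusion.Quot
import Cfsg.Agent.Lib.Fusion.Group

set_option autoImplicit false

namespace Cfsg.Lib.LK

open Subgroup Cfsg.Lib.Transfer Cfsg.Lib.Fusion
open scoped commutatorElement

variable {p : ℕ}

variable {Ω Ω' : Type*} [Group Ω] [Group Ω'] {S : Subgroup Ω} {S' : Subgroup Ω'}
  {F : FusionSystem S} {E : FusionSystem S'}

theorem ez_iff {G : Type*} [Group G] {ι : S →* G} : F.IsRealizedBy ι ↔
    Function.Injective ι ∧ ∀ P f, P ≤ S → HomOn P f → (∀ x ∈ P, f x ∈ S) →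
      (Mor F P f ↔ ∃ g : G, ∀ x ∈ P, fn ι (f x) = g * fn ι x * g⁻¹) := by
  refine and_congr_right fun _ => ⟨fun h P f hP hf hm => ?_, fun h P hP φ hφ => ?_⟩
  · rw [← show Mor F P (fn hf.toHom) ↔ Mor F P f from ⟨fun h => h.congr fun x hx => by
      rw [fn_apply _ hx]; rfl, fun h => h.congr fun x hx => by rw [fn_apply _ hx]; rfl⟩,
      mor_fn_iff, h P hP hf.toHom fun x => hm x x.2]
    refine exists_congr fun g => ⟨fun e x hx => ?_, fun e x => ?_⟩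
    · rw [fn_apply _ (hm x hx), fn_apply _ (hP hx)]; exact e ⟨x, hx⟩
    · have := e x x.2
      rwa [fn_apply _ (hm x x.2), fn_apply _ (hP x.2)] at this
  · rw [← mor_fn_iff, h P (fn φ) hP (homOn_fn φ) fun x hx => by rw [fn_apply _ hx]; exact hφ _]
    refine exists_congr fun g => ⟨fun e x => ?_, fun e x hx => ?_⟩
    · have := e x x.2
      rwa [fn_coe, fn_apply _ (hφ x), fn_apply _ (hP x.2)] at this
    · rw [fn_apply φ hx, fn_apply _ (hφ _), fn_apply _ (hP hx)]; exact e ⟨x, hx⟩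

theorem ez_conj {G : Type*} [Group G] {ι : S →* G} (h : F.IsRealizedBy ι) {P : Subgroup Ω} {f : Ω → Ω}
    (hf : Mor F P f) : ∃ g : G, ∀ x ∈ P, fn ι (f x) = g * fn ι x * g⁻¹ :=
  ((ez_iff.1 h).2 P f hf.le hf.homOn fun _ => hf.mem).1 hf

theorem ez_mor {G : Type*} [Group G] {ι : S →* G} (h : F.IsRealizedBy ι) {P : Subgroup Ω} (hP : P ≤ S) {g : G}
    (hg : ∀ x ∈ P, g * fn ι x * g⁻¹ ∈ ι.range) : ∃ f, Mor F P f ∧ ∀ x ∈ P, fn ι (f x) = g * fn ι x * g⁻¹ := by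
  have : ∀ x ∈ P, ∃ y ∈ S, fn ι y = g * fn ι x * g⁻¹ := fun x hx =>
    let ⟨y, e⟩ := hg x hx
    ⟨y, y.2, (fn_coe ι y).trans e⟩
  choose! f h1 h2 using this
  refine ⟨f, ((ez_iff.1 h).2 P f hP (fun x hx y hy => injOn_fn h.1 (h1 _ (mul_mem hx hy))
    (mul_mem (h1 x hx) (h1 y hy)) ?_) h1).2 ⟨g, h2⟩, h2⟩
  rw [homOn_fn ι _ (h1 x hx) _ (h1 y hy), h2 x hx, h2 y hy, h2 _ (mul_mem hx hy), homOn_fn ι _ (hP hx) _ (hP hy)]
  group

theorem ez_fix {A P : Subgroup Ω} (hA : F.IsCentral A) {f : Ω → Ω} (hf : Mor F P f) {a : Ω} (h1 : a ∈ P)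
    (h2 : a ∈ A) : f a = a :=
  let ⟨_, _, e1, e2⟩ := hf.ext_central hA
  (e1 a h1).symm.trans (e2 a h2)

/-- move the finite group to the right universe (`Finite.equivFin`, `ULift`, `Equiv.group`) -/
theorem isRealizable_of [Fact p.Prime] {G : Type*} [Group G] [Finite G] (ι : S →* G)
    (h : F.IsRealizedBy ι) (h1 : IsPGroup p ι.range) (h2 : ¬ p ∣ ι.range.index) :
    F.IsRealizable p := by
  let e := (Shrink.mulEquiv.{u_1} (α := G)).symm
  have hr : (e.toMonoidHom.comp ι).range = ι.range.map e.toMonoidHom := MonoidHom.range_comp _ _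
  refine ⟨Shrink.{u_1} G, inferInstance, Finite.of_equiv _ e.toEquiv, e.toMonoidHom.comp ι,
    ⟨e.injective.comp h.1, fun P hP φ hφ => (h.2 P hP φ hφ).trans ⟨fun ⟨g, hg⟩ => ⟨e g, fun x => ?_⟩,
      fun ⟨g, hg⟩ => ⟨e.symm g, fun x => e.injective ?_⟩⟩⟩,
    (hr ▸ h1.map _).toSylow (by rwa [hr, index_map_of_bijective e.bijective]), rfl⟩
  · simp [hg x]
  · simpa using hg x

theorem stronglyClosed_of_central {A : Subgroup Ω} (hA : F.IsCentral A) : F.StronglyClosed A := by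
  exact stronglyClosed_of_normal (normal_of_central hA)

/-- `C = C_G(ι A) ≥ ι S`, `G' = C ⧸ ι A`; every map of `F` extends to one fixing `A`, so is induced
by an element of `C`. -/
theorem real_down [Finite S] [Fact p.Prime] {A : Subgroup Ω} (hA : F.IsCentral A) (θ : S →* Ω')
    (hE : F.IsFactorSystem A θ E) (h : F.IsRealizable p) : E.IsRealizable p := by
  obtain ⟨G, _, _, ι, h, T, hT⟩ := h
  have hF := isFactorSystem_iff.1 hE
  obtain ⟨-, hk, rfl, -⟩ := hE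
  let A' := (A.subgroupOf S).map ι
  have hC : ∀ s, ι s ∈ centralizer (A' : Set G) := by
    rintro s _ ⟨a, ha, rfl⟩
    rw [← map_mul, ← map_mul]
    exact congrArg ι (Subtype.ext (mul_inv_eq_iff_eq_mul.1 (ez_fix hA (mor_conj F hA.1 s.2) ha ha)).symm)
  have : (A'.subgroupOf (centralizer (A' : Set G))).Normal := ⟨fun a ha g => by
    rw [mem_subgroupOf, coe_mul, coe_mul, ← g.2 a ha, coe_inv, mul_inv_cancel_right]; exact ha⟩
  let κ := (QuotientGroup.mk' (A'.subgroupOf (centralizer (A' : Set G)))).comp (ι.codRestrict _ hC)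
  have hκ : ∀ s, κ s = 1 ↔ (s : Ω) ∈ A := fun s =>
    (QuotientGroup.eq_one_iff _).trans (mem_map_iff_mem (K := A.subgroupOf S) h.1)
  let ι' := θ.rangeRestrict.liftOfSurjective θ.rangeRestrict_surjective
    ⟨κ, fun s hs => (hκ s).2 ((hk s).1 (congrArg Subtype.val hs))⟩
  have e : ∀ s, ι' (θ.rangeRestrict s) = κ s := fun s => MonoidHom.liftOfRightInverse_comp_apply _ _ _ _ s
  have e' : ∀ x ∈ S, fn ι' (fn θ x) = fn κ x := fun x hx => by
    rw [fn_apply θ hx, fn_apply κ hx, fn_apply ι' ⟨_, rfl⟩]; exact e _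
  have e'' : ∀ x ∈ S, ∀ y ∈ S, ∀ g : centralizer (A' : Set G), fn ι y = g * fn ι x * g⁻¹ →
      fn κ y = (g : _ ⧸ _) * fn κ x * (g : _ ⧸ _)⁻¹ := fun x hx y hy g h => by
    rw [fn_apply _ hx, fn_apply _ hy] at h ⊢
    exact congrArg QuotientGroup.mk (Subtype.ext h)
  have hi : Function.Injective ι' := (injective_iff_map_eq_one _).2 fun y hy => by
    obtain ⟨s, rfl⟩ := θ.rangeRestrict_surjective y
    exact Subtype.ext ((hk s).2 ((hκ s).1 (e s ▸ hy)))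
  have hr : ι'.range = (ι.range.subgroupOf _).map (QuotientGroup.mk' _) := by
    ext y
    constructor
    · rintro ⟨y, rfl⟩
      obtain ⟨s, rfl⟩ := θ.rangeRestrict_surjective y
      exact ⟨⟨_, hC s⟩, ⟨s, rfl⟩, (e s).symm⟩
    · rintro ⟨⟨_, _⟩, ⟨s, rfl⟩, rfl⟩
      exact ⟨_, e s⟩
  refine isRealizable_of ι' (ez_iff.2 ⟨hi, fun P f hP hf hm => ⟨fun h1 => ?_, fun ⟨g, hg⟩ => ?_⟩⟩)
    (hr ▸ ((hT ▸ T.2).comap_subtype).map _) fun hd => T.not_dvd_index ?_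
  · obtain ⟨f0, h2, h3⟩ := hF.up h1
    obtain ⟨g, hg⟩ := ez_conj h h2
    have : g ∈ centralizer (A' : Set G) := by
      rintro _ ⟨a, ha, rfl⟩
      have := hg a (hF.le_pre P ha)
      rw [ez_fix (a := a) hA h2 (hF.le_pre P ha) ha, fn_coe] at this
      exact (eq_mul_inv_iff_mul_eq.1 this)
    refine ⟨((⟨g, this⟩ : centralizer (A' : Set G)) : _ ⧸ _), fun y hy => ?_⟩
    obtain ⟨x, hx, rfl⟩ := hF.exists_eq (hP hy)
    rw [h3 x ⟨hx, hy⟩, e' _ hx, e' _ (h2.mem ⟨hx, hy⟩)]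
    exact e'' _ hx _ (h2.mem ⟨hx, hy⟩) _ (hg x ⟨hx, hy⟩)
  · obtain ⟨g, rfl⟩ := QuotientGroup.mk_surjective g
    obtain ⟨f0, h2, h3⟩ := ez_mor h (hF.hom.pre_le P) (g := g) fun x hx => by
      have : (⟨g * fn ι x * g⁻¹, mul_mem (mul_mem g.2 (fn_apply ι hx.1 ▸ hC _)) (inv_mem g.2)⟩ :
          centralizer (A' : Set G)) ∈ (ι'.range).comap (QuotientGroup.mk' _) := by
        refine ⟨⟨_, hm _ hx.2⟩, ?_⟩
        rw [← fn_apply ι' (hm _ hx.2), hg _ hx.2, e' _ hx.1, fn_apply κ hx.1]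
        exact congrArg QuotientGroup.mk (Subtype.ext (by simp [fn_apply ι hx.1]))
      rw [hr, comap_map_eq_self (by
        rw [QuotientGroup.ker_mk']; exact subgroupOf_mono _ (map_le_range _ _))] at this
      exact this
    refine (hF.mor P f).2 ⟨hP, f0, h2, fun x hx => injOn_fn hi (hm _ hx.2) (hF.mem (h2.mem hx)) ?_⟩
    rw [hg _ hx.2, e' _ hx.1, e' _ (h2.mem hx)]
    exact (e'' _ hx.1 _ (h2.mem hx) g (h3 x hx)).symm
  · rw [hr] at hd
    rw [hT]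
    exact (hd.trans (index_map_dvd _ (QuotientGroup.mk'_surjective _))).trans
      (relIndex_dvd_index_of_le (by rintro _ ⟨s, rfl⟩; exact hC s))

end Cfsg.Lib.LK
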