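import Cfsg.Agent.Lib.LK.Def
import Cfsg.Agent.Lib.Fusion.Quot
import Mathlib.GroupTheory.SemidirectProduct

set_option autoImplicit false
set_option linter.unusedSectionVars false

namespace Cfsg.Lib.LK

open Subgroup Cfsg.Lib.Transfer Cfsg.Lib.Fusion
open scoped commutatorElement

variable {p : ℕ}

open scoped IsMulCommutative

section ex
variable {S Gb X : Type*} [Group S] [Group Gb] [MulAction Gb X]

theorem ex_mul_left (a b : (X → S) ⋊[mulAutArrow] Gb) (x : X) :
    (a * b).left x = a.left x * b.left (a.right⁻¹ • x) := rfl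

theorem ex_inv_left (a : (X → S) ⋊[mulAutArrow] Gb) (x : X) :
    a⁻¹.left x = (a.left (a.right • x))⁻¹ := by
  change (a.left (a.right⁻¹⁻¹ • x))⁻¹ = _
  rw [inv_inv]

/-- the lifts of the elements of `Gb` -/
def exE (θ : S →* Gb) (r : X → Gb) : Subgroup ((X → S) ⋊[mulAutArrow] Gb) where
  carrier := {w | ∀ x, θ (w.left x) = (r x)⁻¹ * w.right * r (w.right⁻¹ • x)}
  one_mem' := fun x => by simp
  mul_mem' := fun {a b} ha hb x => by
    rw [ex_mul_left, map_mul, ha, hb, SemidirectProduct.mul_right, mul_inv_rev, mul_smul]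
    group
  inv_mem' := fun {a} ha x => by
    rw [ex_inv_left, map_inv, ha, SemidirectProduct.inv_right, inv_inv, inv_smul_smul]
    group

/-- the central functions with product one -/
def exN (S Gb X : Type*) [Group S] [Group Gb] [MulAction Gb X] [Fintype X] :
    Subgroup ((X → S) ⋊[mulAutArrow] Gb) where
  carrier := {w | w.right = 1 ∧ ∃ f : X → center S, (∀ x, w.left x = f x) ∧ ∏ x, f x = 1}
  one_mem' := ⟨rfl, 1, fun _ => rfl, by simp⟩
  mul_mem' := by
    rintro a b ⟨h1, f, hf, hf'⟩ ⟨h2, g, hg, hg'⟩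
    refine ⟨by simp [h1, h2], f * g, fun x => ?_, ?_⟩
    · rw [ex_mul_left, h1, inv_one, one_smul, hf, hg]; rfl
    · simp [Finset.prod_mul_distrib, hf', hg']
  inv_mem' := by
    rintro a ⟨h1, f, hf, hf'⟩
    refine ⟨by simp [h1], f⁻¹, fun x => ?_, ?_⟩
    · rw [ex_inv_left, h1, one_smul, hf]; rfl
    · simp [Finset.prod_inv_distrib, hf']

theorem exN_normal [Fintype X] : (exN S Gb X).Normal := ⟨by
  rintro a ⟨h1, f, hf, hf'⟩ g
  refine ⟨by simp [h1], fun x => f (g.right⁻¹ • x), fun x => ?_, ?_⟩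
  · rw [ex_mul_left, ex_mul_left, ex_inv_left, SemidirectProduct.mul_right, h1, mul_one,
      smul_inv_smul, hf, mem_center_iff.1 (f _).2, mul_inv_cancel_right]
  · rw [← hf']
    exact Equiv.prod_comp (MulAction.toPerm g.right⁻¹) f⟩

theorem ex_section (θ : S →* Gb) : ∃ (c : Gb ⧸ θ.range → Gb) (τ : Gb ⧸ θ.range → S),
    (∀ s x, c (θ s • x) = c x) ∧ ∀ x, ((θ (τ x) * c x : Gb) : Gb ⧸ θ.range) = x := by
  have h : ∀ x : Gb ⧸ θ.range, ∃ s : S, θ s •
      (Quotient.mk (MulAction.orbitRel θ.range (Gb ⧸ θ.range)) x).out = x := fun x => by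
    have := Quotient.mk_out (s := MulAction.orbitRel θ.range (Gb ⧸ θ.range)) x
    obtain ⟨⟨_, s, rfl⟩, e⟩ := (MulAction.orbitRel θ.range (Gb ⧸ θ.range)).symm this
    exact ⟨s, e⟩
  choose τ hτ using h
  refine ⟨fun x => (Quotient.mk (MulAction.orbitRel θ.range (Gb ⧸ θ.range)) x).out.out, τ,
    fun s x => ?_, fun x => ?_⟩
  · have : Quotient.mk (MulAction.orbitRel θ.range (Gb ⧸ θ.range)) (θ s • x) =
        Quotient.mk (MulAction.orbitRel θ.range (Gb ⧸ θ.range)) x :=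
      Quotient.sound ⟨⟨θ s, s, rfl⟩, rfl⟩
    simp only [this]
  · conv_rhs => rw [← hτ x]
    rw [← smul_eq_mul, ← MulAction.Quotient.smul_coe, QuotientGroup.out_eq']

end ex

/-- A stable central extension of a Sylow subgroup extends.  `A = θ.ker`, `X = Gb ⧸ θ.range`,
`r x = x.out`, `a g x = (r (g x))⁻¹ g (r x) ∈ θ.range`; `m |X| ≡ 1` modulo the exponent of `A`.
`E = {(g, λ : X × Fin m → S) | θ (λ (x, i)) = a g x}`, `(g, λ)(h, μ) = (g h, (x, i) ↦ λ (h x, i) μ (x, i))`,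
`N = {(1, λ) | ∏ λ = 1}` (values in the central `A`), `G = E ⧸ N`.  `j s = (θ s, Γ s)` with
`Γ (s t) x = Γ s (θ t x) Γ t x`, `θ (Γ s x) = a (θ s) x`, `Γ a x = a` on `A`: per `S`-orbit take a base
point `x₀`, `τ x ∈ S` with `θ (τ x) x₀ = x`, `σ x ∈ S` over `a (θ (τ x)) x₀`, `φ` from `hst` for
`(r x₀)⁻¹`, `Γ s x = σ (s x) φ ((τ (s x))⁻¹ s (τ x)) (σ x)⁻¹`.  (Or use 2-cocycles.) -/
theorem exists_ext.{u, v} [Fact p.Prime] {S : Type u} {Gb : Type v} [Group S] [Finite S] [Group Gb]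
    [Finite Gb] (θ : S →* Gb) (hS : IsPGroup p S) (hi : ¬ p ∣ θ.range.index)
    (hc : θ.ker ≤ center S)
    (hst : ∀ g : Gb, ∃ φ : S → S,
      (∀ x y, g * θ x * g⁻¹ ∈ θ.range → g * θ y * g⁻¹ ∈ θ.range → φ (x * y) = φ x * φ y) ∧
      (∀ x, g * θ x * g⁻¹ ∈ θ.range → θ (φ x) = g * θ x * g⁻¹) ∧ ∀ a ∈ θ.ker, φ a = a) :
    ∃ (G : Type (max u v)) (_ : Group G) (_ : Finite G) (π : G →* Gb) (j : S →* G),
      Function.Surjective π ∧ Function.Injective j ∧ (∀ s, π (j s) = θ s) ∧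
      π.ker = θ.ker.map j ∧ π.ker ≤ center G := by
  classical
  obtain ⟨c, τ, hcs, hr⟩ := ex_section θ
  choose φ φ1 φ2 φ3 using hst
  let X := Gb ⧸ θ.range
  let _ : Fintype X := Fintype.ofFinite X
  let r : X → Gb := fun x => θ (τ x) * c x
  have hm : ∀ (g : Gb) (x : X), (r x)⁻¹ * g * r (g⁻¹ • x) ∈ θ.range := fun g x => by
    rw [mul_assoc, ← QuotientGroup.eq, ← smul_eq_mul g, ← MulAction.Quotient.smul_coe, hr, hr,
      smul_inv_smul]
  let dd : S → X → S := fun s x => (τ x)⁻¹ * s * τ ((θ s)⁻¹ • x)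
  have hd : ∀ s x, (c x)⁻¹ * θ (dd s x) * (c x)⁻¹⁻¹ = (r x)⁻¹ * θ s * r ((θ s)⁻¹ • x) := by
    intro s x
    have : c ((θ s)⁻¹ • x) = c x := by rw [← map_inv, hcs]
    simp only [dd, r, map_mul, map_inv, this]
    group
  have hd' : ∀ s x, (c x)⁻¹ * θ (dd s x) * (c x)⁻¹⁻¹ ∈ θ.range := fun s x => hd s x ▸ hm _ x
  let Γ : S →* exE θ r := MonoidHom.mk' (fun s => ⟨⟨fun x => φ (c x)⁻¹ (dd s x), θ s⟩,
    fun x => (φ2 _ _ (hd' s x)).trans (hd s x)⟩) fun s t => by
      refine Subtype.ext (SemidirectProduct.ext (funext fun x => ?_) (map_mul θ s t))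
      have e : c ((θ s)⁻¹ • x) = c x := by rw [← map_inv, hcs]
      change φ (c x)⁻¹ (dd (s * t) x) = φ (c x)⁻¹ (dd s x) *
        φ (c ((θ s)⁻¹ • x))⁻¹ (dd t ((θ s)⁻¹ • x))
      rw [e, ← φ1 _ _ _ (hd' s x) (e ▸ hd' t _)]
      congr 1
      simp only [dd, map_mul, mul_inv_rev, mul_smul]
      group
  have Γr : ∀ s, (Γ s).1.right = θ s := fun _ => rfl
  have Γl : ∀ a, θ a = 1 → ∀ x, (Γ a).1.left x = a := fun a ha x => by
    change φ (c x)⁻¹ (dd a x) = a
    have : dd a x = a := by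
      simp only [dd, ha, inv_one, one_smul]
      rw [mem_center_iff.1 (hc ha), inv_mul_cancel_right]
    rw [this, φ3 _ _ ha]
  have cop : ∀ z : S, (Fintype.card X).Coprime (orderOf z) := fun z => by
    obtain ⟨k, hk⟩ := hS z
    refine Nat.Coprime.coprime_dvd_right (orderOf_dvd_of_pow_eq_one hk) (Nat.Coprime.pow_right k ?_)
    rw [← Nat.card_eq_fintype_card]
    exact ((Nat.Prime.coprime_iff_not_dvd Fact.out).2 hi).symm
  have := exN_normal (S := S) (Gb := Gb) (X := X)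
  have : Finite ((X → S) ⋊[mulAutArrow] Gb) := Finite.of_equiv _ SemidirectProduct.equivProd.symm
  let N := (exN S Gb X).subgroupOf (exE θ r)
  let π : exE θ r ⧸ N →* Gb := QuotientGroup.lift N
    (SemidirectProduct.rightHom.comp (exE θ r).subtype) fun e he => he.1
  have πmk : ∀ e : exE θ r, π (e : exE θ r ⧸ N) = e.1.right := fun _ => rfl
  have hker : π.ker = θ.ker.map ((QuotientGroup.mk' N).comp Γ) := by
    refine le_antisymm (fun y hy => ?_) ?_
    · obtain ⟨e, rfl⟩ := QuotientGroup.mk_surjective y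
      have h1 : e.1.right = 1 := hy
      have h2 : ∀ x, θ (e.1.left x) = 1 := fun x => by
        rw [e.2 x, h1]; simp
      let f : X → center S := fun x => ⟨e.1.left x, hc (h2 x)⟩
      have h3 : θ (∏ x, f x : center S) = 1 := by
        refine Finset.prod_induction f (fun z : center S => θ z = 1) (fun a b ha hb => ?_) (map_one θ)
          fun x _ => h2 x
        rw [Subgroup.coe_mul, map_mul, ha, hb, one_mul]
      obtain ⟨m, hm⟩ := exists_pow_eq_self_of_coprime (cop (∏ x, f x : center S))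
      have h4 : θ (((∏ x, f x) ^ m : center S) : S) = 1 := by
        rw [Subgroup.coe_pow, map_pow, h3, one_pow]
      refine ⟨_, h4, QuotientGroup.eq.2 ⟨?_, fun x => ((∏ x, f x) ^ m)⁻¹ * f x, fun x => ?_, ?_⟩⟩
      · rw [coe_subtype, Subgroup.coe_mul, Subgroup.coe_inv, SemidirectProduct.mul_right,
          SemidirectProduct.inv_right, Γr, h4, h1, inv_one, one_mul]
      · rw [coe_subtype, Subgroup.coe_mul, ex_mul_left, Subgroup.coe_inv, ex_inv_left, Γl _ h4,
          SemidirectProduct.inv_right, Γr, h4, inv_one, inv_one, one_smul]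
        rfl
      · rw [Finset.prod_mul_distrib, Finset.prod_const, Finset.card_univ, inv_pow, inv_mul_eq_one,
          ← pow_mul, mul_comm, pow_mul]
        exact Subtype.ext hm
    · rintro _ ⟨a, ha, rfl⟩
      exact ha
  refine ⟨exE θ r ⧸ N, inferInstance, inferInstance, π, (QuotientGroup.mk' N).comp Γ,
    fun g => ?_, (injective_iff_map_eq_one _).2 fun s hs => ?_, fun _ => rfl, hker, ?_⟩
  · choose l hl using hm g
    exact ⟨(⟨⟨l, g⟩, hl⟩ : exE θ r), rfl⟩
  · obtain ⟨h1, f, hf, hf'⟩ : Γ s ∈ N := (QuotientGroup.eq_one_iff _).1 hs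
    have h2 : θ s = 1 := h1
    have h3 : ∀ x, f x = ⟨s, hc h2⟩ := fun x => Subtype.ext ((hf x).symm.trans (Γl s h2 x))
    simp only [h3, Finset.prod_const, Finset.card_univ] at hf'
    have h4 : s ^ Fintype.card X = 1 := congrArg Subtype.val hf'
    exact orderOf_eq_one_iff.1 (Nat.Coprime.eq_one_of_dvd (cop s).symm
      (orderOf_dvd_of_pow_eq_one h4))
  · rw [hker]
    rintro _ ⟨a, ha, rfl⟩
    refine mem_center_iff.2 fun y => ?_
    obtain ⟨e, rfl⟩ := QuotientGroup.mk_surjective y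
    have ha' : θ a = 1 := ha
    have : e * Γ a = Γ a * e := by
      refine Subtype.ext (SemidirectProduct.ext (funext fun x => ?_) ?_)
      · rw [Subgroup.coe_mul, Subgroup.coe_mul, ex_mul_left, ex_mul_left, Γl a ha', Γl a ha', Γr, ha',
          inv_one, one_smul, mem_center_iff.1 (hc ha)]
      · simp [Γr, ha']
    exact congrArg (QuotientGroup.mk' N) this

end Cfsg.Lib.LK
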