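import Cfsg.Agent.Lib.LK.Full

set_option autoImplicit false

namespace Cfsg.Lib.LK

open Subgroup Cfsg.Lib.Transfer
open scoped commutatorElement

variable {p : ℕ} {G Ω D : Type*} [Group G] [MulAction G Ω] [AddCommGroup D] [DistribMulAction G D]
  {f : Fr p G Ω} {N O M N' O' : Subgroup G → AddSubgroup D} {Q : Subgroup G → Prop} {k : ℕ}

section fc

variable {Γ : Type*} [Group Γ] {H : Subgroup G} (ρ : H →* Γ)

theorem fc_mem {P : Subgroup G} {γ : Γ} : γ ∈ (P.subgroupOf H).map ρ ↔ ∃ h : H, (h : G) ∈ P ∧ ρ h = γ :=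
  Iff.rfl

theorem fc_conj (P : Subgroup G) (g : H) :
    (((g : G) ⋆ P).subgroupOf H).map ρ = ρ g ⋆ (P.subgroupOf H).map ρ := by
  ext γ
  rw [mem_conj, fc_mem, fc_mem]
  constructor
  · rintro ⟨h, h1, rfl⟩
    exact ⟨g⁻¹ * h * g, mem_conj.1 h1, by simp⟩
  · rintro ⟨h, h1, h2⟩
    exact ⟨g * h * g⁻¹, conj_mem_conj.2 h1, by simp [h2, mul_assoc]⟩

end fc

theorem fc_cut {Γ : Type*} [Group Γ] {ρ : f.H →* Γ} (hY : ∀ h : f.H, (h : G) ∈ f.Y → ρ h = 1)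
    {R : Subgroup G} (hR : f.Ob R) {P' : Subgroup Γ} (h : P' ≤ (R.subgroupOf f.H).map ρ) :
    ∃ R', f.Ob R' ∧ R' ≤ R ∧ (R'.subgroupOf f.H).map ρ = P' := by
  refine ⟨R ⊓ (P'.comap ρ).map f.H.subtype, hR.of_le (le_inf hR.1 fun y hy => ?_) inf_le_left, inf_le_left,
    le_antisymm ?_ fun γ hγ => ?_⟩
  · exact ⟨⟨y, f.Yle hy⟩, by simp [hY ⟨y, f.Yle hy⟩ hy], rfl⟩
  · rintro _ ⟨x, ⟨-, y, h1, h2⟩, rfl⟩
    rwa [← Subtype.ext h2]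
  · obtain ⟨x, h1, rfl⟩ := h hγ
    exact ⟨x, ⟨h1, x, hγ, rfl⟩, rfl⟩

theorem fc_le {Γ : Type*} [Group Γ] {ρ : f.H →* Γ}
    (hK : ∀ h : f.H, ρ h = 1 → (∃ n : ℕ, (h : G) ^ p ^ n = 1) → (h : G) ∈ f.Y) {P P' : Subgroup G}
    (hP : f.Ob P) (hP' : f.Ob P') {y : Ω} (hy : y ∈ f.fixA P) (hy' : y ∈ f.fixA P')
    (h : (P.subgroupOf f.H).map ρ ≤ (P'.subgroupOf f.H).map ρ) : P ≤ P' := fun x hx => by
  obtain ⟨x', h1, h2⟩ := h ((fc_mem ρ).2 ⟨⟨x, hP.2.1 hx⟩, hx, rfl⟩)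
  have h3 : x * (x' : G)⁻¹ ∈ f.H ⊓ MulAction.stabilizer G y :=
    mul_mem ⟨hP.2.1 hx, (Fr.mem_fixA.1 hy).2 x hx⟩ (inv_mem ⟨x'.2, (Fr.mem_fixA.1 hy').2 _ h1⟩)
  obtain ⟨n, hn⟩ := f.pg y (Fr.mem_fixA.1 hy).1 ⟨_, h3⟩
  have h4 := hK (⟨x, hP.2.1 hx⟩ * x'⁻¹) (by rw [map_mul, map_inv, h2, mul_inv_cancel])
    ⟨n, congrArg Subtype.val hn⟩
  simpa using mul_mem (hP'.1 h4) h1

/-- Passing to the quotient by a kernel `K` with `K / Y` a `p'`-group.  `T` Sylow in `H` with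
`st [x₀] = T`, `S = ρ T`, `π (h x₀) = ρ h S` on `Ω₀ = H x₀`.  (1) If `y, κ y` (`ρ κ = 1`) are both fixed
by an object `P ∈ Q` then `c [y, κ y] = 0`: `P` and `κ⁻¹ ⋆ P` lie in the `p`-group `st [y]` and have
the same image, so they are equal (`hK`); `exists_e`, `κ` fixes `fx Y`.  (2) For a `p`-subgroup
`P'` of `Γ` all objects with image `P'` are `K`-conjugate (Sylow in the preimage), every object with
image in `P'` lies in one, and it fixes a point in each fibre over a `P'`-fixed point (conjugate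
into `T`).  So `c' [π y, π y'] = c [y, y']` is well defined on edges in `Q'` (put `0` elsewhere), an
equivariant cocycle; with `c' = d b'`, put `b [x] = ι (b' [π y]) + c [y, x]` for any `y ∈ Ω₀` fixed by
`st [x] ∈ Q`, and `0` off `Q` (or use `van_PN`). -/
theorem van_FC [Finite G] [Fact p.Prime] {Γ W : Type*} [Group Γ] [Finite Γ] [AddCommGroup W]
    [DistribMulAction Γ W] (hD : PT p D) (f : Fr p G Ω) (ρ : f.H →* Γ)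
    (hρ : Function.Surjective ρ) (ι : W →+ D) (hι : Function.Injective ι)
    (hr : ι.range = fx D f.Y) (he : ∀ (h : f.H) (w : W), ι (ρ h • w) = (h : G) • ι w)
    (hY : ∀ h : f.H, (h : G) ∈ f.Y → ρ h = 1)
    (hK : ∀ h : f.H, ρ h = 1 → (∃ n : ℕ, (h : G) ^ p ^ n = 1) → (h : G) ∈ f.Y)
    {Q' : Subgroup Γ → Prop} (hQ : Up f Q)
    (hQQ : ∀ P, f.Ob P → (Q P ↔ Q' ((P.subgroupOf f.H).map ρ)))
    (h : ∀ (S : Subgroup Γ) (hS : Syl p S ⊤), Van (topFr S hS) (fx W) (Rf W Q') 1) :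
    Van f (fx D) (Rf D Q) 1 := by
  classical
  refine van_PN hD hQ fun c hc hd => ?_
  obtain ⟨e, he1, he2⟩ := exists_e hD hQ hc hd
  obtain ⟨T, hT, -⟩ := exists_syl (p := p) (X := ⊥) IsPGroup.of_bot (bot_le : ⊥ ≤ f.H)
  obtain ⟨x₀, hx₀, hst⟩ := hT.exists_pt
  set S : Subgroup Γ := (T.subgroupOf f.H).map ρ with hSdef
  have hS : Syl p S ⊤ := ⟨le_top, hT.2.1.comap_subtype.map ρ, fun h1 => hT.2.2 (h1.trans (by
    rw [relIndex_top_right]; exact index_map_dvd _ hρ))⟩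
  have hA : ∀ g : f.H, (g : G) • x₀ ∈ f.A := fun g => f.inv g g.2 x₀ hx₀
  have hTx : ∀ g : f.H, (g : G) ∈ T ↔ (g : G) • x₀ = x₀ := fun g => by
    rw [← hst, fu_st_one, and_iff_right g.2]
  have hπ : ∀ g g' : f.H, (ρ g : Γ ⧸ S) = (ρ g' : Γ ⧸ S) ↔ ∃ t : f.H, (t : G) • x₀ = x₀ ∧ ρ (g * t) = ρ g' :=
    fun g g' => by
      rw [QuotientGroup.eq, hSdef, fc_mem]
      exact exists_congr fun t => and_congr (hTx t) (by rw [map_mul, eq_inv_mul_iff_mul_eq])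
  have hsm : ∀ g g' : f.H, ρ g • (ρ g' : Γ ⧸ S) = (ρ (g * g') : Γ ⧸ S) := fun g g' => by rw [map_mul]; rfl
  have hsurj : ∀ α : Γ ⧸ S, ∃ g : f.H, (ρ g : Γ ⧸ S) = α := fun α => by
    obtain ⟨γ, rfl⟩ := QuotientGroup.mk_surjective α
    obtain ⟨g, rfl⟩ := hρ γ
    exact ⟨g, rfl⟩
  have F1 : ∀ g g' : f.H, (g : G) • (g' : G) • x₀ = (g' : G) • x₀ → ρ g • (ρ g' : Γ ⧸ S) = ρ g' := fun g g' e1 => by
    rw [hsm, eq_comm, hπ]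
    refine ⟨g'⁻¹ * g * g', ?_, by rw [mul_assoc, mul_inv_cancel_left]⟩
    simp only [Subgroup.coe_mul, Subgroup.coe_inv, mul_smul, e1, inv_smul_smul]
  have F1' : ∀ P (g : f.H), (g : G) • x₀ ∈ f.fixA P → ∀ γ ∈ (P.subgroupOf f.H).map ρ,
      γ • (ρ g : Γ ⧸ S) = ρ g := by
    rintro P g hg _ ⟨x, hx, rfl⟩
    exact F1 x g ((Fr.mem_fixA.1 hg).2 x hx)
  have F7 : ∀ (P' : Subgroup Γ) (α : Γ ⧸ S), (∀ γ ∈ P', γ • α = α) → ∃ (R : Subgroup G) (g : f.H), f.Ob R ∧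
      (R.subgroupOf f.H).map ρ = P' ∧ (g : G) • x₀ ∈ f.fixA R ∧ (ρ g : Γ ⧸ S) = α := fun P' α hα => by
    obtain ⟨g, rfl⟩ := hsurj α
    obtain ⟨R, h1, h2, h3⟩ := fc_cut hY (Fr.ob_st (fu_in_one.2 (hA g)) (by simp)) (P' := P') fun γ hγ => by
      obtain ⟨x, rfl⟩ := hρ γ
      obtain ⟨t, ht, e1⟩ := (hπ _ _).1 ((hα _ hγ).symm.trans (hsm x g))
      refine ⟨g * t * g⁻¹, fu_st_one.2 ⟨(g * t * g⁻¹).2, ?_⟩, by rw [map_mul, e1]; simp⟩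
      simp only [Subgroup.coe_subtype, Subgroup.coe_mul, Subgroup.coe_inv, mul_smul, inv_smul_smul, ht]
    exact ⟨R, g, h1, h3, Fr.mem_fixA.2 ⟨hA g, fun x hx => (fu_st_one.1 (h2 hx)).2⟩, rfl⟩
  have FL : ∀ (R : Subgroup G) (α : Γ ⧸ S), f.Ob R → (∀ γ ∈ (R.subgroupOf f.H).map ρ, γ • α = α) →
      ∃ g : f.H, (g : G) • x₀ ∈ f.fixA R ∧ (ρ g : Γ ⧸ S) = α := fun R α hR hα => by
    obtain ⟨g, rfl⟩ := hsurj α
    let M : Subgroup G := ((MulAction.stabilizer Γ (ρ g : Γ ⧸ S)).comap ρ).map f.H.subtype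
    have h1 : (g : G) ⋆ T ≤ M := fun x hx => by
      have h2 : x ∈ f.st [(g : G) • x₀] := by
        rw [show f.st [(g : G) • x₀] = _ from Fr.st_act [x₀] g.2, hst]; exact hx
      exact ⟨⟨x, h2.1⟩, F1 ⟨x, h2.1⟩ g (fu_st_one.1 h2).2, rfl⟩
    have h2 : ¬ p ∣ ((g : G) ⋆ T).relIndex M := fun h3 => hT.2.2 (by
      rw [← relIndex_conj (g : G), conj_eq_self_of_mem g.2,
        ← relIndex_mul_relIndex _ M f.H h1 (map_subtype_le _)]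
      exact h3.mul_right _)
    obtain ⟨_, ⟨m, hm, rfl⟩, h3⟩ := exists_conj_le_of_not_dvd_relIndex' h2 hR.2.2 fun x hx =>
      ⟨⟨x, hR.2.1 hx⟩, hα _ ((fc_mem ρ).2 ⟨⟨x, hR.2.1 hx⟩, hx, rfl⟩), rfl⟩
    refine ⟨m⁻¹ * g, Fr.mem_fixA.2 ⟨hA _, fun x hx => ?_⟩, ?_⟩
    · have h4 := mem_conj.1 (h3 (conj_mem_conj.2 hx))
      rw [← hst, fu_st_one] at h4
      have h5 := h4.2
      simp only [Subgroup.coe_subtype, mul_smul, inv_smul_eq_iff] at h5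
      simp only [Subgroup.coe_mul, Subgroup.coe_inv, mul_smul]
      rw [eq_inv_smul_iff, h5]
    · rw [← hsm, map_inv, inv_smul_eq_iff]
      exact Eq.symm hm
  have K0 : ∀ P, f.Ob P → Q P → ∀ y ∈ f.fixA P, ∃ w, ι w = e P y := fun P hP hq y hy => by
    have : e P y ∈ ι.range := hr ▸ fun g hg => by
      rw [← he2 P hP hq g (f.Yle hg) y hy, conj_eq_self_of_mem (hP.1 hg), (Fr.mem_fixA.1 hy).2 g (hP.1 hg)]
    exact this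
  have K1 : ∀ (P' : Subgroup Γ) (α : Γ ⧸ S), ∃ w : W, ∀ P (g : f.H), f.Ob P → Q P → (g : G) • x₀ ∈ f.fixA P →
      (P.subgroupOf f.H).map ρ = P' → (ρ g : Γ ⧸ S) = α → ι w = e P ((g : G) • x₀) := fun P' α => by
    by_cases hex : ∃ (P : Subgroup G) (g : f.H), f.Ob P ∧ Q P ∧ (g : G) • x₀ ∈ f.fixA P ∧
      (P.subgroupOf f.H).map ρ = P' ∧ (ρ g : Γ ⧸ S) = α
    swap
    · exact ⟨0, fun P g h1 h2 h3 h4 h5 => absurd ⟨P, g, h1, h2, h3, h4, h5⟩ hex⟩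
    obtain ⟨P, g, h1, h2, h3, rfl, rfl⟩ := hex
    obtain ⟨w, hw⟩ := K0 P h1 h2 _ h3
    refine ⟨w, fun P2 g2 h4 _ h6 h7 h8 => ?_⟩
    obtain ⟨t, ht, e1⟩ := (hπ _ _).1 h8
    have e2 : ρ (g2 * t * g⁻¹) = 1 := by rw [map_mul, e1, map_inv, mul_inv_cancel]
    have e3 : ((g2 * t * g⁻¹ : f.H) : G) • (g : G) • x₀ = (g2 : G) • x₀ := by
      simp only [Subgroup.coe_mul, Subgroup.coe_inv, mul_smul, inv_smul_smul, ht]
    have e4 := (fu_smul_fixA (g2 * t * g⁻¹).2 P _).2 h3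
    have e5 := fc_conj ρ P (g2 * t * g⁻¹)
    rw [e3] at e4
    rw [e2, conj_one, ← h7] at e5
    have e6 := h1.conj (g2 * t * g⁻¹).2
    rw [← le_antisymm (fc_le hK e6 h4 e4 h6 e5.le) (fc_le hK h4 e6 h6 e4 e5.ge), ← e3,
      he2 P h1 h2 _ (g2 * t * g⁻¹).2 _ h3, ← hw, ← he, e2, one_smul]
  choose E hE using K1
  have K2 : ∀ (P' P'' : Subgroup Γ) (α β : Γ ⧸ S), Q' P'' → P'' ≤ P' → (∀ γ ∈ P', γ • α = α) →
      (∀ γ ∈ P', γ • β = β) → Q' P' ∧ E P'' β - E P'' α = E P' β - E P' α := fun P' P'' α β hq hle hα hβ => by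
    obtain ⟨R, g, h1, rfl, h3, h4⟩ := F7 P' α hα
    obtain ⟨g', h5, h6⟩ := FL R β h1 hβ
    obtain ⟨R', h7, h8, h9⟩ := fc_cut hY h1 hle
    have q1 : Q R' := (hQQ R' h7).2 (h9 ▸ hq)
    have q2 : Q R := hQ.up _ _ h7 h1 h8 q1
    have hf : ∀ y ∈ f.fixA R, y ∈ f.fixA R' := fun y hy =>
      Fr.mem_fixA.2 ⟨(Fr.mem_fixA.1 hy).1, fun x hx => (Fr.mem_fixA.1 hy).2 x (h8 hx)⟩
    refine ⟨(hQQ R h1).1 q2, hι ?_⟩
    rw [map_sub, map_sub, hE _ _ R g h1 q2 h3 rfl h4, hE _ _ R g' h1 q2 h5 rfl h6,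
      hE _ _ R' g h7 q1 (hf _ h3) h9 h4, hE _ _ R' g' h7 q1 (hf _ h5) h9 h6, ← he1 R h1 q2 _ h3 _ h5,
      ← he1 R' h7 q1 _ (hf _ h3) _ (hf _ h5)]
  have K3 : ∀ (P' : Subgroup Γ) (α : Γ ⧸ S) (γ : Γ), Q' P' → (∀ γ ∈ P', γ • α = α) →
      Q' (γ ⋆ P') ∧ E (γ ⋆ P') (γ • α) = γ • E P' α := fun P' α γ hq hα => by
    obtain ⟨R, g, h1, rfl, h3, rfl⟩ := F7 P' α hα
    obtain ⟨x, rfl⟩ := hρ γ
    have q1 : Q R := (hQQ R h1).2 hq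
    have q2 := hQ.cj R h1 x x.2 q1
    refine ⟨fc_conj ρ R x ▸ (hQQ _ (h1.conj x.2)).1 q2, hι ?_⟩
    rw [he, hE _ _ R g h1 q1 h3 rfl rfl, ← he2 R h1 q1 x x.2 _ h3, ← mul_smul]
    exact hE _ _ _ (x * g) (h1.conj x.2) q2 (by
      rw [Subgroup.coe_mul, mul_smul]; exact (fu_smul_fixA x.2 R _).2 h3) (fc_conj ρ R x) (hsm x g).symm
  let F := topFr S hS
  let c₂ : Γ ⧸ S → Γ ⧸ S → W := fun α β =>
    if Q' (F.st [α, β]) then E (F.st [α, β]) β - E (F.st [α, β]) α else 0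
  let c' : List (Γ ⧸ S) → W := fun l => match l with
    | [α, β] => c₂ α β
    | _ => 0
  have s1 : ∀ α β : Γ ⧸ S, ∀ γ ∈ F.st [α, β], γ • α = α := fun α β γ hγ => (fu_st_two.1 hγ).2.1
  have s2 : ∀ α β : Γ ⧸ S, ∀ γ ∈ F.st [α, β], γ • β = β := fun α β γ hγ => (fu_st_two.1 hγ).2.2
  have c1 : ∀ (γ : Γ) (α β : Γ ⧸ S), c₂ (γ • α) (γ • β) = γ • c₂ α β := fun γ α β => by
    have e1 : F.st [γ • α, γ • β] = γ ⋆ F.st [α, β] := Fr.st_act (f := F) [α, β] (mem_top γ)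
    by_cases hq : Q' (F.st [α, β])
    · obtain ⟨h1, h2⟩ := K3 _ α γ hq (s1 α β)
      simp only [c₂, e1, if_pos hq, if_pos h1, h2, (K3 _ β γ hq (s2 α β)).2, smul_sub]
    · have hq' : ¬ Q' (F.st [γ • α, γ • β]) := fun h1 => hq (by
        have := (K3 _ _ γ⁻¹ h1 (s1 _ _)).1
        rwa [e1, inv_conj_conj] at this)
      simp only [c₂, if_neg hq, if_neg hq', smul_zero]
  have c2 : ∀ α β : Γ ⧸ S, c₂ α β ∈ fx W (F.st [α, β]) := fun α β γ hγ => by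
    rw [← c1, s1 α β γ hγ, s2 α β γ hγ]
  have c3 : ∀ (P'' : Subgroup Γ) (α β : Γ ⧸ S), Q' P'' → (∀ γ ∈ P'', γ • α = α) → (∀ γ ∈ P'', γ • β = β) →
      Q' (F.st [α, β]) ∧ c₂ α β = E P'' β - E P'' α := fun P'' α β hq h1 h2 => by
    obtain ⟨h3, h4⟩ := K2 (F.st [α, β]) P'' α β hq
      (fun γ hγ => fu_st_two.2 ⟨mem_top γ, h1 γ hγ, h2 γ hγ⟩) (s1 α β) (s2 α β)
    exact ⟨h3, by simp only [c₂, if_pos h3, h4]⟩
  obtain ⟨b', -, hb'⟩ := h S hS c' (fun l _ hn => by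
    obtain ⟨α, β, rfl⟩ := List.length_eq_two.1 hn
    refine ⟨c2 α β, fun γ _ => ?_⟩
    show c₂ (γ • α) (γ • β) - γ • c₂ α β ∈ _
    rw [c1, sub_self]
    exact zero_mem _) fun l _ hn => by
    obtain ⟨α, β, δ, rfl⟩ := List.length_eq_three.1 hn
    rw [fu_d_three]
    show c₂ β δ - (c₂ α δ - c₂ α β) ∈ Rf W Q' (F.st [α, β, δ])
    by_cases hq : Q' (F.st [α, β, δ])
    · have t1 : ∀ x ∈ [α, β, δ], ∀ γ ∈ F.st [α, β, δ], γ • x = x := fun x hx γ hγ => hγ.2 x hx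
      rw [fu_Rf_pos hq, (c3 _ β δ hq (t1 _ (by simp)) (t1 _ (by simp))).2,
        (c3 _ α δ hq (t1 _ (by simp)) (t1 _ (by simp))).2, (c3 _ α β hq (t1 _ (by simp)) (t1 _ (by simp))).2]
      abel
    · exact (fu_Rf_neg hq).2 (sub_mem (fx_anti (Fr.st_anti (by simp)) (c2 β δ))
        (sub_mem (fx_anti (Fr.st_anti (by simp)) (c2 α δ)) (fx_anti (Fr.st_anti (by simp)) (c2 α β))))
  have hs : ∀ x, ∃ g : f.H, x ∈ f.A → ∀ y ∈ f.st [x], y • (g : G) • x₀ = (g : G) • x₀ := fun x => by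
    by_cases hx : x ∈ f.A
    · have ho := Fr.ob_st (fu_in_one.2 hx) (by simp)
      obtain ⟨g, hg, hle⟩ := hT.conj_le ho.2.2 ho.2.1
      refine ⟨⟨g⁻¹, inv_mem hg⟩, fun _ y hy => ?_⟩
      have h1 := (fu_st_one.1 (hst.ge (hle (conj_mem_conj.2 hy)))).2
      rw [mul_smul, mul_smul] at h1
      exact eq_inv_smul_iff.2 h1
    · exact ⟨1, fun h1 => absurd h1 hx⟩
  choose s hs using hs
  refine ⟨fun x => ι (b' [ρ (s x)]) + c [(s x : G) • x₀, x], fun x hx z hz hq => ?_⟩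
  have hP := Fr.ob_st (fu_in_two.2 ⟨hx, hz⟩) (by simp)
  have m1 : x ∈ f.fixA (f.st [x, z]) := Fr.mem_fixA.2 ⟨hx, fun g hg => (fu_st_two.1 hg).2.1⟩
  have m2 : z ∈ f.fixA (f.st [x, z]) := Fr.mem_fixA.2 ⟨hz, fun g hg => (fu_st_two.1 hg).2.2⟩
  have m3 : (s x : G) • x₀ ∈ f.fixA (f.st [x, z]) :=
    Fr.mem_fixA.2 ⟨hA _, fun g hg => hs x hx g (Fr.st_anti (by simp) hg)⟩
  have m4 : (s z : G) • x₀ ∈ f.fixA (f.st [x, z]) :=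
    Fr.mem_fixA.2 ⟨hA _, fun g hg => hs z hz g (Fr.st_anti (by simp) hg)⟩
  obtain ⟨h1, h2⟩ := c3 _ _ _ ((hQQ _ hP).1 hq) (F1' _ _ m3) (F1' _ _ m4)
  have h3 := (fu_Rf_pos h1).1 (hb' [ρ (s x), ρ (s z)] (fun _ _ => by simp [topFr]) rfl)
  rw [fu_d_two, sub_eq_zero] at h3
  have h4 := congrArg ι (h2.symm.trans h3)
  rw [map_sub, map_sub, hE _ _ _ _ hP hq m3 rfl rfl, hE _ _ _ _ hP hq m4 rfl rfl] at h4
  beta_reduce
  rw [he1 _ hP hq _ m1 _ m2, he1 _ hP hq _ m3 _ m1, he1 _ hP hq _ m4 _ m2, add_sub_add_comm, ← h4]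
  abel

end Cfsg.Lib.LK
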