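import Cfsg.Agent.Lib.LK.LES

set_option autoImplicit false

namespace Cfsg.Lib.LK

open Subgroup Cfsg.Lib.Transfer
open scoped commutatorElement

variable {p : ℕ} {G Ω D : Type*} [Group G] [MulAction G Ω] [AddCommGroup D] [DistribMulAction G D]
  {f : Fr p G Ω} {N O M N' O' : Subgroup G → AddSubgroup D} {Q : Subgroup G → Prop} {k : ℕ}

/-- `O` where `δ ≥ m`, `N` where `δ < m` -/
noncomputable def lev (δ : Subgroup G → ℕ) (m : ℕ) (O N : Subgroup G → AddSubgroup D) :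
    Subgroup G → AddSubgroup D := ite' (fun P => m ≤ δ P) O N

theorem up_lev {δ : Subgroup G → ℕ} (h1 : ∀ P Q, f.Ob P → f.Ob Q → P ≤ Q → δ P ≤ δ Q)
    (h2 : ∀ P, f.Ob P → ∀ g ∈ f.H, δ (g ⋆ P) = δ P) (m : ℕ) : Up f (fun P => m ≤ δ P) :=
  ⟨fun P P' hP hP' hle h => h.trans (h1 P P' hP hP' hle), fun P hP g hg h => (h2 P hP g hg).symm ▸ h⟩

theorem lev_of_le {δ : Subgroup G → ℕ} {m : ℕ} {P : Subgroup G} (h : m ≤ δ P) : lev δ m O N P = O P :=
  ite'_pos (Q := fun P => m ≤ δ P) h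

theorem lev_of_lt {δ : Subgroup G → ℕ} {m : ℕ} {P : Subgroup G} (h : δ P < m) : lev δ m O N P = N P :=
  ite'_neg (Q := fun P => m ≤ δ P) h.not_ge

/-- induction on `m` with `van_L1`: `Van f (lev δ m O N) O k`; `lev δ 0 = O`, and `lev δ m = N` on
objects for `m` large (finitely many subgroups) -/
theorem van_lev [Finite G] (hS : Sys f N O) (hk : 1 ≤ k) (δ : Subgroup G → ℕ)
    (h1 : ∀ P Q, f.Ob P → f.Ob Q → P ≤ Q → δ P ≤ δ Q)
    (h2 : ∀ P, f.Ob P → ∀ g ∈ f.H, δ (g ⋆ P) = δ P)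
    (h : ∀ m, Van f (lev δ (m + 1) O N) (lev δ m O N) k) : Van f N O k := by
  have hF : ∀ m, Fam f (lev δ m O N) := fun m => fam_ite' (up_lev h1 h2 m) hS.fO hS.fN hS.le
  have hL : ∀ m, Le f O (lev δ m O N) ∧ Le f (lev δ m O N) N := fun m => le_ite' _ hS.le
  have key : ∀ m, Van f (lev δ m O N) O k := fun m => by
    induction m with
    | zero => exact van_of_le fun P _ => (lev_of_le (Nat.zero_le _)).le
    | succ m ih =>
      refine van_L1 (hS.mid (hF _) (hL _).1 (hL _).2).2 (hF m) (hL m).1 (fun P hP => ?_) hk (h m) ih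
      rcases lt_or_ge (δ P) m with e | e
      · rw [lev_of_lt e, lev_of_lt (Nat.lt_succ_of_lt e)]
      · rw [lev_of_le e]
        exact (hL _).1 P hP
  obtain ⟨m, hm⟩ := (Set.finite_range δ).bddAbove
  exact (key (m + 1)).congr hk (fun P _ => lev_of_lt (Nat.lt_succ_of_le (hm ⟨P, rfl⟩))) fun _ _ => rfl

theorem Cl.le_normalizer {j : Subgroup G → Subgroup G} (hj : Cl f j) {P : Subgroup G} (hP : f.Ob P) :
    P ≤ normalizer ((j P : Subgroup G) : Set G) := fun g hg =>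
  conj_eq_self_iff.1 (by rw [← hj.cj P hP g (hP.2.1 hg), conj_eq_self_of_mem hg])

theorem Cl.ob {j : Subgroup G → Subgroup G} (hj : Cl f j) {P : Subgroup G} (hP : f.Ob P) : f.Ob (j P) :=
  hP.of_le (hj.ge P hP) (hj.le P hP)

theorem Cl.le_of_eq {j : Subgroup G → Subgroup G} (hj : Cl f j) {X P : Subgroup G} (hX : f.Ob X) (e : j X = X)
    (hP : f.Ob P) (h : X ≤ P) : X ≤ j P := e.ge.trans (hj.mono X P hX hP h)

theorem Fr.Ob.inf_normalizer {X P : Subgroup G} (hX : f.Ob X) (hP : f.Ob P) (h : X ≤ P) :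
    f.Ob (P ⊓ normalizer (X : Set G)) :=
  hP.of_le (hX.1.trans (le_inf h Subgroup.le_normalizer)) inf_le_left

theorem Cl.eq_of_inf [Finite G] [Fact p.Prime] {j : Subgroup G → Subgroup G} (hj : Cl f j) {X P : Subgroup G}
    (hX : f.Ob X) (hP : f.Ob P) (h : X ≤ P) (e : j (P ⊓ normalizer (X : Set G)) = X) : j P = X := by
  rcases (inf_le_left : P ⊓ normalizer (X : Set G) ≤ P).eq_or_lt with h1 | h1
  · rw [← h1, e]
  · refine absurd (le_inf inf_le_left fun g hg => conj_eq_self_iff.1 ?_) (lt_inf_normalizer_of_lt hP.2.2 h1).not_ge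
    conv_lhs => rw [← e]
    rw [← hj.cj _ (hX.inf_normalizer hP h) g (hP.2.1 hg.1), conj_eq_self_iff.2 hg.2, e]

/-- the local solution -/
theorem exists_loc_sol [Finite G] [Fact p.Prime] (hS : Sys f N O) {j : Subgroup G → Subgroup G}
    (hj : Cl f j) {X : Subgroup G} (hX : f.Ob X) (e : j X = X)
    (h : Van (f.loc X hX) (ite' (fun P => j P ≠ X) O N) O k) {c : List Ω → D}
    (hc : Eqv f (lev (fun P => Nat.card (j P)) (Nat.card X + 1) O N)
      (lev (fun P => Nat.card (j P)) (Nat.card X) O N) (k + 1) c)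
    (hd : ∀ l, f.In l → l.length = k + 2 → d c l ∈ lev (fun P => Nat.card (j P)) (Nat.card X) O N (f.st l)) :
    ∃ b : List Ω → D, (∀ l, f.In l → X ≤ f.st l → l.length = k →
      b l ∈ ite' (fun P => j P ≠ X) O N (f.st l ⊓ normalizer (X : Set G)) ∧
        ∀ g ∈ f.H, g ⋆ X = X → b (act g l) - g • b l ∈ O (f.st (act g l) ⊓ normalizer (X : Set G))) ∧
      ∀ l, f.In l → X ≤ f.st l → l.length = k + 1 → c l - d b l ∈ O (f.st l ⊓ normalizer (X : Set G)) := by
  have hO : ∀ P, f.Ob P → X ≤ P → lev (fun P => Nat.card (j P)) (Nat.card X) O N P ≤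
      O (P ⊓ normalizer (X : Set G)) := fun P hP hle => by
    rw [lev_of_le (card_le_of_le (hj.le_of_eq hX e hP hle))]
    exact hS.fO.anti _ _ (hX.inf_normalizer hP hle) hP inf_le_left
  refine (h c (fun l hl hn => ?_) fun l hl hn => ?_).imp fun b ⟨h1, h2⟩ =>
    ⟨fun l hl hle hn => ?_, fun l hl hle hn => ?_⟩
  rotate_left 2
  · obtain ⟨h3, h4⟩ := h1 l (Fr.in_loc.2 ⟨hl, hle⟩) hn
    rw [Fr.st_loc] at h3
    refine ⟨h3, fun g hg hg' => ?_⟩
    rw [← Fr.st_loc (hX := hX)]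
    exact h4 g ⟨hg, conj_eq_self_iff.1 hg'⟩
  · rw [← Fr.st_loc (hX := hX)]
    exact h2 l (Fr.in_loc.2 ⟨hl, hle⟩) hn
  · obtain ⟨hl1, hl2⟩ := Fr.in_loc.1 hl
    have hP := Fr.ob_st' hl1 hn (Nat.le_add_left 1 k)
    obtain ⟨h3, h4⟩ := hc l hl1 hn
    refine ⟨?_, fun g hg => ?_⟩
    · rw [Fr.st_loc]
      rcases (hj.le_of_eq hX e hP hl2).eq_or_lt with h5 | h5
      · have h6 := hj.le_normalizer hP
        rw [← h5] at h6
        rw [inf_eq_left.2 h6, ite'_neg (Q := fun P => j P ≠ X) (not_not.2 h5.symm)]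
        rwa [lev_of_lt (by rw [← h5]; exact Nat.lt_succ_self _)] at h3
      · rw [lev_of_le (card_lt_of_lt h5)] at h3
        have h6 := hX.inf_normalizer hP hl2
        exact (le_ite' _ hS.le).1 _ h6 (hS.fO.anti _ _ h6 hP inf_le_left h3)
    · rw [Fr.st_loc]
      obtain ⟨h5, h6⟩ := Fr.in_loc.1 (hl.act hg)
      exact hO _ (Fr.ob_st' h5 ((length_act g l).trans hn) (Nat.le_add_left 1 k)) h6 (h4 g hg.1)
  · obtain ⟨hl1, hl2⟩ := Fr.in_loc.1 hl
    rw [Fr.st_loc]
    exact hO _ (Fr.ob_st' hl1 hn (Nat.le_add_left 1 (k + 1))) hl2 (hd l hl1 hn)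

theorem exists_rep (H : Subgroup G) : ∃ (r : Subgroup G → Subgroup G) (t : Subgroup G → G),
    (∀ X, t X ∈ H ∧ t X ⋆ r X = X) ∧ ∀ X, ∀ g ∈ H, r (g ⋆ X) = r X := by
  let r : Subgroup G → Subgroup G := fun X => Classical.epsilon fun X' => ∃ t ∈ H, t ⋆ X' = X
  have h1 : ∀ X, ∃ t ∈ H, t ⋆ r X = X := fun X =>
    Classical.epsilon_spec (p := fun X' => ∃ t ∈ H, t ⋆ X' = X) ⟨X, 1, one_mem _, conj_one X⟩
  choose t ht using h1
  refine ⟨r, t, ht, fun X g hg => congrArg Classical.epsilon (funext fun X' => propext ⟨?_, ?_⟩)⟩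
  · rintro ⟨s, hs, e⟩
    exact ⟨g⁻¹ * s, mul_mem (inv_mem hg) hs, by rw [← conj_conj, e, inv_conj_conj]⟩
  · rintro ⟨s, hs, e⟩
    exact ⟨g * s, mul_mem hg hs, by rw [← conj_conj, e]⟩

/-- One layer.  Let `c` be a cocycle.  For `X = j X` of order `m` it is a cocycle of the local slice
(`in_loc`, `st_loc`: lists in the local frame have `X ≤ st l`, so `|j (st l)| ≥ m`; if
`j (st l) = X` then `st l ≤ N(X)` by `cj`; if `j (st l ⊓ N X) = X` then `j (st l) = X`, because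
`N_{st l}(st l ⊓ N X)` normalizes `X`, `lt_inf_normalizer_of_lt`), giving `b_X`.  Choose a
representative `X₀` of each `H`-class and `h_X ∈ H` with `h_X ⋆ X₀ = X`; put
`b l = h_X • b_{X₀} (act h_X⁻¹ l)` if `X = j (st l)` has order `m`, else `0`.  For a face `l'` of `l`
with `j (st l) = X` and `j (st l') ≠ X`: `b l' = 0` and the local value lies in
`O (st l' ⊓ N X) ≤ O (st l)`. -/
theorem van_layer [Finite G] [Fact p.Prime] (hS : Sys f N O) {j : Subgroup G → Subgroup G}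
    (hj : Cl f j) (hk : 1 ≤ k) (m : ℕ)
    (h : ∀ X (hX : f.Ob X), j X = X → Van (f.loc X hX) (ite' (fun P => j P ≠ X) O N) O k) :
    Van f (lev (fun P => Nat.card (j P)) (m + 1) O N) (lev (fun P => Nat.card (j P)) m O N) k := by
  classical
  intro c hc hd
  have key : ∀ X : Subgroup G, ∃ b : List Ω → D, f.Ob X → j X = X → Nat.card X = m →
      (∀ l, f.In l → X ≤ f.st l → l.length = k →
        b l ∈ ite' (fun P => j P ≠ X) O N (f.st l ⊓ normalizer (X : Set G)) ∧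
          ∀ g ∈ f.H, g ⋆ X = X → b (act g l) - g • b l ∈ O (f.st (act g l) ⊓ normalizer (X : Set G))) ∧
        ∀ l, f.In l → X ≤ f.st l → l.length = k + 1 → c l - d b l ∈ O (f.st l ⊓ normalizer (X : Set G)) := by
    intro X
    by_cases hX : f.Ob X ∧ j X = X ∧ Nat.card X = m
    · obtain ⟨hX, e, rfl⟩ := hX
      obtain ⟨b, hb⟩ := exists_loc_sol hS hj hX e (h X hX e) hc hd
      exact ⟨b, fun _ _ _ => hb⟩
    · exact ⟨0, fun h1 h2 h3 => absurd ⟨h1, h2, h3⟩ hX⟩
  choose B hB using key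
  obtain ⟨r, t, ht, hr⟩ := exists_rep f.H
  have hrX : ∀ X, r X = (t X)⁻¹ ⋆ X := fun X => conj_eq_iff_eq_inv_conj.1 (ht X).2
  have hB' := fun X (hX : f.Ob X) (e : j X = X) (hm : Nat.card X = m) => hB (r X)
    (hrX X ▸ hX.conj (inv_mem (ht X).1)) (by rw [hrX, hj.cj X hX _ (inv_mem (ht X).1), e])
    (by rw [hrX, card_conj, hm])
  -- pulling a list back to the representative
  have hback : ∀ X l, f.In l → X ≤ f.st l → f.In (act (t X)⁻¹ l) ∧ r X ≤ f.st (act (t X)⁻¹ l) ∧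
      t X ⋆ (f.st (act (t X)⁻¹ l) ⊓ normalizer ((r X : Subgroup G) : Set G)) =
        f.st l ⊓ normalizer (X : Set G) := fun X l hl hle => by
    refine ⟨hl.act (inv_mem (ht X).1), ?_, ?_⟩
    · rw [Fr.st_act l (inv_mem (ht X).1), hrX]
      exact conj_mono _ hle
    · rw [conj_inf, conj_normalizer, (ht X).2, Fr.st_act l (inv_mem (ht X).1), conj_inv_conj]
  have hob : ∀ X l, f.Ob X → f.In l → X ≤ f.st l → 1 ≤ l.length →
      f.Ob (f.st (act (t X)⁻¹ l) ⊓ normalizer ((r X : Subgroup G) : Set G)) := fun X l hX hl hle hn =>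
    Fr.Ob.inf_normalizer (hrX X ▸ hX.conj (inv_mem (ht X).1))
      (Fr.ob_st' (hback X l hl hle).1 (length_act _ l) hn) (hback X l hl hle).2.1
  let b' : Subgroup G → List Ω → D := fun X l => t X • B (r X) (act (t X)⁻¹ l)
  have hb1 : ∀ X, f.Ob X → j X = X → Nat.card X = m → ∀ l, f.In l → X ≤ f.st l → l.length = k →
      b' X l ∈ ite' (fun P => j P ≠ X) O N (f.st l ⊓ normalizer (X : Set G)) := by
    intro X hX e hm l hl hle hn
    obtain ⟨h1, h2, h3⟩ := hback X l hl hle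
    have h4 := ((hB' X hX e hm).1 _ h1 h2 ((length_act _ l).trans hn)).1
    have h5 := hob X l hX hl hle (hn ▸ hk)
    have h6 := hj.cj _ h5 _ (ht X).1
    rw [← h3]
    by_cases h7 : j (f.st (act (t X)⁻¹ l) ⊓ normalizer ((r X : Subgroup G) : Set G)) = r X
    · rw [ite'_neg (Q := fun P => j P ≠ r X) (not_not.2 h7)] at h4
      rw [ite'_neg (Q := fun P => j P ≠ X) (not_not.2 (by rw [h6, h7, (ht X).2]))]
      exact hS.fN.eqv _ h5 _ (ht X).1 _ h4
    · rw [ite'_pos (Q := fun P => j P ≠ r X) h7] at h4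
      rw [ite'_pos (Q := fun P => j P ≠ X) fun h8 => h7 (conj_inj.1 (h6.symm.trans (h8.trans (ht X).2.symm)))]
      exact hS.fO.eqv _ h5 _ (ht X).1 _ h4
  have hb2 : ∀ X, f.Ob X → j X = X → Nat.card X = m → ∀ l, f.In l → X ≤ f.st l → l.length = k →
      ∀ g ∈ f.H, b' (g ⋆ X) (act g l) - g • b' X l ∈
        O (f.st (act g l) ⊓ normalizer ((g ⋆ X : Subgroup G) : Set G)) := by
    intro X hX e hm l hl hle hn g hg
    obtain ⟨h1, h2, -⟩ := hback X l hl hle
    have hle' : g ⋆ X ≤ f.st (act g l) := by rw [Fr.st_act l hg]; exact conj_mono g hle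
    obtain ⟨-, -, h3⟩ := hback (g ⋆ X) (act g l) (hl.act hg) hle'
    have h4 := ((hB' X hX e hm).1 _ h1 h2 ((length_act _ l).trans hn)).2 ((t (g ⋆ X))⁻¹ * g * t X)
      (mul_mem (mul_mem (inv_mem (ht _).1) hg) (ht X).1)
      (by rw [← conj_conj, (ht X).2, ← conj_conj, ← hrX, hr X g hg])
    have h5 := hob (g ⋆ X) (act g l) (hX.conj hg) (hl.act hg) hle' ((length_act g l).trans hn ▸ hk)
    rw [act_act, mul_inv_cancel_right, ← act_act, ← hr X g hg] at h4
    have h6 := hS.fO.eqv _ h5 _ (ht (g ⋆ X)).1 _ h4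
    rw [h3, smul_sub, mul_smul, mul_smul, smul_inv_smul] at h6
    simpa only [b', hr X g hg] using h6
  have hb3 : ∀ l, f.In l → l.length = k + 1 → Nat.card (j (f.st l)) = m →
      c l - d (b' (j (f.st l))) l ∈ O (f.st l) := by
    intro l hl hn hm
    have hP := Fr.ob_st' hl hn (Nat.le_add_left 1 k)
    obtain ⟨h1, h2, h3⟩ := hback _ l hl (hj.le _ hP)
    have h4 := (hB' _ (hj.ob hP) (hj.idem _ hP) hm).2 _ h1 h2 ((length_act _ l).trans hn)
    have h5 := hS.fO.eqv _ (hob _ l (hj.ob hP) hl (hj.le _ hP) (hn ▸ Nat.le_add_left 1 k)) _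
      (ht (j (f.st l))).1 _ h4
    rw [h3, inf_eq_left.2 (hj.le_normalizer hP), smul_sub] at h5
    have h6 := (hc _ h1 ((length_act _ l).trans hn)).2 _ (ht (j (f.st l))).1
    rw [act_act, mul_inv_cancel, act_one, lev_of_le hm.ge] at h6
    have h7 : d (b' (j (f.st l))) l = t (j (f.st l)) • d (B (r (j (f.st l)))) (act (t (j (f.st l)))⁻¹ l) := by
      rw [act, d_lmap]
      exact d_map (DistribSMul.toAddMonoidHom D (t (j (f.st l)))) _ l
    rw [h7]
    simpa using add_mem h6 h5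
  let b : List Ω → D := fun l => if Nat.card (j (f.st l)) = m then b' (j (f.st l)) l else 0
  have hb : ∀ l, f.In l → l.length = k → b l ∈ lev (fun P => Nat.card (j P)) (m + 1) O N (f.st l) := by
    intro l hl hn
    have hP := Fr.ob_st' hl hn hk
    by_cases hm : Nat.card (j (f.st l)) = m
    · have := hb1 _ (hj.ob hP) (hj.idem _ hP) hm l hl (hj.le _ hP) hn
      rw [inf_eq_left.2 (hj.le_normalizer hP), ite'_neg (Q := fun P => j P ≠ j (f.st l)) (not_not.2 rfl)] at this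
      rw [lev_of_lt (hm.trans_lt m.lt_succ_self)]
      simpa only [b, if_pos hm] using this
    · simp only [b, if_neg hm, zero_mem]
  refine ⟨b, fun l hl hn => ⟨hb l hl hn, fun g hg => ?_⟩, fun l hl hn => ?_⟩
  · have hP := Fr.ob_st' hl hn hk
    have e : j (f.st (act g l)) = g ⋆ j (f.st l) := by rw [Fr.st_act l hg, hj.cj _ hP g hg]
    by_cases hm : Nat.card (j (f.st l)) = m
    · have hm' : Nat.card (j (f.st (act g l))) = m := by rw [e, card_conj, hm]
      have := hb2 _ (hj.ob hP) (hj.idem _ hP) hm l hl (hj.le _ hP) hn g hg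
      rw [← e, inf_eq_left.2 (hj.le_normalizer (Fr.ob_st' (hl.act hg) ((length_act g l).trans hn) hk))] at this
      rw [lev_of_le hm'.ge]
      simpa only [b, if_pos hm, if_pos hm'] using this
    · have hm' : ¬ Nat.card (j (f.st (act g l))) = m := by rwa [e, card_conj]
      simp only [b, if_neg hm, if_neg hm', smul_zero, sub_zero, zero_mem]
  · have hP := Fr.ob_st' hl hn (Nat.le_add_left 1 k)
    have hface : ∀ l' : List Ω, l'.Sublist l → l'.length + 1 = l.length →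
        l'.length = k ∧ f.Ob (f.st l') ∧ j (f.st l) ≤ j (f.st l') := fun l' h1 h2 => by
      have h3 : l'.length = k := by omega
      have h4 := Fr.ob_st' (hl.sub h1) h3 hk
      exact ⟨h3, h4, hj.mono _ _ hP h4 (Fr.st_sub h1)⟩
    have h0 := (hc l hl hn).1
    rcases lt_trichotomy (Nat.card (j (f.st l))) m with hm | hm | hm
    · rw [lev_of_lt (Nat.lt_succ_of_lt hm)] at h0
      rw [lev_of_lt hm]
      refine sub_mem h0 (d_mem _ b l fun l' h1 h2 => ?_)
      obtain ⟨h3, h4, -⟩ := hface l' h1 h2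
      exact hS.fN.anti _ _ hP h4 (Fr.st_sub h1) ((le_ite' _ hS.le).2 _ h4 (hb l' (hl.sub h1) h3))
    · rw [lev_of_le hm.ge, ← sub_add_sub_cancel _ (d (b' (j (f.st l))) l)]
      refine add_mem (hb3 l hl hn hm) (d_sub_mem _ _ _ l fun l' h1 h2 => ?_)
      obtain ⟨h3, h4, h5⟩ := hface l' h1 h2
      by_cases hm' : Nat.card (j (f.st l')) = m
      · simp only [b, if_pos hm', ← eq_of_le_of_card_ge h5 (hm'.trans hm.symm).le, sub_self, zero_mem]
      · have h6 := (hj.le _ hP).trans (Fr.st_sub h1)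
        have h7 := hb1 _ (hj.ob hP) (hj.idem _ hP) hm l' (hl.sub h1) h6 h3
        rw [ite'_pos (Q := fun P => j P ≠ j (f.st l)) fun h8 =>
          hm' (by rw [hj.eq_of_inf (hj.ob hP) h4 h6 h8, hm])] at h7
        simp only [b, if_neg hm', sub_zero]
        exact hS.fO.anti _ _ hP ((hj.ob hP).inf_normalizer h4 h6)
          (le_inf (Fr.st_sub h1) (hj.le_normalizer hP)) h7
    · rw [lev_of_le hm] at h0
      rw [lev_of_le hm.le]
      refine sub_mem h0 (d_mem _ b l fun l' h1 h2 => ?_)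
      obtain ⟨-, -, h5⟩ := hface l' h1 h2
      simp only [b, if_neg (hm.trans_le (card_le_of_le h5)).ne', zero_mem]

/-- the filtration lemma: `van_lev` and `van_layer` -/
theorem van_FL [Finite G] [Fact p.Prime] (hS : Sys f N O) {j : Subgroup G → Subgroup G}
    (hj : Cl f j) (hk : 1 ≤ k)
    (h : ∀ X (hX : f.Ob X), j X = X → Van (f.loc X hX) (ite' (fun P => j P ≠ X) O N) O k) :
    Van f N O k :=
  van_lev hS hk (fun P => Nat.card (j P)) (fun P Q hP hQ hle => card_le_of_le (hj.mono P Q hP hQ hle))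
    (fun P hP g hg => by simp only [hj.cj P hP g hg, card_conj]) fun m => van_layer hS hj hk m h

end Cfsg.Lib.LK
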