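import Cfsg.Agent.Lib.LK.Amb
import Cfsg.Agent.Lib.LK.Full

set_option autoImplicit false

namespace Cfsg.Lib.LK

open Subgroup Cfsg.Lib.Transfer
open scoped commutatorElement

variable {p : ℕ} {G Ω : Type*} [Group G] [MulAction G Ω] {f : Fr p G Ω} {k : ℕ}
  {B : Type*} [AddCommGroup B] {ι : B → G}

theorem h1_rep (G X : Type*) [Group G] [MulAction G X] : ∃ (r : X → X) (τ : X → G),
    (∀ x, τ x • r x = x) ∧ ∀ (g : G) x, r (g • x) = r x := by
  have h : ∀ x : X, ∃ g : G, g • (Quotient.mk (MulAction.orbitRel G X) x).out = x := fun x =>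
    MulAction.orbitRel_apply.1 (Quotient.exact (Quotient.out_eq (Quotient.mk (MulAction.orbitRel G X) x)).symm)
  choose τ hτ using h
  refine ⟨_, τ, hτ, fun g x => congrArg Quotient.out (Quotient.sound ?_)⟩
  exact MulAction.orbitRel_apply.2 ⟨g, rfl⟩

/-- Extension to the action groupoid.  Choose a representative `x₀` of each orbit and `τ x` with
`τ x • x₀ = x`; `Γ g x = z x₀ ((τ (g x))⁻¹ g (τ x))`. -/
theorem exists_groupoid {X : Type*} [MulAction G X] (s : Set X) (hs : ∀ (g : G), ∀ x ∈ s, g • x ∈ s)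
    (z : X → G → B) (h1 : ∀ x ∈ s, ∀ u v : G, u • x = x → v • x = x → z x (u * v) = z x u + z x v)
    (h2 : ∀ x ∈ s, ∀ g u : G, u • x = x → z (g • x) (g * u * g⁻¹) = z x u) :
    ∃ Γ : G → X → B, (∀ x ∈ s, ∀ g h : G, Γ (g * h) x = Γ g (h • x) + Γ h x) ∧
      ∀ x ∈ s, ∀ u : G, u • x = x → Γ u x = z x u := by
  obtain ⟨r, τ, hτ, hr⟩ := h1_rep G X
  have hrs : ∀ x ∈ s, r x ∈ s := fun x hx => by
    have := hs (τ x)⁻¹ x hx
    rwa [inv_smul_eq_iff.2 (hτ x).symm] at this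
  have hw : ∀ (g : G) x, ((τ (g • x))⁻¹ * g * τ x) • r x = r x := fun g x => by
    rw [mul_smul, mul_smul, hτ, inv_smul_eq_iff, ← hr g x, hτ]
  refine ⟨fun g x => z (r x) ((τ (g • x))⁻¹ * g * τ x), fun x hx g h => ?_, fun x hx u hu => ?_⟩
  · have a := hw g (h • x)
    rw [hr] at a
    simp only [hr]
    rw [← h1 _ (hrs x hx) _ _ a (hw h x), mul_smul]
    congr 1
    group
  · have a := h2 _ (hrs x hx) (τ x) _ (hw u x)
    rw [hτ, hu] at a
    simp only [hu]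
    rw [← a]
    congr 1
    group

/-- a groupoid homomorphism trivial on vertex groups is a difference of potentials -/
theorem exists_pot {X : Type*} [MulAction G X] (s : Set X) (hs : ∀ (g : G), ∀ x ∈ s, g • x ∈ s)
    (Γ : G → X → B) (h1 : ∀ x ∈ s, ∀ g h : G, Γ (g * h) x = Γ g (h • x) + Γ h x)
    (h2 : ∀ x ∈ s, ∀ u : G, u • x = x → Γ u x = 0) :
    ∃ a : X → B, ∀ x ∈ s, ∀ g : G, Γ g x = a (g • x) - a x := by
  obtain ⟨r, τ, hτ, hr⟩ := h1_rep G X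
  have hrs : ∀ x ∈ s, r x ∈ s := fun x hx => by
    have := hs (τ x)⁻¹ x hx
    rwa [inv_smul_eq_iff.2 (hτ x).symm] at this
  have hw : ∀ (g : G) x, ((τ (g • x))⁻¹ * g * τ x) • r x = r x := fun g x => by
    rw [mul_smul, mul_smul, hτ, inv_smul_eq_iff, ← hr g x, hτ]
  refine ⟨fun x => Γ (τ x) (r x), fun x hx g => ?_⟩
  have a := h1 _ (hrs x hx) g (τ x)
  have b := h1 _ (hrs x hx) (τ (g • x)) ((τ (g • x))⁻¹ * g * τ x)
  rw [hw, h2 _ (hrs x hx) _ (hw g x), add_zero,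
    show τ (g • x) * ((τ (g • x))⁻¹ * g * τ x) = g * τ x by group, a, hτ] at b
  simp only [hr]
  exact eq_sub_of_add_eq b

/-- Transfer.  `Γ` from `exists_groupoid` on pairs of points of `A`, `z (x, y) = c [x, y]`;
`b [y] u = m • ∑ x ∈ A, Γ u (x, y)`, `m |A| = 1` (`exists_inv`).  Additive on `st [y]`, zero on `ι b`
(it fixes `A`), equivariant (reindex the sums).  `Γ u (x, y) + Γ u (y, y') - Γ u (x, y')` is trivial
on vertex groups, so `exists_pot` on triples makes its sum over `x` zero for `u ∈ st [y, y']`. -/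
theorem van_H1 [Fact p.Prime] (h : Ce p ι) (hH : f.H = ⊤) (hY : f.Y = h.A) :
    Van f (nH ι) (o1 B) 1 := by
  intro c hc hd
  have mH : ∀ g : G, g ∈ f.H := fun g => hH ▸ mem_top g
  have re : ∀ (g : G) (F : Ω → B), ∑ x ∈ f.A, F (g • x) = ∑ x ∈ f.A, F x := fun g F =>
    (fu_sum_act (fu_smul_A (mH g)) F).symm
  have st2 : ∀ {x y : Ω} {u : G}, u • (x, y) = (x, y) → u ∈ f.st [x, y] := fun e =>
    fu_st_two.2 ⟨mH _, congrArg Prod.fst e, congrArg Prod.snd e⟩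
  obtain ⟨Γ, g1, g2⟩ := exists_groupoid (G := G) (B := B) {t : Ω × Ω | t.1 ∈ f.A ∧ t.2 ∈ f.A}
    (fun g t ht => ⟨f.inv g (mH g) _ ht.1, f.inv g (mH g) _ ht.2⟩) (fun t => c [t.1, t.2])
    (fun t ht u v hu hv => (hc _ (fu_in_two.2 ht) rfl).1.1 u (st2 hu) v (st2 hv))
    (fun t ht g u hu => by
      have a := (hc _ (fu_in_two.2 ht) rfl).2 g (mH g) (g * u * g⁻¹) (by
        rw [Fr.st_act _ (mH g)]
        exact mem_conj.2 (by simpa [mul_assoc] using st2 hu))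
      rw [Fn.sub_apply, Fn.smul_apply, sub_eq_zero, show g⁻¹ * (g * u * g⁻¹) * g = u by group] at a
      exact a)
  replace g1 : ∀ {x y : Ω}, x ∈ f.A → y ∈ f.A → ∀ g h : G,
      Γ (g * h) (x, y) = Γ g (h • x, h • y) + Γ h (x, y) := fun a b => g1 _ ⟨a, b⟩
  replace g2 : ∀ {x y : Ω}, x ∈ f.A → y ∈ f.A → ∀ {u : G}, u • x = x → u • y = y →
      Γ u (x, y) = c [x, y] u := fun a b u e e' => g2 _ ⟨a, b⟩ u (Prod.ext e e')
  obtain ⟨a, ha⟩ := exists_pot (G := G) (B := B) {t : Ω × Ω × Ω | t.1 ∈ f.A ∧ t.2.1 ∈ f.A ∧ t.2.2 ∈ f.A}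
    (fun g t ht => ⟨f.inv g (mH g) _ ht.1, f.inv g (mH g) _ ht.2.1, f.inv g (mH g) _ ht.2.2⟩)
    (fun g t => Γ g (t.1, t.2.1) + Γ g (t.2.1, t.2.2) - Γ g (t.1, t.2.2))
    (fun t ht g g' => by
      rw [g1 ht.1 ht.2.1, g1 ht.2.1 ht.2.2, g1 ht.1 ht.2.2]
      simp only [Prod.smul_fst, Prod.smul_snd]
      abel)
    (fun t ht u hu => by
      have e1 : u • t.1 = t.1 := congrArg Prod.fst hu
      have e2 : u • t.2.1 = t.2.1 := congrArg (fun t => t.2.1) hu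
      have e3 : u • t.2.2 = t.2.2 := congrArg (fun t => t.2.2) hu
      have b := hd [t.1, t.2.1, t.2.2] (fu_in_cons.2 ⟨ht.1, fu_in_two.2 ht.2⟩) rfl u
        ⟨mH u, by simp [e1, e2, e3]⟩
      rw [fu_d_three, Fn.sub_apply, Fn.sub_apply] at b
      rw [g2 ht.1 ht.2.1 e1 e2, g2 ht.2.1 ht.2.2 e2 e3, g2 ht.1 ht.2.2 e1 e3, ← b]
      abel)
  obtain ⟨m, hm⟩ := exists_inv h.pt f.card
  obtain ⟨b, hb⟩ : ∃ b : List Ω → Fn G B, ∀ y u, b [y] u = m • ∑ x ∈ f.A, Γ u (x, y) :=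
    ⟨fun l u => m • ∑ x ∈ f.A, (l.map fun y => Γ u (x, y)).sum, fun y u => by simp⟩
  refine ⟨b, fun l hl e => ?_, fun l hl e => ?_⟩
  · obtain ⟨y, rfl⟩ := List.length_eq_one_iff.1 e
    have hy := fu_in_one.1 hl
    refine ⟨⟨fun u hu v hv => ?_, fun b => ?_⟩, fun g _ u hu => ?_⟩
    · rw [hb, hb, hb, ← smul_add, ← re v fun x => Γ u (x, y), ← Finset.sum_add_distrib]
      refine congrArg _ (Finset.sum_congr rfl fun x hx => ?_)
      rw [g1 hx hy, (fu_st_one.1 hv).2]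
    · rw [hb, Finset.sum_eq_zero fun x hx => ?_, smul_zero]
      have hb : ι b ∈ f.Y := hY ▸ h.mem_A.2 ⟨b, rfl⟩
      rw [g2 hx hy (f.Yfix x hx _ hb) (f.Yfix y hy _ hb)]
      exact (hc _ (fu_in_two.2 ⟨hx, hy⟩) rfl).1.2 b
    · rw [Fn.sub_apply, Fn.smul_apply, sub_eq_zero, act_cons, act_nil, hb, hb]
      have e' : (g⁻¹ * u * g) • y = y := by
        rw [mul_smul, mul_smul, (fu_st_one.1 hu).2, inv_smul_smul]
      have k : ∀ x ∈ f.A, Γ u (g • x, g • y) + Γ g (x, y) =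
          Γ g ((g⁻¹ * u * g) • x, y) + Γ (g⁻¹ * u * g) (x, y) := fun x hx => by
        have a := g1 hx hy g (g⁻¹ * u * g)
        rwa [e', show g * (g⁻¹ * u * g) = u * g by group, g1 hx hy] at a
      have k' := Finset.sum_congr rfl k
      rw [Finset.sum_add_distrib, Finset.sum_add_distrib, re g fun x => Γ u (x, g • y),
        re _ fun x => Γ g (x, y), add_comm] at k'
      rw [add_left_cancel k']
  · obtain ⟨y, y', rfl⟩ := List.length_eq_two.1 e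
    obtain ⟨hy, hy'⟩ := fu_in_two.1 hl
    intro u hu
    obtain ⟨-, e1, e2⟩ := fu_st_two.1 hu
    rw [fu_d_two, Fn.sub_apply, Fn.sub_apply, hb, hb]
    have k := Finset.sum_congr rfl fun x hx => ha (x, y, y') ⟨hx, hy, hy'⟩ u
    simp only [Prod.smul_mk, e1, e2, Finset.sum_sub_distrib, Finset.sum_add_distrib, Finset.sum_const] at k
    rw [re u fun x => a (x, y, y'), sub_self, g2 hy hy' e1 e2] at k
    rw [← hm (c [y, y'] u), ← smul_sub, ← smul_sub, ← smul_zero m, ← k]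
    congr 1
    abel

end Cfsg.Lib.LK
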