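import Cfsg.Agent.Lib.LK.C0d
import Cfsg.Agent.Lib.LK.H1

set_option autoImplicit false

namespace Cfsg.Lib.LK

open Subgroup Cfsg.Lib.Transfer
open scoped commutatorElement

variable {p : ℕ} {G Ω : Type*} [Group G] [MulAction G Ω] {f : Fr p G Ω} {k : ℕ}
  {B : Type*} [AddCommGroup B] {ι : B → G}

/-- `M g P χ` abstracts: `x ↦ g x g⁻¹ ι (χ x)` on `P` is a map of the fusion system -/
structure Lf (h : Ce p ι) (S : Subgroup G) (M : G → Subgroup G → Fn G B → Prop) : Prop where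
  ex : ∀ g P, h.A ≤ P → P ≤ S → g ⋆ P ≤ S → ∃ χ, M g P χ
  hom : ∀ g P χ, h.A ≤ P → M g P χ → χ ∈ nH ι P
  mono : ∀ g P P' χ χ', M g P χ → P' ≤ P → (∀ x ∈ P', χ' x = χ x) → M g P' χ'
  comp : ∀ g g' P P' χ ψ, h.A ≤ P → h.A ≤ P' → M g P χ → M g' P' ψ → g ⋆ P ≤ P' →
    M (g' * g) P (χ + g⁻¹ • ψ)
  inv : ∀ g P χ, h.A ≤ P → M g P χ → M g⁻¹ (g ⋆ P) (-(g • χ))
  inn : ∀ s ∈ S, ∀ P, P ≤ S → M s P 0
  one : ∀ P χ, h.A ≤ P → P ≤ S → (M 1 P χ ↔ χ ∈ h.nC P)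

theorem g1_A_conj (h : Ce p ι) {P : Subgroup G} (hA : h.A ≤ P) (g : G) : h.A ≤ g ⋆ P := by
  haveI := h.normal
  rw [← conj_eq_self_of_normal g h.A]
  exact conj_mono g hA

theorem Lf.sub_mem {h : Ce p ι} {S : Subgroup G} {M : G → Subgroup G → Fn G B → Prop}
    (hM : Lf h S M) {g : G} {P : Subgroup G} (hA : h.A ≤ P) (hP : P ≤ S) {χ χ' : Fn G B}
    (h1 : M g P χ) : M g P χ' ↔ χ' - χ ∈ h.nC P := by
  rw [← hM.one P _ hA hP]
  constructor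
  · intro h2
    have := hM.comp g g⁻¹ P (g ⋆ P) χ' _ hA (g1_A_conj h hA g) h2 (hM.inv g P χ hA h1) le_rfl
    rwa [inv_mul_cancel, smul_neg, inv_smul_smul, ← sub_eq_add_neg] at this
  · intro h2
    have := hM.comp 1 g P P _ χ hA hA h2 h1 (conj_one P).le
    rwa [mul_one, inv_one, one_smul, sub_add_cancel] at this

theorem g1_smul_nC (h : Ce p ι) {P : Subgroup G} {χ : Fn G B} (g : G) (hχ : χ ∈ h.nC P) :
    g • χ ∈ h.nC (g ⋆ P) := by
  obtain ⟨c, hc⟩ := hχ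
  refine ⟨g * c * g⁻¹, fun x hx => ?_⟩
  have e : ⁅g * c * g⁻¹, x⁆ = g * ⁅c, g⁻¹ * x * g⁆ * g⁻¹ := by
    simp only [commutatorElement_def]; group
  rw [e, ← hc _ (mem_conj.1 hx), h.cen, mul_inv_cancel_right, Fn.smul_apply]

theorem g1_smul_nH (h : Ce p ι) {P : Subgroup G} {χ : Fn G B} (g : G) (hχ : χ ∈ nH ι P) :
    g • χ ∈ nH ι (g ⋆ P) := by
  refine ⟨fun x hx y hy => ?_, fun b => ?_⟩
  · simp only [Fn.smul_apply]
    rw [← hχ.1 _ (mem_conj.1 hx) _ (mem_conj.1 hy)]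
    congr 1
    group
  · rw [Fn.smul_apply, h.cen, inv_mul_cancel_right, hχ.2]

theorem g1_nC_anti (h : Ce p ι) {P P' : Subgroup G} (hle : P' ≤ P) : h.nC P ≤ h.nC P' :=
  fun _ ⟨c, hc⟩ => ⟨c, fun x hx => hc x (hle hx)⟩

/-- `M` read on an edge with representatives `g`, `g'` -/
def G1Q (M : G → Subgroup G → Fn G B → Prop) (g g' : G) (P : Subgroup G) (φ : Fn G B) : Prop :=
  M (g'⁻¹ * g) (g⁻¹ ⋆ P) (g⁻¹ • φ)

section
variable {h : Ce p ι} {S : Subgroup G} {M : G → Subgroup G → Fn G B → Prop} {g g' g'' : G}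
  {P P' : Subgroup G} {φ ψ : Fn G B}

theorem G1Q.conj (a : G1Q M g g' P φ) (u : G) : G1Q M (u * g) (u * g') (u ⋆ P) (u • φ) := by
  unfold G1Q at a ⊢
  rwa [conj_conj, smul_smul, show (u * g')⁻¹ * (u * g) = g'⁻¹ * g by group,
    show (u * g)⁻¹ * u = g⁻¹ by group]

theorem G1Q.comp (hM : Lf h S M) (hA : h.A ≤ P) (a : G1Q M g g' P φ) (b : G1Q M g' g'' P ψ) :
    G1Q M g g'' P (φ + ψ) := by
  have := hM.comp _ _ _ _ _ _ (g1_A_conj h hA _) (g1_A_conj h hA _) a b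
    (by rw [conj_conj, mul_inv_cancel_right])
  unfold G1Q
  rwa [smul_smul, show g''⁻¹ * g' * (g'⁻¹ * g) = g''⁻¹ * g by group,
    show (g'⁻¹ * g)⁻¹ * g'⁻¹ = g⁻¹ by group, ← smul_add] at this

theorem G1Q.mono (hM : Lf h S M) (a : G1Q M g g' P φ) (hle : P' ≤ P) : G1Q M g g' P' φ :=
  hM.mono _ _ _ _ _ a (conj_mono _ hle) fun _ _ => rfl

theorem G1Q.sub (hM : Lf h S M) (hA : h.A ≤ P) (hP : g⁻¹ ⋆ P ≤ S) (a : G1Q M g g' P φ)
    (b : G1Q M g g' P ψ) : ψ - φ ∈ h.nC P := by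
  have := g1_smul_nC h g ((hM.sub_mem (g1_A_conj h hA _) hP a).1 b)
  rwa [conj_inv_conj, smul_sub, smul_inv_smul, smul_inv_smul] at this

theorem G1Q.hom (hM : Lf h S M) (hA : h.A ≤ P) (a : G1Q M g g' P φ) : φ ∈ nH ι P := by
  have := g1_smul_nH h g (hM.hom _ _ _ (g1_A_conj h hA _) a)
  rwa [conj_inv_conj, smul_inv_smul] at this

theorem G1Q.inn (hM : Lf h S M) (hP : g⁻¹ ⋆ P ≤ S) (hg : g'⁻¹ * g ∈ S) : G1Q M g g' P 0 := by
  unfold G1Q
  rw [smul_zero]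
  exact hM.inn _ hg _ hP

end

/-- Frame `(topFr S hS).withY h.A`.  `van_L2` (`van_H1`, `van_C0`) gives `Van nH nC 1`.  For
`l = [x, y]`, `g_x = x.out`, choose `χ` with `M (g_y⁻¹ g_x) (g_x⁻¹ ⋆ st l) χ`, `c l = g_x • χ`;
equivariant and a cocycle modulo `nC` by `comp`, `inn`, `mono`, `sub_mem` (show first:
`M (g'⁻¹ g) (g⁻¹ ⋆ st l) (g⁻¹ • c l)` for all representatives `g`, `g'` of `x`, `y`).  `ψ = b [1]`; use
the edge `[1, g⁻¹]`. -/
theorem gl1 [Finite G] [Fact p.Prime] (h : Ce p ι) {S : Subgroup G} (hS : Syl p S ⊤)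
    (hA : h.A ≤ S) {M : G → Subgroup G → Fn G B → Prop} (hM : Lf h S M) :
    ∃ ψ ∈ nH ι S, ∀ g P, h.A ≤ P → P ≤ S → g ⋆ P ≤ S → M g P (g⁻¹ • ψ - ψ) := by
  haveI := h.normal
  have ht : ∀ (b : B) (x : G ⧸ S), ι b • x = x := by
    intro b x
    obtain ⟨g, rfl⟩ := QuotientGroup.mk_surjective x
    change ((ι b * g : G) : G ⧸ S) = g
    rw [← h.cen]
    exact QuotientGroup.mk_mul_of_mem g (hA ⟨b, rfl⟩)
  let f : Fr p G (G ⧸ S) := (topFr S hS).withY h.A le_top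
    (fun g _ => conj_eq_self_iff.1 (conj_eq_self_of_normal g _))
    (by rintro x - _ ⟨b, rfl⟩; exact ht b x)
  have hH : f.H = ⊤ := rfl
  have hY : f.Y = h.A := rfl
  have hV : Van f (nH ι) h.nC 1 :=
    van_L2 (h.sys_nH hY.ge) h.fam_nC (h.le_nC hY.ge).1 (h.le_nC hY.ge).2 le_rfl
      (van_H1 h hH hY) (van_C0 h hH hY ht le_rfl)
  have hIn : ∀ l, f.In l := fun l x _ => by simp [f, Fr.withY, topFr]
  have hfix : ∀ u g : G, u • (g : G ⧸ S) = g ↔ g⁻¹ * u * g ∈ S := by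
    intro u g
    change ((u * g : G) : G ⧸ S) = g ↔ _
    rw [eq_comm, QuotientGroup.eq, mul_assoc]
  have hst : ∀ (l : List (G ⧸ S)) (g : G), (g : G ⧸ S) ∈ l → g⁻¹ ⋆ f.st l ≤ S := by
    intro l g hg
    refine conj_le_iff.2 fun x hx => ?_
    rw [inv_inv]
    exact (hfix x g).1 (hx.2 _ hg)
  have hAs : ∀ l : List (G ⧸ S), h.A ≤ f.st l := by
    rintro l _ ⟨b, rfl⟩
    exact ⟨mem_top _, fun x _ => ht b x⟩
  have hex : ∀ x y : G ⧸ S, ∃ φ, G1Q M x.out y.out (f.st [x, y]) φ := by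
    intro x y
    obtain ⟨χ, hχ⟩ := hM.ex (y.out⁻¹ * x.out) (x.out⁻¹ ⋆ f.st [x, y]) (g1_A_conj h (hAs _) _)
      (hst _ _ (by simp)) (by
        rw [conj_conj, mul_inv_cancel_right]
        exact hst _ _ (by simp))
    exact ⟨x.out • χ, by unfold G1Q; rwa [inv_smul_smul]⟩
  choose c2 hc2 using hex
  have hQ : ∀ g g' : G, G1Q M g g' (f.st [(g : G ⧸ S), (g' : G ⧸ S)]) (c2 g g') := by
    intro g g'
    have a1 : G1Q M g (g : G ⧸ S).out (f.st [(g : G ⧸ S), (g' : G ⧸ S)]) 0 :=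
      G1Q.inn hM (hst _ _ (by simp)) (QuotientGroup.eq.1 (QuotientGroup.out_eq' _))
    have a2 : G1Q M (g' : G ⧸ S).out g' (f.st [(g : G ⧸ S), (g' : G ⧸ S)]) 0 :=
      G1Q.inn hM (hst _ _ (by simp)) (QuotientGroup.eq.1 (QuotientGroup.out_eq' _).symm)
    have := (a1.comp hM (hAs _) (hc2 g g')).comp hM (hAs _) a2
    rwa [zero_add, add_zero] at this
  let c : List (G ⧸ S) → Fn G B := fun l => match l with
    | [x, y] => c2 x y
    | _ => 0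
  obtain ⟨b, hb, hb'⟩ := hV c (by
    intro l _ hl
    obtain ⟨x, y, rfl⟩ := List.length_eq_two.1 hl
    obtain ⟨g, rfl⟩ := QuotientGroup.mk_surjective x
    obtain ⟨g', rfl⟩ := QuotientGroup.mk_surjective y
    refine ⟨(hQ g g').hom hM (hAs _), fun u hu => ?_⟩
    have a1 := (hQ g g').conj u
    rw [← Fr.st_act _ hu] at a1
    exact a1.sub hM (hAs _) (hst _ (u * g) (List.mem_cons_self ..)) (hQ (u * g) (u * g'))) (by
    intro l _ hl
    obtain ⟨x, y, z, rfl⟩ := List.length_eq_three.1 hl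
    obtain ⟨g, rfl⟩ := QuotientGroup.mk_surjective x
    obtain ⟨g', rfl⟩ := QuotientGroup.mk_surjective y
    obtain ⟨g'', rfl⟩ := QuotientGroup.mk_surjective z
    have a1 := (hQ g g').mono hM (P' := f.st [g, g', g'']) (Fr.st_anti (by simp))
    have a2 := (hQ g' g'').mono hM (P' := f.st [g, g', g'']) (Fr.st_anti (by simp))
    have a3 := (hQ g g'').mono hM (P' := f.st [g, g', g'']) (Fr.st_anti (by simp))
    have := a3.sub hM (hAs _) (hst _ g (by simp)) (a1.comp hM (hAs _) a2)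
    convert this using 1
    change c2 g' g'' - (c2 g g'' - (c2 g g' - 0)) = _
    abel)
  have h1 : f.st [((1 : G) : G ⧸ S)] = S := by
    ext u
    rw [Fr.mem_st]
    simp only [hH, mem_top, true_and, List.mem_singleton, forall_eq, hfix, inv_one, one_mul,
      mul_one]
  have h2 := (hb [((1 : G) : G ⧸ S)] (hIn _) rfl).1
  rw [h1] at h2
  refine ⟨b [((1 : G) : G ⧸ S)], h2, fun g P hAP hP hgP => ?_⟩
  have hle : P ≤ f.st [((1 : G) : G ⧸ S), ((g⁻¹ : G) : G ⧸ S)] := by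
    intro u hu
    refine ⟨mem_top _, fun x hx => ?_⟩
    simp only [List.mem_cons, List.not_mem_nil, or_false] at hx
    rcases hx with rfl | rfl
    · rw [hfix]; simpa using hP hu
    · rw [hfix, inv_inv]; exact conj_le_iff.1 hgP u hu
  have a1 := (hQ 1 g⁻¹).mono hM hle
  unfold G1Q at a1
  rw [inv_inv, mul_one, inv_one, conj_one, one_smul] at a1
  refine (hM.sub_mem hAP hP a1).2 ?_
  have a2 := g1_nC_anti h hle (hb' _ (hIn _) rfl)
  have e : act g⁻¹ [((1 : G) : G ⧸ S)] = [((g⁻¹ : G) : G ⧸ S)] := by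
    change [((g⁻¹ * 1 : G) : G ⧸ S)] = _
    rw [mul_one]
  have a3 := (hb _ (hIn [((1 : G) : G ⧸ S)]) rfl).2 g⁻¹ (mem_top _)
  rw [e] at a3
  have a4 := g1_nC_anti h (hle.trans (Fr.st_anti (by simp))) a3
  have := (h.nC P).neg_mem ((h.nC P).add_mem a2 a4)
  convert this using 1
  change _ = -(c2 _ _ - (b [((g⁻¹ : G) : G ⧸ S)] - (b [((1 : G) : G ⧸ S)] - 0)) + _)
  abel

end Cfsg.Lib.LK
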