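import Cfsg.Agent.Lib.LK.GL1
import Cfsg.Agent.Lib.LK.Easy
import Cfsg.Agent.Lib.Fusion.Quot
import Cfsg.Agent.Lib.Fusion.Group

set_option autoImplicit false

namespace Cfsg.Lib.LK

open Subgroup Cfsg.Lib.Transfer Cfsg.Lib.Fusion
open scoped commutatorElement

variable {p : ℕ}

variable {G : Type*} [Group G] [Finite G] {S A : Subgroup G} {F : FusionSystem S}

/-- `F` lives over a Sylow subgroup of `G` and agrees with `G` modulo the central subgroup `A` -/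
structure Ov (p : ℕ) (F : FusionSystem S) (A : Subgroup G) : Prop where
  sat : Sat F p
  syl : Syl p S ⊤
  le : A ≤ S
  cen : A ≤ center G
  fix : ∀ P φ, Mor F P φ → ∀ a ∈ P, a ∈ A → φ a = a
  ext : ∀ P φ, Mor F P φ → ∃ ψ, Mor F (P ⊔ A) ψ ∧ ∀ x ∈ P, ψ x = φ x
  up : ∀ g P, P ≤ S → g ⋆ P ≤ S → ∃ φ, Mor F P φ ∧ ∀ x ∈ P, (g * x * g⁻¹)⁻¹ * φ x ∈ A
  down : ∀ P φ, Mor F P φ → ∃ g : G, ∀ x ∈ P, (g * x * g⁻¹)⁻¹ * φ x ∈ A

omit [Finite G] in
theorem gl2_cancel {P Q : Subgroup G} {φ f η : G → G} (h1 : Mor F Q φ) (h2 : Mor F P f)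
    (h : ∀ x ∈ P, η x ∈ Q ∧ φ (η x) = f x) : Mor F P η := by
  obtain ⟨k, hk, e, -, -⟩ := h1.inv
  exact (h2.comp hk fun x hx => (h x hx).2 ▸ mem_im_of_mem φ (h x hx).1).congr fun x hx => by
    rw [← (h x hx).2, e _ (h x hx).1]

theorem gl2_conj [Fact p.Prime] (hF : Sat F p) {P : Subgroup G} (hA : A ≤ P) {φ : G → G} (h : Mor F P φ)
    (hφ : ∀ x ∈ P, x⁻¹ * φ x ∈ A) (h1 : ∀ a ∈ A, φ a = a) :
    ∃ f, Mor F P f ∧ ∃ s ∈ S, ∀ x ∈ P, f (φ x) = s * f x * s⁻¹ := by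
  obtain ⟨α, hα, e⟩ := h.exists_aut' fun x hx => by simpa using mul_mem hx (hA (hφ x hx))
  obtain ⟨Q, hQ, h2, -⟩ := hF.sat P h.le
  obtain ⟨k, hk⟩ := IsPGroup.iff_card.1 hF.pg
  have h3 : ∀ x ∈ P, ∀ n, ext (α ^ n) x = x * (x⁻¹ * φ x) ^ n := fun x hx n => by
    induction n with
    | zero => simp
    | succ n ih =>
      rw [pow_succ', ext_mul, ih, e _ (mul_mem hx (pow_mem (hA (hφ x hx)) n)),
        h.homOn _ hx _ (pow_mem (hA (hφ x hx)) n), h1 _ (pow_mem (hφ x hx) n), pow_succ', ← mul_assoc,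
        mul_inv_cancel_left]
  obtain ⟨f, hf, -, h4⟩ := exists_mor_conj_of_isPGroup hF.pg hQ h2 (zpowers_le.2 hα)
    (isPGroup_zpowers (k := k) (MulEquiv.ext fun x => Subtype.ext (by
      have := congrArg Subtype.val (pow_card_eq_one' (x := (⟨_, h.le (hA (hφ x x.2))⟩ : S)))
      rw [← ext_coe, h3 x x.2, ← hk, show _ ^ _ = (1 : G) from this, mul_one]; rfl)))
  obtain ⟨s, hs, h5⟩ := h4 α (mem_zpowers α)
  exact ⟨f, hf, s, hs, fun x hx => e x hx ▸ h5 x hx⟩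

/-- `C₀^F = C₀^G`.  Choose `g` with `P' = g ⋆ P ≤ S` and `N_S(P')` Sylow in `N_G(P')`.  For
`A ≤ P` the `F`-class of `P` is its `G`-class inside `S` (`up`, `down`), so `P'` is fully
normalized in `F`.  The automorphisms of `P'` in `F` that are trivial modulo `A` form a normal
`p`-subgroup of `Aut_F(P')`, so lie in `Aut_S(P')` (`Sat.fa`); `{c | ⁅c, P'⁆ ≤ A}` is normal in
`N_G(P')` and a `p`-group modulo `C_G(P')`, so is induced by `N_S(P')` too.  Transport along `φ₀` from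
`up` and along `g`: both carry `x ↦ x α(x)` to `y ↦ y α(g⁻¹ y g)`. -/
theorem Ov.one [Fact p.Prime] (h : Ov p F A) {P : Subgroup G} (hA : A ≤ P) (hP : P ≤ S)
    {φ : G → G} (hφ : ∀ x ∈ P, x⁻¹ * φ x ∈ A) :
    Mor F P φ ↔ ∃ c : G, ∀ x ∈ P, φ x = c * x * c⁻¹ := by
  have hc : ∀ a ∈ A, ∀ g : G, g * a = a * g := fun a ha g => mem_center_iff.1 (h.cen ha) g
  have key : ∀ {f : G → G} {g : G}, Mor F P f → ∀ x ∈ P, f (φ x) = f x * (x⁻¹ * φ x) := fun {f g} hf x hx => by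
    rw [← h.fix P f hf _ (hA (hφ x hx)) (hφ x hx), ← hf.homOn _ hx _ (hA (hφ x hx)), mul_inv_cancel_left]
  constructor
  · intro h1
    obtain ⟨f, hf, s, -, e⟩ := gl2_conj h.sat hA h1 hφ fun a ha => h.fix P φ h1 a (hA ha) ha
    obtain ⟨g, hg⟩ := h.down P f hf
    refine ⟨g⁻¹ * s * g, fun x hx => ?_⟩
    have e1 := e x hx
    rw [key (g := g) hf x hx, ← mul_inv_cancel_left (g * x * g⁻¹) (f x)] at e1
    have h1 := hc _ (hg x hx)
    have h2 := hc _ (hφ x hx)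
    rw [← mul_inv_cancel_left x (φ x)]
    generalize (g * x * g⁻¹)⁻¹ * f x = a at *
    generalize x⁻¹ * φ x = b at *
    rw [mul_assoc _ a, ← h1 b, ← mul_assoc, mul_assoc s, mul_assoc _ a, ← h1 s⁻¹, ← mul_assoc, ← mul_assoc,
      mul_left_inj, mul_assoc _ g⁻¹, h2 g⁻¹] at e1
    calc x * b = g⁻¹ * (g * x * (b * g⁻¹)) * g := by group
      _ = _ := by rw [e1]; group
  · rintro ⟨c, e⟩
    have hG : SylGrp (groupFusionSystem S) ⊤ p := ⟨grp_group S, h.syl.2.1, h.syl.2.2⟩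
    have hm : ∀ x ∈ P, φ x ∈ P := fun x hx => by simpa using mul_mem hx (hA (hφ x hx))
    obtain ⟨f, hf, s, hs, e1⟩ := gl2_conj hG.sat hA ((hG.mor P φ).2 ⟨hP, fun x hx => hP (hm x hx), c, trivial, e⟩) hφ
      fun a ha => by rw [e a (hA ha), hc a ha, mul_inv_cancel_right]
    obtain ⟨g, -, e2, h2, -⟩ := hG.exists_conj hf
    obtain ⟨f0, h3, h4⟩ := h.up g P hP h2
    refine gl2_cancel h3 (h3.comp (mor_conj F le_rfl hs) fun x hx => h3.mem hx) fun x hx => ⟨hm x hx, ?_⟩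
    have e3 := e1 x hx
    rw [e2 _ (hm x hx), e2 x hx, ← mul_inv_cancel_left x (φ x)] at e3
    rw [key (g := g) h3 x hx, ← mul_inv_cancel_left (g * x * g⁻¹) (f0 x)]
    have h1 := hc _ (h4 x hx)
    have h2 := hc _ (hφ x hx)
    generalize (g * x * g⁻¹)⁻¹ * f0 x = a at *
    generalize x⁻¹ * φ x = b at *
    calc g * x * g⁻¹ * a * b = g * x * (g⁻¹ * b) * a := by simp only [mul_assoc, h1 b]
      _ = g * (x * b) * g⁻¹ * a := by rw [h2 g⁻¹]; group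
      _ = s * (g * x * g⁻¹) * (s⁻¹ * a) := by rw [e3]; group
      _ = _ := by rw [h1 s⁻¹]; group

theorem Ov.lf [Fact p.Prime] {B : Type*} [AddCommGroup B] {ι : B → G} {hι : Ce p ι} (h : Ov p F hι.A) :
    Lf hι S fun g P χ => Mor F P fun x => g * x * g⁻¹ * ι (χ x) := by
  have hom : ∀ g P (χ : Fn G B), hι.A ≤ P → Mor F P (fun x => g * x * g⁻¹ * ι (χ x)) → χ ∈ nH ι P :=
    fun g P χ hA hm => ⟨fun x hx y hy => hι.inj (by
      have := hm.homOn x hx y hy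
      rw [mul_assoc _ (ι (χ x)), ← mul_assoc (ι _), ← hι.cen, mul_assoc _ (ι _), ← hι.add] at this
      exact mul_left_cancel (this.trans (by group))), fun b => hι.inj (by
      have := h.fix P _ hm (ι b) (hA ⟨b, rfl⟩) ⟨b, rfl⟩
      rwa [hι.cen b g, mul_inv_cancel_right, mul_eq_left, ← hι.zero] at this)⟩
  refine ⟨fun g P _ hP hg => ?_, hom, fun g P P' χ χ' hm hP e => (hm.mono hP).congr fun x hx => by rw [e x hx],
    fun g g' P P' χ ψ _ hA' h1 h2 hle => ?_, fun g P χ hA h1 => ?_,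
    fun s hs P hP => (mor_conj F hP hs).congr fun x _ => by rw [Fn.zero_apply, hι.zero, mul_one],
    fun P χ hA hP => ?_⟩
  · obtain ⟨φ, h1, h2⟩ := h.up g P hP hg
    have : Nonempty B := ⟨0⟩
    choose! χ e using h2
    exact ⟨χ, h1.congr fun x hx => by rw [e x hx, mul_inv_cancel_left]⟩
  · have h3 := hom g' P' ψ hA' h2
    refine (h1.comp h2 fun x hx => mul_mem (conj_le_iff.1 hle x hx) (hA' ⟨_, rfl⟩)).congr fun x hx => ?_
    rw [h3.1 _ (conj_le_iff.1 hle x hx) _ (hA' ⟨_, rfl⟩), h3.2, add_zero, Fn.add_apply, Fn.smul_apply, inv_inv,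
      hι.add, mul_assoc _ _ g'⁻¹, mul_assoc _ (ι _), ← hι.cen (χ x) g'⁻¹]
    group
  · have h3 := hom g P χ hA h1
    refine h1.of_rightInv fun y hy => ?_
    have hx := mem_conj.1 hy
    simp only [inv_inv, Fn.neg_apply, Fn.smul_apply]
    refine ⟨mul_mem hx (hA ⟨_, rfl⟩), ?_⟩
    rw [h3.1 _ hx _ (hA ⟨_, rfl⟩), h3.2, add_zero, mul_assoc g, mul_assoc _ (ι _), ← hι.cen _ g⁻¹, hι.neg]
    group
  · rw [h.one hA hP fun x _ => ⟨χ x, by group⟩]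
    refine exists_congr fun c => forall₂_congr fun x _ => ?_
    rw [commutatorElement_def, eq_mul_inv_iff_mul_eq (c := x), ← hι.cen, one_mul, inv_one, mul_one]

theorem Ov.real' [Fact p.Prime] {B : Type*} [AddCommGroup B] {ι : B → G} {hι : Ce p ι} (h : Ov p F hι.A) :
    ∃ α : S →* G, F.IsRealizedBy α ∧ α.range = S := by
  obtain ⟨ψ, hψ, hm⟩ := gl1 hι h.syl h.le h.lf
  have ha : HomOn S fun x => x * ι (-ψ x) := fun x hx y hy => by
    beta_reduce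
    rw [hψ.1 x hx y hy, neg_add, hι.add, mul_assoc x (ι _), ← mul_assoc (ι _) y, ← hι.cen _ y]
    simp only [mul_assoc]
  have e : ∀ x ∈ S, fn ha.toHom x = x * ι (-ψ x) := fun x hx => fn_apply _ hx
  have e1 : ∀ x ∈ S, ∀ b, fn ha.toHom (x * ι b) = x * ι b * ι (-ψ x) := fun x hx b => by
    rw [e _ (mul_mem hx (h.le ⟨b, rfl⟩)), hψ.1 x hx _ (h.le ⟨b, rfl⟩), hψ.2, add_zero]
  have hi : Function.Injective ha.toHom := (injective_iff_map_eq_one _).2 fun s hs => Subtype.ext (by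
    have h1 : s * ι (-ψ s) = 1 := hs
    have h2 : (s : G) = ι (ψ s) := by rwa [hι.neg, mul_inv_eq_one] at h1
    rw [h2, show ψ s = 0 by rw [h2, hψ.2], hι.zero]; rfl)
  have e2 : ∀ g, ∀ x ∈ S, g * x * g⁻¹ ∈ S → fn ha.toHom (g * x * g⁻¹ * ι ((g⁻¹ • ψ - ψ) x)) =
      g * fn ha.toHom x * g⁻¹ := fun g x hx h1 => by
    rw [e1 _ h1, e x hx, Fn.sub_apply, Fn.smul_apply, inv_inv, mul_assoc _ (ι _), ← hι.add, sub_add_eq_add_sub,
      add_neg_cancel, zero_sub, mul_assoc _ _ (ι _), hι.cen _ g⁻¹]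
    group
  have hs : ∀ g P, P ≤ S → (∀ x ∈ P, g * x * g⁻¹ ∈ S) → g ⋆ (P ⊔ hι.A) ≤ S := fun g P hP h1 => by
    rw [conj_sup, conj_eq_self_of_mem_centralizer (H := hι.A) (by rintro _ ⟨b, rfl⟩; exact (hι.cen b g).symm)]
    exact sup_le (conj_le_iff.2 h1) h.le
  refine ⟨ha.toHom, ez_iff.2 ⟨hi, fun P f hP _ hf => ⟨fun h1 => ?_, fun ⟨g, hg⟩ => ?_⟩⟩, ?_⟩
  · obtain ⟨f1, h2, h3⟩ := h.ext P f h1
    obtain ⟨g, hg⟩ := h.down _ f1 h2
    have h4 : ∀ x ∈ P ⊔ hι.A, g * x * g⁻¹ ∈ S := fun x hx => by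
      simpa using mul_mem (h2.mem hx) (inv_mem (h.le (hg x hx)))
    have h5 := hm g _ le_sup_right h2.le (conj_le_iff.2 h4)
    have : ∀ x ∈ P ⊔ hι.A, ∃ b, g * x * g⁻¹ * ι ((g⁻¹ • ψ - ψ) x) * ι b = f1 x := fun x hx => by
      obtain ⟨b, hb⟩ := hg x hx
      exact ⟨-(g⁻¹ • ψ - ψ) x + b, by rw [mul_assoc, ← hι.add, add_neg_cancel_left, hb, mul_inv_cancel_left]⟩
    have hB : Nonempty B := ⟨0⟩
    choose! b hb using this
    obtain ⟨c, hc⟩ := (h.one (φ := fun x => x * ι (b x)) le_sup_right h2.le fun x _ => ⟨b x, by group⟩).1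
      (gl2_cancel h5 h2 fun x hx => ⟨mul_mem hx (mem_sup_right ⟨_, rfl⟩), by
        refine (h5.homOn _ hx _ (mem_sup_right ⟨b x, rfl⟩)).trans ?_
        rw [h.fix _ _ h5 _ (mem_sup_right ⟨b x, rfl⟩) ⟨b x, rfl⟩]
        exact hb x hx⟩)
    refine ⟨g * c, fun x hx => ?_⟩
    have hx' : x ∈ P ⊔ hι.A := mem_sup_left hx
    have h6 := homOn_fn ha.toHom _ (h5.mem hx') _ (h.le ⟨b x, rfl⟩)
    rw [← h3 x hx, ← hb x hx', h6, e2 g x (hP hx) (h4 x hx'), e _ (h.le ⟨b x, rfl⟩), hψ.2, neg_zero, hι.zero, mul_one,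
      e x (hP hx)]
    calc _ = g * (x * ι (b x)) * ι (-ψ x) * g⁻¹ := by
          simp only [mul_assoc, hι.cen (b x) g⁻¹, ← hι.cen (b x) (ι _)]
      _ = g * c * x * (c⁻¹ * ι (-ψ x)) * g⁻¹ := by rw [hc x hx']; group
      _ = _ := by rw [hι.cen]; group
  · have h4 : ∀ x ∈ P, g * x * g⁻¹ ∈ S := fun x hx => by
      have := hg x hx
      rw [e _ (hf x hx), e _ (hP hx), ← mul_assoc, mul_assoc _ (ι _), ← hι.cen, ← mul_assoc,
        eq_comm, ← eq_mul_inv_iff_mul_eq] at this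
      exact this ▸ mul_mem (mul_mem (hf x hx) (h.le ⟨_, rfl⟩)) (inv_mem (h.le ⟨_, rfl⟩))
    have h5 := (hm g _ le_sup_right (sup_le hP h.le) (hs g P hP h4)).mono le_sup_left
    exact h5.congr fun x hx => injOn_fn hi (hf x hx) (h5.mem hx) (by rw [hg x hx, e2 g x (hP hx) (h4 x hx)])
  · refine eq_of_le_of_card_ge ?_ (Nat.card_congr (MonoidHom.ofInjective hi).toEquiv).le
    rintro _ ⟨s, rfl⟩
    exact mul_mem s.2 (h.le ⟨_, rfl⟩)

/-- `B = Additive A`, `M g P χ = Mor F P (x ↦ g x g⁻¹ ι (χ x)) ∧ χ (ι ·) = 0`-style `Lf`; `gl1` gives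
`ψ`; `α s = s ι (-ψ s)`.  If `φ x = g x g⁻¹ ι (ψ (g x g⁻¹) - ψ x)` then `α (φ x) = g α(x) g⁻¹`.
`→`: `ext`, `down`, `Ov.one`; `←`: `g ⋆ (P ⊔ A) ≤ S` and `α` is injective. -/
theorem Ov.real [Fact p.Prime] (h : Ov p F A) :
    ∃ α : S →* G, F.IsRealizedBy α ∧ α.range = S := by
  have hc : ∀ a ∈ A, ∀ g : G, g * a = a * g := fun a ha g => mem_center_iff.1 (h.cen ha) g
  let _ : CommGroup A := { (inferInstance : Group A) with mul_comm := fun a b => Subtype.ext (hc _ b.2 a) }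
  obtain ⟨k, hk⟩ := IsPGroup.iff_card.1 (h.syl.2.1.to_le h.le)
  have hι : Ce p fun b : Additive A => (b.toMul : G) := ⟨fun _ _ => rfl,
    fun _ _ e => Additive.toMul.injective (Subtype.ext e), fun b => hc _ b.toMul.2, k,
    fun v => Additive.toMul.injective (by rw [toMul_nsmul, ← hk]; exact pow_card_eq_one')⟩
  have hA : hι.A = A := Subgroup.ext fun x =>
    ⟨by rintro ⟨b, rfl⟩; exact b.toMul.2, fun hx => ⟨.ofMul ⟨x, hx⟩, rfl⟩⟩
  exact Ov.real' (hι := hι) (hA.symm ▸ h)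

end Cfsg.Lib.LK
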