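import Cfsg.Agent.Lib.LK.GTa

set_option autoImplicit false

namespace Cfsg.Lib.LK

open Subgroup Cfsg.Lib.Transfer
open scoped commutatorElement

variable {p : ℕ} {G Ω : Type*} [Group G] [MulAction G Ω] {f : Fr p G Ω} {k : ℕ}
  {B : Type*} [AddCommGroup B] {ι : B → G}

/-- Oliver's filtration.  `van_lev` with `δ = dA`; in layer `m` (`Sys.mid`) `van_FL` with
`j = J (AbS G m)` (`cl_J'`).  Slice at `X`: if `Cen ⊥ X` and `dA X = m`, `van_GTa` (`Van.congr`: all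
objects of `loc X` are centric with `dA ≥ m`).  Else `van_lamI`: an object `P` of `loc X` with
`N P ≰ O P` is centric with `dA P = m`, `j P = X`, so `dA X = m`, `X` is not centric: a `p`-element
`c ∉ X` centralizes `X`.  `U₀ = C_G(X)`, `P ⊓ U₀ = Zc X` (`AbS.cent`), `T₀ = Zc X ⊔ ⟨c⟩`,
`exists_pgrp_normalizer`; `U = C_G(Zc P) ≥ U₀` (as `Zc P ≤ X`) acts trivially on `zN P`; `sN_tor`. -/
theorem van_GT [Finite G] [Fact p.Prime] (hH : f.H = ⊤) (hY : f.Y = ⊥) (hk : 2 ≤ k) :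
    Van f (on (Cen p ⊥) zN) (on (Cen p ⊥) zO) k := by
  have hk1 : 1 ≤ k := by omega
  have hS : Sys f (on (Cen p ⊥) zN) (on (Cen p ⊥) zO) := sys_z up_Cen fun _ _ h => h
  have a1 : ∀ P Q, f.Ob P → f.Ob Q → P ≤ Q → dA P ≤ dA Q := fun _ _ _ _ h => dA_mono h
  have a2 : ∀ P, f.Ob P → ∀ g ∈ f.H, dA (g ⋆ P) = dA P := fun P _ g _ => dA_conj g P
  refine van_lev hS hk1 dA a1 a2 fun m => ?_
  set N := on (Cen p (⊥ : Subgroup G)) zN
  set O := on (Cen p (⊥ : Subgroup G)) zO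
  have hF : ∀ n, Fam f (lev dA n O N) := fun n => fam_ite' (up_lev a1 a2 n) hS.fO hS.fN hS.le
  have hL : ∀ n, Le f O (lev dA n O N) ∧ Le f (lev dA n O N) N := fun n => le_ite' _ hS.le
  have hne : ∀ P, dA P ≠ m → lev dA (m + 1) O N P = lev dA m O N P := fun P h => by
    rcases lt_or_gt_of_ne h with h | h
    · rw [lev_of_lt h, lev_of_lt (h.trans (Nat.lt_succ_self m))]
    · rw [lev_of_le h.le, lev_of_le (Nat.succ_le_of_lt h)]
  have heq : ∀ P, dA P = m → lev dA (m + 1) O N P = N P ∧ lev dA m O N P = O P := fun P h =>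
    ⟨lev_of_lt (by omega), lev_of_le h.ge⟩
  have hS' : Sys f (lev dA (m + 1) O N) (lev dA m O N) := by
    refine ((hS.mid (hF _) (hL _).1 (hL _).2).2.mid (hF m) (hL m).1 fun P hP => ?_).1
    by_cases h : dA P = m
    · rw [(heq P h).1, (heq P h).2]
      exact hS.le P hP
    · rw [hne P h]
  have hj : Cl f (J (AbS G m)) := cl_J' (inv_AbS _ m) (.inr hY)
  refine van_FL hS' hj hk1 fun X hX hJ => ?_
  by_cases hc : Cen p ⊥ X ∧ dA X = m
  · have hO : ∀ P, (f.loc X hX).Ob P → lev dA m O N P = zO P := fun P hP =>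
      (lev_of_le (hc.2 ▸ dA_mono hP.1)).trans (on_pos (hc.1.mono hP.1))
    refine (van_GTa hk hX hc.1 hc.2 hJ).congr hk1 (fun P hP => ?_) fun P hP => (hO P hP).symm
    by_cases h1 : J (AbS G m) P = X
    · rw [ite'_neg (Q := fun P => J (AbS G m) P ≠ X) (not_not.2 h1)]
      by_cases h2 : dA P = m
      · rw [ite'_neg (not_not.2 ⟨h2, h1⟩), (heq P h2).1]
        exact (on_pos (hc.1.mono hP.1)).symm
      · rw [ite'_pos (fun h => h2 h.1), hne P h2, hO P hP]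
    · rw [ite'_pos (fun h => h1 h.2), ite'_pos (Q := fun P => J (AbS G m) P ≠ X) h1, hO P hP]
  have hS₁ := hS'.loc hX
  have hL₁ := le_ite' (fun P => J (AbS G m) P ≠ X) hS₁.le
  refine van_lamI (hS₁.mid (fam_ite' (hj.up_ne hX hJ) hS₁.fO hS₁.fN hS₁.le) hL₁.1 hL₁.2).2 hk1 fun P hP => ?_
  by_cases h1 : J (AbS G m) P = X
  swap
  · exact .inl (ite'_pos (Q := fun P => J (AbS G m) P ≠ X) h1).le
  rw [ite'_neg (Q := fun P => J (AbS G m) P ≠ X) (not_not.2 h1)]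
  by_cases h2 : dA P = m
  swap
  · exact .inl (hne P h2).le
  rw [(heq P h2).1, (heq P h2).2]
  by_cases h3 : Cen p ⊥ P
  swap
  · exact .inl (le_top.trans (on_neg h3).ge)
  rw [show N P = zN P from on_pos h3, show O P = zO P from on_pos h3]
  obtain ⟨A, hA, hAP⟩ := exists_AbS P
  have hAX : A ≤ X := h1 ▸ le_J (h2 ▸ hA) hAP
  have h4 : ¬ Cen p ⊥ X := fun h => hc ⟨h, le_antisymm (h2 ▸ dA_mono hP.1) (h2 ▸ le_dA hA hAX)⟩
  simp only [Cen, not_forall] at h4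
  obtain ⟨c, ⟨n, hn⟩, h5, h6⟩ := h4
  have h7 : c ∈ centralizer (X : Set G) := fun x hx =>
    (commutatorElement_eq_one_iff_mul_comm.1 (mem_bot.1 (h5 x hx))).symm
  have h8 : P ⊓ centralizer (X : Set G) ≤ X := fun y hy => hAX (AbS.cent hA hAP hy.1 fun x hx => hy.2 x (hAX hx))
  have h9 : Zc P ≤ X := fun y hy => hAX (AbS.cent hA hAP hy.1 fun x hx => hy.2 x (hAP hx))
  have hN := normalizer_le_normalizer_centralizer' X
  obtain ⟨T, t1, t2, t3⟩ := exists_pgrp_normalizer (T₀ := zpowers c ⊔ P ⊓ centralizer (X : Set G)) hP.2.2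
    (hP.2.1.trans (inf_le_right.trans hN))
    ((IsPGroup.of_card_dvd_pow (n := n) (by rw [Nat.card_zpowers]; exact orderOf_dvd_of_pow_eq_one hn)).to_sup_of_normal_right'
      (hP.2.2.to_le inf_le_left) (zpowers_le.2 (centralizer_le_normalizer _ fun y hy => h7 y (h8 hy))))
    (lt_of_le_of_ne le_sup_right fun e => h6 (h8 (e ▸ mem_sup_left (mem_zpowers c))))
    (sup_le (zpowers_le.2 h7) inf_le_right)
  refine .inr ⟨sN_tor (hP.2.2.to_le inf_le_left), centralizer (X : Set G), T,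
    inf_le_left.trans (inf_le_right.trans hN), fun u hu => ⟨0, fun v hv => ?_⟩, t1, fun g hg =>
      ⟨(t2 hg).1, ⟨hH ▸ mem_top g, centralizer_le_normalizer _ (t2 hg).1⟩, (t2 hg).2⟩, t3⟩
  rw [pow_zero, pow_one, smul_eq_of_centralizer (fun z hz => (hu.1 z (h9 hz)).symm) hv, sub_self]
  exact zero_mem _

end Cfsg.Lib.LK
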