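import Cfsg.Agent.Lib.LK.B2

set_option autoImplicit false

namespace Cfsg.Lib.LK

open Subgroup Cfsg.Lib.Transfer
open scoped commutatorElement

variable {p : ℕ} {G Ω D : Type*} [Group G] [MulAction G Ω] [AddCommGroup D] [DistribMulAction G D]
  {f : Fr p G Ω} {N O M N' O' : Subgroup G → AddSubgroup D} {Q : Subgroup G → Prop} {k : ℕ}

theorem la_slice [Finite G] [Finite D] [Fact p.Prime] {X : Subgroup G} (hX : f.Ob X)
    (hj : J (BoS D f.Y) X = X) (h : LAs D (f.loc X hX) k) :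
    Van (f.loc X hX) (Rf D fun P => J (BoS D f.Y) P ≠ X) (Z0 G D) k :=
  h _ ((cl_BoS f).up_ne hX hj) fun P hP a => by
    rwa [Fr.loc_Y, J_J _ (J_BoS_le hX.1 hP.1 (hP.2.1.trans inf_le_right)) (J_le _ _)]

theorem la_q0 [Fact p.Prime] {P : Subgroup G} (hP : f.Ob P) : Q0 D f.Y P ↔ J (BoS D f.Y) P ≠ f.Y :=
  ⟨fun a b => a b.le, fun a b => a (le_antisymm b ((cl_BoS f).ge P hP))⟩

/-- `van_FL` with `j = J (BoS Y)` (`cl_BoS`): slice at `X ∈ Q` trivial; at `X ∉ Q` it is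
`(Rf (j · ≠ X), Z0)` on the objects of `loc X`; `X ≠ Y`: `ih` (`Cl.up_ne`, `J_BoS_le`); `X = Y`: `h0`
(`Van.of_eq`, `Van.congr`). -/
theorem la_of_base [Finite G] [Finite D] [Fact p.Prime] (hk : 1 ≤ k) (f : Fr p G Ω)
    (ih : ∀ X (hX : f.Ob X), X ≠ f.Y → LAs D (f.loc X hX) k)
    (h0 : Van f (Rf D (Q0 D f.Y)) (Z0 G D) k) : LAs D f k := by
  intro Q hQ hJ
  refine van_FL (sys_Rf hQ).2 (cl_BoS (D := D) f) hk fun X hX hj => ?_
  by_cases a : Q X
  · refine van_of_le fun P hP => ((le_ite' _ le_Z0).2 P hP).trans ?_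
    rw [Rf, ite'_pos (hQ.up _ _ hX (Fr.Ob.of_loc hP) hP.1 a)]
  refine Van.congr (N := Rf D fun P => J (BoS D f.Y) P ≠ X) (O := Z0 G D) ?_ hk (fun P hP => ?_) fun _ _ => rfl
  · by_cases b : X = f.Y
    · subst b
      refine (h0.of_eq (inf_eq_left.2 f.Yn).symm ?_).congr hk (fun P hP => ?_) fun _ _ => rfl
      · ext x
        rw [Fr.loc_A, Fr.mem_fixA]
        exact ⟨fun h => ⟨h, f.Yfix x h⟩, fun h => h.1⟩
      · by_cases c : Q0 D f.Y P
        · rw [Rf, Rf, ite'_pos (P := P) c, ite'_pos (P := P) ((la_q0 (Fr.Ob.of_loc hP)).1 c)]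
        · rw [Rf, Rf, ite'_neg (P := P) c, ite'_neg (P := P) fun e => c ((la_q0 (Fr.Ob.of_loc hP)).2 e)]
    · exact la_slice hX hj (ih X hX b)
  · by_cases c : J (BoS D f.Y) P ≠ X
    · rw [Rf, ite'_pos (P := P) c, ite'_pos (P := P) c]
    · rw [Rf, ite'_neg (P := P) c, ite'_neg (P := P) c, Rf, ite'_neg (P := P) fun e => a (not_not.1 c ▸ hJ P (Fr.Ob.of_loc hP) e)]

/-- `van_L3`, `van_full`, and `van_FL` for `(fx, Rf Q0)` with `j = J (BoS Y)` -/
theorem base_succ [Finite G] [Finite D] [Fact p.Prime] (hD : PT p D) (hk : 1 ≤ k) (f : Fr p G Ω)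
    (ih : ∀ X (hX : f.Ob X), X ≠ f.Y → LAs D (f.loc X hX) k) :
    Van f (Rf D (Q0 D f.Y)) (Z0 G D) (k + 1) := by
  refine van_L3 sys_fx (fam_Rf (up_Q0 f)) le_Z0 (sys_Rf (up_Q0 f)).1.le hk (van_full hD) ?_
  refine van_FL (sys_Rf (up_Q0 f)).1 (cl_BoS (D := D) f) hk fun X hX hj => ?_
  by_cases b : X = f.Y
  · subst b
    refine van_of_le fun P hP => ?_
    by_cases c : J (BoS D f.Y) P ≠ f.Y
    · rw [ite'_pos (P := P) c]
    · rw [ite'_neg (P := P) c, Rf, ite'_neg (P := P) fun e => c ((la_q0 (Fr.Ob.of_loc hP)).1 e)]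
  have q : ∀ P, (f.loc X hX).Ob P → Rf D (Q0 D f.Y) P = Z0 G D P := fun P hP =>
    ite'_pos fun e => b (le_antisymm (hj.ge.trans ((J_mono _ hP.1).trans e)) hX.1)
  refine (la_slice hX hj (ih X hX b)).congr hk (fun P hP => ?_) fun P hP => (q P hP).symm
  by_cases c : J (BoS D f.Y) P ≠ X
  · rw [Rf, ite'_pos (P := P) c, ite'_pos (P := P) c, q P hP]
  · rw [Rf, ite'_neg (P := P) c, ite'_neg (P := P) c]

/-- `van_R1` with `𝒜 = {B | B ≤ H ∧ MBo Y B}`, `Z = J 𝒜 T`, `cf_of_np`, `MBo.np_odd` -/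
theorem base_odd [Finite G] [Finite D] [Fact p.Prime] (hD : PT p D) (hp : p ≠ 2) (f : Fr p G Ω) :
    Van f (Rf D (Q0 D f.Y)) (Z0 G D) 1 := by
  obtain ⟨T, hT, -⟩ := exists_syl (p := p) (H := f.H) IsPGroup.of_bot bot_le
  refine van_R1 hD (up_Q0 f) hT fun hq => ?_
  obtain ⟨B, hB, hle⟩ := exists_MBo hq
  have hBJ : B ≤ J {B | B ≤ f.H ∧ MBo D f.Y B} T := le_J (And.intro (hle.trans hT.1) hB) hle
  refine ⟨_, hB.1.le.trans hBJ, J_le _ _, hB.q0 hBJ, fun v h1 h2 => ?_⟩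
  exact cf_of_np hD (H₀ := f.H) (W := fx D f.Y) (𝒜 := {B | B ≤ f.H ∧ MBo D f.Y B})
    (fun g hg B hB => ⟨conj_eq_self_of_mem hg ▸ conj_mono g hB.1, hB.2.conj (f.Yn hg)⟩)
    (fun g hg v hv => conj_Y hg ▸ smul_mem_fx g hv)
    (fun A hA h hp' => hA.2.np_odd hD hp hp' (h.trans f.Yn)) _ le_rfl T hT v (fx_anti hT.ob.1 h2) h1

theorem relIndex_loc_lt [Finite G] [Fact p.Prime] {X : Subgroup G} (hX : f.Ob X) (h : X ≠ f.Y) :
    (f.loc X hX).Y.relIndex (f.loc X hX).H < f.Y.relIndex f.H := by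
  have h1 := card_mul_relIndex (f.loc X hX).Yle
  have h2 := card_mul_relIndex f.Yle
  have h3 : Nat.card (f.loc X hX).H ≤ Nat.card f.H := card_le_of_le inf_le_left
  have h4 : Nat.card f.Y < Nat.card (f.loc X hX).Y := card_lt_of_lt (hX.1.lt_of_ne h.symm)
  have h5 : 0 < Nat.card (f.loc X hX).H := Nat.card_pos
  by_contra! a
  rw [← h1] at h5
  have := Nat.mul_lt_mul_of_lt_of_le h4 a (Nat.pos_of_mul_pos_left h5)
  omega

theorem la_all [Finite G] [Finite D] [Fact p.Prime] (hk : 1 ≤ k)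
    (h : ∀ f : Fr p G Ω, (∀ X (hX : f.Ob X), X ≠ f.Y → LAs D (f.loc X hX) k) →
      Van f (Rf D (Q0 D f.Y)) (Z0 G D) k) (f : Fr p G Ω) : LAs D f k := by
  induction e : f.Y.relIndex f.H using Nat.strong_induction_on generalizing f with
  | _ n ih =>
    have := fun X (hX : f.Ob X) (a : X ≠ f.Y) => ih _ (e ▸ relIndex_loc_lt hX a) (f.loc X hX) rfl
    exact la_of_base hk f this (h f this)

/-- The local theorem: induction on `k` from `1` (`p` odd) or `2` (`p = 2`), inside it on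
`f.Y.relIndex f.H`. -/
theorem van_LA [Finite G] [Finite D] [Fact p.Prime] (hD : PT p D) (hk : 2 ≤ k) (f : Fr p G Ω) :
    LAs D f k := by
  induction k, hk using Nat.le_induction generalizing f with
  | base =>
    by_cases hp : p = 2
    · subst hp
      exact la_all one_le_two (fun f ih => base2 hD f ih) f
    · exact la_all one_le_two (fun f _ => base_succ hD le_rfl f fun X hX _ =>
        la_all le_rfl (fun f _ => base_odd hD hp f) _) f
  | succ k hk ih => exact la_all (by omega) (fun f _ => base_succ hD (by omega) f fun X hX _ => ih _) f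

end Cfsg.Lib.LK
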