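import Cfsg.Agent.Lib.LK.Amb
import Cfsg.Agent.Lib.LK.LA

set_option autoImplicit false

namespace Cfsg.Lib.LK

open Subgroup Cfsg.Lib.Transfer
open scoped commutatorElement

variable {p : ℕ} {G Ω : Type*} [Group G] [MulAction G Ω] {f : Fr p G Ω} {k : ℕ}
  {B : Type*} [AddCommGroup B] {ι : B → G}

/-- an abelian subgroup as a module for a group normalizing it -/
theorem gt_mod.{u} {G : Type u} [Group G] {Z H : Subgroup G} (hZ : ∀ x ∈ Z, ∀ y ∈ Z, x * y = y * x)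
    (hH : H ≤ normalizer (Z : Set G)) :
    ∃ (W : Type u) (_ : AddCommGroup W) (_ : DistribMulAction H W) (e : W → G), Function.Injective e ∧
      (∀ a b, e (a + b) = e a * e b) ∧ (∀ g, g ∈ Z ↔ ∃ w, e w = g) ∧
      ∀ (γ : H) w, e (γ • w) = γ * e w * (γ : G)⁻¹ := by
  let _ : CommGroup Z := { (inferInstance : Group Z) with mul_comm := fun a b => Subtype.ext (hZ a a.2 b b.2) }
  let σ : H → Z → Z := fun γ z => ⟨γ * z * (γ : G)⁻¹, (mem_normalizer_iff.1 (hH γ.2) _).1 z.2⟩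
  let I : DistribMulAction H (Additive Z) :=
    { smul := fun γ w => Additive.ofMul (σ γ w.toMul)
      one_smul := fun w => congrArg Additive.ofMul (Subtype.ext (by simp [σ]; rfl))
      mul_smul := fun g h w => congrArg Additive.ofMul (Subtype.ext (by
        change ((g * h : H) : G) * _ * _ = g * (h * _ * _) * _
        simp [mul_assoc]))
      smul_zero := fun g => congrArg Additive.ofMul (Subtype.ext (by simp [σ]))
      smul_add := fun g a b => congrArg Additive.ofMul (Subtype.ext (by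
        change (g : G) * (a.toMul * b.toMul) * _ = g * a.toMul * _ * (g * b.toMul * _)
        simp [mul_assoc])) }
  exact ⟨Additive Z, inferInstance, I, fun w => (w.toMul : G), fun a b h => Subtype.ext h, fun _ _ => rfl,
    fun g => ⟨fun h => ⟨Additive.ofMul ⟨g, h⟩, rfl⟩, by rintro ⟨w, rfl⟩; exact w.toMul.2⟩, fun _ _ => rfl⟩

theorem gt_card_le [Finite G] (A C : Subgroup G) :
    Nat.card A * Nat.card C ≤ Nat.card ↥(A ⊔ C) * Nat.card ↥(C ⊓ A) := by
  have h1 : Nat.card ↥(C ⊓ A) * C.relIndex A = Nat.card A := by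
    rw [← inf_relIndex_right]; exact bo_card_mul inf_le_right
  have h2 : Nat.card C * C.relIndex (A ⊔ C) = Nat.card ↥(A ⊔ C) := bo_card_mul le_sup_right
  have h3 : C.relIndex A ≤ C.relIndex (A ⊔ C) :=
    relIndex_le_of_le_right le_sup_left FiniteIndex.index_ne_zero
  rw [← h1, ← h2]
  calc _ ≤ Nat.card ↥(C ⊓ A) * C.relIndex (A ⊔ C) * Nat.card C := by gcongr
    _ = _ := by ring

/-- an abelian subgroup of largest order is a best offender on every abelian subgroup -/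
theorem gt_best [Finite G] {Z P A A₀ : Subgroup G} (hZ : ∀ x ∈ Z, ∀ y ∈ Z, x * y = y * x) (hZP : Z ≤ P)
    (hA : A ∈ AbS G (dA P)) (hAP : A ≤ P) (h : A₀ ≤ A) :
    Nat.card A₀ * Nat.card ↥(Z ⊓ centralizer (A₀ : Set G)) ≤
      Nat.card A * Nat.card ↥(Z ⊓ centralizer (A : Set G)) := by
  refine (gt_card_le _ _).trans (Nat.mul_le_mul ?_ (card_le_of_le fun z hz => ⟨hz.1.1, ?_⟩))
  · rw [hA.2]
    refine le_dA ⟨?_, rfl⟩ (sup_le (h.trans hAP) (inf_le_left.trans hZP))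
    have : A₀ ⊔ Z ⊓ centralizer (A₀ : Set G) ≤ centralizer ((A₀ ⊔ Z ⊓ centralizer (A₀ : Set G) : Subgroup G) : Set G) := by
      refine sup_le (le_centralizer_iff.1 (sup_le (fun x hx y hy => hA.1 y (h hy) x (h hx)) inf_le_right))
        (le_centralizer_iff.1 (sup_le (le_centralizer_iff.1 inf_le_right) fun x hx y hy => hZ y hy.1 x hx.1))
    exact fun x hx y hy => this hy x hx
  · exact fun y hy => hA.1 y hy z (h hz.2)

theorem gt_up [Finite G] [Fact p.Prime] {X : Subgroup G} (hX : f.Ob X) {m : ℕ} (hm : dA X = m)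
    (hJ : J (AbS G m) X = X) : Up (f.loc X hX) (fun P => ¬ (dA P = m ∧ J (AbS G m) P = X)) := by
  refine ⟨fun P P' hP _ hle h e => h ⟨?_, ?_⟩, fun P _ g hg h e => h ⟨?_, ?_⟩⟩
  · exact le_antisymm (e.1 ▸ dA_mono hle) (hm ▸ dA_mono hP.1)
  · exact le_antisymm (e.2 ▸ J_mono _ hle) (hJ ▸ J_mono _ hP.1)
  · rw [← dA_conj g, e.1]
  · have := e.2
    rw [J_conj (inv_AbS ⊤ m) (mem_top g)] at this
    exact conj_inj.1 (this.trans (conj_eq_self_iff.2 hg.2).symm)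

theorem gt_sys (h : ∀ P, f.Ob P → Cen p ⊥ P) : Sys f zN zO := by
  have := sys_z (f := f) (𝒰 := fun _ => True) ⟨fun _ _ _ _ _ _ => trivial, fun _ _ _ _ _ => trivial⟩
    fun P hP _ => h P hP
  rwa [show on (fun _ : Subgroup G => True) zN = zN from funext fun _ => on_pos trivial,
    show on (fun _ : Subgroup G => True) zO = zO from funext fun _ => on_pos trivial] at this

theorem gt_comm (X : Subgroup G) : ∀ x ∈ Zc X, ∀ y ∈ Zc X, x * y = y * x :=
  fun x hx _ hy => (mem_Zc.1 hy).2 x (mem_Zc.1 hx).1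

/-- The slice at a centric `X = J(X)`.  `f₁ = f.loc X hX`, `Γ = f₁.H`, `W = Additive (Zc X)` with the
conjugation action of `Γ`; `van_CA` with `f₁.sub`, `π = alift (fun g => if g ∈ Zc X then g else 0)`,
`R P = {(v, w) | v ∈ N (P.map φ), π v = w}`; `Zc P = C_{Zc X}(P)` for objects (`Cen.Zc_le`), kernel by
`sN_nf`.  `van_LA` with `Q' P = Q (P.map φ)`; if `Q P` then an abelian `B ≤ P` of order `dA P` has
order `> m` or is not in `X`, and `B ⊔ X` is a best offender: for `X ≤ B₁ ≤ B ⊔ X`, `B₀ = B ⊓ B₁`,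
`B₀ C_Z(B₀)` is abelian, so `|B₀| |C_Z(B₀)| ≤ |B| |B₀ ⊓ Z| ≤ |B| |C_Z(B)|` (`AbS.cent`). -/
theorem van_GTa [Finite G] [Fact p.Prime] (hk : 2 ≤ k) {X : Subgroup G} (hX : f.Ob X)
    (hc : Cen p ⊥ X) {m : ℕ} (hm : dA X = m) (hJ : J (AbS G m) X = X) :
    Van (f.loc X hX) (ite' (fun P => ¬ (dA P = m ∧ J (AbS G m) P = X)) zO zN) zO k := by
  classical
  have hZ := gt_comm X
  set f₁ := f.loc X hX with hf
  set Q : Subgroup G → Prop := fun P => ¬ (dA P = m ∧ J (AbS G m) P = X) with hQ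
  have hU : Up f₁ Q := gt_up hX hm hJ
  have hS : Sys f₁ zN zO := gt_sys fun P hP => hc.mono hP.1
  have hF : Fam f₁ (ite' Q zO zN) := fam_ite' hU hS.fO hS.fN hS.le
  have hL := le_ite' Q hS.le
  have hz : ∀ P, f₁.Ob P → Zc P ≤ Zc X := fun P hP => hc.Zc_le hP.1 hP.2.2
  obtain ⟨W, _, _, e, ei, ea, em, es⟩ := gt_mod (H := f₁.H) hZ fun g hg =>
    conj_eq_self_iff.1 (by rw [← Zc_conj, conj_eq_self_iff.2 hg.2])
  haveI : Finite W := Finite.of_injective e ei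
  have e0 : e 0 = 1 := by simpa using ea 0 0
  have en : ∀ (n : ℕ) w, e (n • w) = e w ^ n := fun n w => by
    induction n with
    | zero => simpa using e0
    | succ n ih => rw [succ_nsmul, ea, ih, pow_succ]
  let ψ : G → W := Function.invFun e
  have hψ : ∀ w, ψ (e w) = w := Function.leftInverse_invFun ei
  have h0 : ∀ P, f₁.Ob P → ∀ v ∈ zO P, alift ψ v = 0 := fun P hP v hv => by
    refine alift_sO (fun x hx y hy => ?_) (sO_mono (hz P hP) hv)
    obtain ⟨a, rfl⟩ := (em x).1 hx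
    obtain ⟨b, rfl⟩ := (em y).1 hy
    rw [← ea, hψ, hψ, hψ]
  have hq : ∀ (γ : f₁.H), ∀ v ∈ sN (Zc X), alift ψ ((γ : G) • v) = γ • alift ψ v := fun γ v hv => by
    refine AddMonoidHom.eqOn_closure (f := (alift ψ).comp (DistribSMul.toAddMonoidHom _ (γ : G)))
      (g := (DistribSMul.toAddMonoidHom _ γ).comp (alift ψ)) ?_ hv
    rintro _ ⟨x, hx, rfl⟩
    obtain ⟨a, rfl⟩ := (em x).1 hx
    simp only [AddMonoidHom.comp_apply, DistribSMul.toAddMonoidHom_apply, smul_am, alift_am, ← es, hψ]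
  have hob : ∀ P, f₁.sub.Ob P → f₁.Ob (P.map f₁.H.subtype) := fun P hP =>
    ⟨fun x hx => ⟨⟨x, f₁.Yle hx⟩, hP.1 hx, rfl⟩, map_subtype_le _, hP.2.2.map _⟩
  have hN : ∀ P, f₁.Ob P → ∀ v ∈ ite' Q zO zN P, v ∈ sN (Zc P) := fun P hP v hv => hL.2 P hP hv
  have hcard : ∀ A : Subgroup f₁.H, Nat.card (fx W A) =
      Nat.card ↥(Zc X ⊓ centralizer ((A.map f₁.H.subtype : Subgroup G) : Set G)) := fun A => by
    refine Nat.card_congr (Equiv.ofBijective (fun w => ⟨e w, (em _).2 ⟨_, rfl⟩, ?_⟩)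
      ⟨fun a b h => Subtype.ext (ei (congrArg Subtype.val h)), fun z => ?_⟩)
    · rintro _ ⟨γ, hγ, rfl⟩
      exact mul_inv_eq_iff_eq_mul.1 ((es γ w).symm.trans (congrArg e (w.2 γ hγ)))
    · obtain ⟨w, hw⟩ := (em _).1 z.2.1
      refine ⟨⟨w, fun γ hγ => ei ?_⟩, Subtype.ext hw⟩
      rw [es, hw]
      exact mul_inv_eq_iff_eq_mul.2 (z.2.2 _ ⟨γ, hγ, rfl⟩)
  let R : Subgroup f₁.H → AddSubgroup (Amb G × W) := fun P =>
    (ite' Q zO zN (P.map f₁.H.subtype)).map ((AddMonoidHom.id _).prod (alift ψ))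
  have hR : ∀ P v w, (v, w) ∈ R P ↔ v ∈ ite' Q zO zN (P.map f₁.H.subtype) ∧ alift ψ v = w := fun P v w =>
    ⟨by rintro ⟨u, hu, h⟩; obtain ⟨rfl, rfl⟩ := Prod.mk.inj h; exact ⟨hu, rfl⟩, fun h => ⟨v, h.1, Prod.ext rfl h.2⟩⟩
  refine (van_CA (f' := f₁.sub) (N₁ := Rf W fun P => Q (P.map f₁.H.subtype)) (O₁ := Z0 _ W) f₁.H.subtype
    (fun _ _ _ => rfl) (by rw [Fr.sub, ← MonoidHom.range_eq_map, range_subtype]) rfl R
    (fun P P' hP hP' hle => AddSubgroup.map_mono (hF.anti _ _ hP.2.1 hP'.2.1 (map_mono hle)))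
    (fun P hP γ _ v w h => ?_) (fun P hP v hv => ⟨_, (hR _ _ _).2 ⟨hv, rfl⟩⟩) (fun P hP w hw => ?_)
    (fun P hP v w h => ?_) (by omega)).2
    (van_LA ?_ hk f₁.sub _ ⟨fun P P' hP hP' hle => hU.up _ _ (hob P hP) (hob P' hP') (map_mono hle),
      fun P hP γ _ h => ?_⟩ fun P hP h h' => h ?_)
  · rw [hR] at h ⊢
    rw [lam_map_conj]
    exact ⟨hF.eqv _ hP.2.1 _ γ.2 v h.1, h.2 ▸ hq γ v (sN_mono (hz _ hP.2.1) (hN _ hP.2.1 v h.1))⟩
  · by_cases h : Q (P.map f₁.H.subtype)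
    · rw [Rf, ite'_pos (P := P) h] at hw
      exact ⟨0, by rw [show w = 0 from hw]; exact zero_mem _⟩
    · rw [Rf, ite'_neg (P := P) h] at hw
      refine ⟨am (e w), (hR _ _ _).2 ⟨?_, by rw [alift_am, hψ]⟩⟩
      rw [ite'_neg h]
      refine am_mem_sN (mem_Zc.2 ⟨hP.2.1.1 (mem_Zc.1 ((em _).2 ⟨w, rfl⟩)).1, ?_⟩)
      rintro _ ⟨γ, hγ, rfl⟩
      exact mul_inv_eq_iff_eq_mul.1 ((es γ w).symm.trans (congrArg e (hw γ hγ)))
  · obtain ⟨h1, rfl⟩ := (hR _ _ _).1 h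
    have h2 := hN _ hP.2.1 v h1
    refine ⟨h1, ?_, h0 _ hP.2.1 v, fun h3 => ?_⟩
    · by_cases h3 : Q (P.map f₁.H.subtype)
      · rw [Rf, ite'_pos (P := P) h3]
        rw [ite'_pos h3] at h1
        exact h0 _ hP.2.1 v h1
      · rw [Rf, ite'_neg (P := P) h3]
        intro γ hγ
        rw [← hq γ v (sN_mono (hz _ hP.2.1) h2),
          smul_eq_of_centralizer (g := (γ : G)) (fun z hz => (mem_Zc.1 hz).2 _ (mem_map_of_mem _ hγ)) h2]
    · obtain ⟨z, h4, h5⟩ := sN_nf h2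
      obtain ⟨a, rfl⟩ := (em z).1 (hz _ hP.2.1 h4)
      have h6 := h0 _ hP.2.1 _ h5
      rw [map_sub, show alift ψ v = 0 from h3, alift_am, hψ, zero_sub, neg_eq_zero] at h6
      rw [h6, e0] at h5
      simpa [zO] using add_mem h5 am_one_mem_sO
  · obtain ⟨n, hn⟩ := hX.2.2.exists_card_eq
    refine ⟨n, fun w => ei ?_⟩
    rw [en, e0, ← hn]
    exact congrArg Subtype.val (pow_card_eq_one' (x := (⟨e w, (mem_Zc.1 ((em _).2 ⟨w, rfl⟩)).1⟩ : X)))
  · rw [lam_map_conj]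
    exact hU.cj _ (hob P hP) _ γ.2 h
  · have h1 := hob P hP
    have key : ∀ A ∈ AbS G (dA (P.map f₁.H.subtype)), A ≤ P.map f₁.H.subtype →
        A ≤ (J (BoS W f₁.sub.Y) P).map f₁.H.subtype := fun A hA hAP => by
      have h2 : (A.subgroupOf f₁.H).map f₁.H.subtype = A := map_subgroupOf_eq_of_le (hAP.trans h1.2.1)
      have h3 : Bo W ⊥ (A.subgroupOf f₁.H) := by
        refine ⟨bot_le, fun a ha b hb v _ => ?_, fun A₀ _ h3 => ?_⟩
        · rw [← mul_smul, ← mul_smul, show a * b = b * a from Subtype.ext (hA.1 _ ha _ hb)]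
        · rw [hcard, hcard, ← card_map_of_injective (K := A₀) f₁.H.subtype_injective,
            ← card_map_of_injective (K := A.subgroupOf f₁.H) f₁.H.subtype_injective, h2]
          exact gt_best hZ (inf_le_left.trans h1.1) hA hAP (h2 ▸ map_mono h3)
      have h4 := h3.sup (X := f₁.sub.Y) bot_le (le_top.trans f₁.sub.Yn)
      rw [← h2]
      refine map_mono (le_sup_left.trans (le_J h4 (sup_le ?_ hP.1)))
      rwa [← map_subtype_le_map_subtype, h2]
    obtain ⟨A, hA, hAP⟩ := exists_AbS (P.map f₁.H.subtype)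
    have h2 : dA (P.map f₁.H.subtype) = m :=
      le_antisymm (h'.1 ▸ le_dA hA (key A hA hAP)) (hm ▸ dA_mono h1.1)
    refine ⟨h2, le_antisymm (J_le_iff.2 fun A hA hAP => ?_) (hJ ▸ J_mono _ h1.1)⟩
    rw [← h'.2]
    exact le_J hA (key A (h2 ▸ hA) hAP)

end Cfsg.Lib.LK
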