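import Cfsg.Agent.Lib.LK.Tv

set_option autoImplicit false

namespace Cfsg.Lib.LK

open Subgroup Cfsg.Lib.Transfer
open scoped commutatorElement

variable {Γ Ω W : Type*} [Group Γ] [MulAction Γ Ω] [AddCommGroup W] [DistribMulAction Γ W]

variable [FaithfulSMul Γ W]

/-- the component of `a` in the non-commuting graph -/
def Cp (W : Type*) [AddCommGroup W] [DistribMulAction Γ W] (a b : Γ) : Prop :=
  Relation.ReflTransGen (fun x y : Γ => Tv W y ∧ Bb W x y) a b

theorem kp_cm (hs : Sy Γ W) {a b : Γ} (ha : Tv W a) (hb : Tv W b) : a * b = b * a ↔ ¬ Bb W a b :=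
  (ha.comm_iff hb).trans ⟨fun h => h.1, fun h => ⟨h, fun h1 => h (hs.symm _ _ hb ha h1)⟩⟩

omit [FaithfulSMul Γ W] in
theorem Cp.tv {a b : Γ} (ha : Tv W a) (h : Cp W a b) : Tv W b := by
  induction h with
  | refl => exact ha
  | tail _ h _ => exact h.1

omit [FaithfulSMul Γ W] in
theorem Cp.symm (hs : Sy Γ W) {a b : Γ} (ha : Tv W a) (h : Cp W a b) : Cp W b a := by
  induction h with
  | refl => exact .refl
  | tail h1 h ih => exact .head ⟨Cp.tv ha h1, hs.symm _ _ (Cp.tv ha h1) h.1 h.2⟩ ih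

omit [FaithfulSMul Γ W] in
theorem kp_ctr {b s : Γ} (hb : Tv W b) (hs : Tv W s) (h : Bb W b s) :
    ctr W (b * s * b⁻¹) = ctr W s + ctr W b := by
  rw [hs.ctr_conj, hb.smul_eq h]

omit [FaithfulSMul Γ W] in
theorem kp_bb {x b s : Γ} (hx : Tv W x) (hb : Tv W b) (hs : Tv W s) (h : Bb W b s) :
    Bb W x (b * s * b⁻¹) ↔ ¬ (Bb W x s ↔ Bb W x b) := by
  unfold Bb
  rw [kp_ctr hb hs h, ne_eq, hx.add_iff]
  tauto

theorem kp_cj (hs : Sy Γ W) {a b : Γ} (ha : Tv W a) (hb : Tv W b) (h : Bb W a b) :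
    (a * b) * a * (a * b)⁻¹ = b ∧ (a * b * a⁻¹) * a * (a * b * a⁻¹)⁻¹ = b := by
  have h1 : (a * b) * a * (a * b)⁻¹ = b := by
    rw [ha.braid hb h (hs.symm _ _ ha hb h)]; group
  exact ⟨h1, (by group : _ = (a * b) * a * (a * b)⁻¹).trans h1⟩

/-- distance at most 2.  Step `b → b'` with `s ∼ a`, `s ∼ b`: if not `a ∼ b'`, `s ∼ b'`, `a ∼ b`
then `b s b` (centre `ctr s + ctr b`) is adjacent to `a` and `b'`. -/
theorem Cp.dist (hs : Sy Γ W) {a b : Γ} (ha : Tv W a) (h : Cp W a b) :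
    b = a ∨ Bb W a b ∨ ∃ s, Tv W s ∧ Bb W s a ∧ Bb W s b := by
  induction h with
  | refl => exact Or.inl rfl
  | @tail b b' h1 h ih =>
    have hb := Cp.tv ha h1
    right
    by_cases h2 : Bb W a b
    · exact Or.inr ⟨b, hb, hs.symm _ _ ha hb h2, h.2⟩
    rcases ih with rfl | ih | ⟨s, h3, h4, h5⟩
    · exact Or.inl h.2
    · exact absurd ih h2
    by_cases h6 : Bb W s b'
    · exact Or.inr ⟨s, h3, h4, h6⟩
    have h7 := hs.symm _ _ h3 hb h5
    refine Or.inr ⟨_, h3.conj b, hs.symm _ _ ha (h3.conj b) ((kp_bb ha hb h3 h7).2 fun e => ?_),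
      hs.symm _ _ h.1 (h3.conj b) ((kp_bb h.1 hb h3 h7).2 fun e => ?_)⟩
    · exact h2 (e.1 (hs.symm _ _ h3 ha h4))
    · exact h6 (hs.symm _ _ h.1 h3 (e.2 (hs.symm _ _ hb h.1 h.2)))

/-- `s' = b a s a b` has centre `ctr s + ctr a + ctr b` and commutes with `s`; `g = s s'` is an
involution with `g a g⁻¹ = b`; for `e` fixed by `a`, `b`: `s` fixes `e` iff `s'` does, and
`e - g e ∈ {0, ctr s + ctr s'}`. -/
theorem swap (hs : Sy Γ W) {a b s : Γ} (ha : Tv W a) (hb : Tv W b) (hs' : Tv W s) (hne : a ≠ b)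
    (hc : a * b = b * a) (h1 : Bb W s a) (h2 : Bb W s b) :
    ∃ g : Γ, g * g = 1 ∧ g * a * g⁻¹ = b ∧ ∀ e : W, a • e = e → b • e = e →
      e - g • e = 0 ∨ e - g • e = ctr W a + ctr W b := by
  have ab : a • ctr W b = ctr W b := not_not.1 ((kp_cm hs ha hb).1 hc)
  have ba : b • ctr W a = ctr W a := not_not.1 ((kp_cm hs hb ha).1 hc.symm)
  have as := ha.smul_eq (hs.symm _ _ hs' ha h1)
  have bs := hb.smul_eq (hs.symm _ _ hs' hb h2)
  have sa := hs'.smul_eq h1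
  have sb := hs'.smul_eq h2
  have a2 := ha.ctr_two
  have b2 := hb.ctr_two
  have s2 := hs'.ctr_two
  have ht := hs'.conj (b * a)
  have hsm : ∀ e : W, a • e = e → b • e = e → (b * a * s * (b * a)⁻¹) • e = b • a • s • e :=
    fun e e1 e2 => by
      rw [mul_inv_rev, ha.inv_eq, hb.inv_eq]
      simp only [mul_smul, e1, e2]
  have hct := hs'.ctr_conj (b * a)
  rw [mul_smul, as, smul_add, bs, ba] at hct
  generalize b * a * s * (b * a)⁻¹ = t at ht hct hsm
  have st : s • ctr W t = ctr W t := by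
    rw [hct, smul_add, smul_add, hs'.ctr_fix, sa, sb]
    linear_combination (norm := abel) s2
  have hcm : s * t = t * s := (kp_cm hs hs' ht).2 (not_not.2 st)
  have ta : t • ctr W a = ctr W a + ctr W t := ht.smul_eq (hs.symm _ _ ha ht fun e => by
    rw [hct, smul_add, smul_add, as, ab, ha.ctr_fix] at e
    exact ha.ctr_ne (by linear_combination (norm := abel) e))
  refine ⟨s * t, ?_, hs.inj _ _ (ha.conj _) hb ?_, fun e e1 e2 => ?_⟩
  · calc s * t * (s * t) = s * (t * s) * t := by group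
      _ = (s * s) * (t * t) := by rw [← hcm]; group
      _ = 1 := by rw [hs'.sq, ht.sq, one_mul]
  · rw [ha.ctr_conj, mul_smul, ta, smul_add, st, sa, hct]
    linear_combination (norm := abel) s2 + a2
  · rw [mul_smul, hsm e e1 e2]
    rcases hs'.cases e with h3 | h3
    · left
      rw [h3, e1, e2, h3, sub_self]
    · right
      rw [h3, smul_add a, e1, as, smul_add b, e2, smul_add b, bs, ba, ← hct, smul_add, h3, st, hct]
      linear_combination (norm := abel) -(s2 + a2 + b2)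

/-- `b = g a g⁻¹` with `g` a product of members of the component (`y = (x y) x (x y)⁻¹` by `braid`);
such a `g` commutes with every transvection `s` outside the component and moves each `w` by a sum
of centres, which `s` fixes. -/
theorem Cp.conj (hs : Sy Γ W) {a b : Γ} (ha : Tv W a) (h : Cp W a b) :
    ∃ g : Γ, g * a * g⁻¹ = b ∧ ∀ s, Tv W s → ¬ Cp W a s →
      g * s = s * g ∧ ∀ w : W, s • (g • w - w) = g • w - w := by
  have h0 : ∀ x, Cp W a x → ∀ s, Tv W s → ¬ Cp W a s →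
      x * s = s * x ∧ ∀ w : W, s • (x • w - w) = x • w - w := fun x hx s h1 h2 => by
    have h3 : ¬ Bb W x s := fun h4 => h2 (hx.tail ⟨h1, h4⟩)
    have h4 := Cp.tv ha hx
    refine ⟨(kp_cm hs h4 h1).2 h3, fun w => ?_⟩
    rcases h4.cases w with e | e
    · rw [e, sub_self, smul_zero]
    · rw [e, add_sub_cancel_left]
      exact not_not.1 fun h5 => h3 (hs.symm _ _ h1 h4 h5)
  induction h with
  | refl => exact ⟨1, by simp, fun s _ _ => by simp⟩
  | @tail b b' h1 h ih =>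
    obtain ⟨g, rfl, hg⟩ := ih
    refine ⟨g * a * g⁻¹ * b' * g, ?_, fun s h2 h3 => ?_⟩
    · exact (by group : _ = (g * a * g⁻¹ * b') * (g * a * g⁻¹) * (g * a * g⁻¹ * b')⁻¹).trans
        (kp_cj hs (ha.conj g) h.1 h.2).1
    obtain ⟨x1, x2⟩ := h0 _ h1 s h2 h3
    obtain ⟨y1, y2⟩ := h0 _ (h1.tail h) s h2 h3
    obtain ⟨z1, z2⟩ := hg s h2 h3
    generalize g * a * g⁻¹ = x at x1 x2
    refine ⟨((Commute.mul_left x1 y1).mul_left z1).eq, fun w => ?_⟩
    have e : (x * b' * g) • w - w =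
        (x • b' • g • w - b' • g • w) + (b' • g • w - g • w) + (g • w - w) := by
      simp only [mul_smul]; abel
    rw [e, smul_add, smul_add, x2, y2, z2]

/-- The potential.  Fix `a₀` (if there is no transvection, `h = 0`).  One component: for commuting
`a ≠ b`, `k a b ∈ {0, ctr a + ctr b}` (`dist`, `swap`, `k4`); whether `k a b = 0` does not depend on
`b` (`b, b'` commuting: `k3` and `inj`; `b ∼ b'`: `s = b b' b` commutes with `a`, `b' = s b s`, `k2`)
and is symmetric (`k b a = - k a b`); `h a = ctr a` or `0`.  Else fix `b₀` outside the component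
`C` of `a₀`; `h a = k a a₀` off `C`, `h a = k a b₀ + k b₀ a₀` on `C`.  For `a ∈ C`, `b ∉ C` show
`k a b - k a b₀` does not depend on `a`: if `b, b₀` commute it is `k b₀ b`; else `b = s b₀ s` with
`s = b b₀ b ∉ C`, it is `s u - u`, `u = k a b₀ = g • k a₀ b₀` (`Cp.conj`). -/
theorem kp (hs : Sy Γ W) (k : Γ → Γ → W)
    (k2 : ∀ g a b : Γ, Tv W a → Tv W b → a * b = b * a →
      k (g * a * g⁻¹) (g * b * g⁻¹) = g • k a b)
    (k3 : ∀ a b c : Γ, Tv W a → Tv W b → Tv W c → a * b = b * a → b * c = c * b → a * c = c * a →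
      k a b + k b c = k a c)
    (k4 : ∀ a b g : Γ, Tv W a → Tv W b → a * b = b * a → g * g = 1 → g * a * g⁻¹ = b →
      ∃ e : W, a • e = e ∧ b • e = e ∧ k a b = e - g • e) :
    ∃ h : Γ → W, ∀ a b, Tv W a → Tv W b → a * b = b * a → k a b = h a - h b := by
  classical
  have k0 : ∀ a, Tv W a → k a a = 0 := fun a ha => by simpa using k3 a a a ha ha ha rfl rfl rfl
  have ks : ∀ a b, Tv W a → Tv W b → a * b = b * a → k b a = - k a b := fun a b ha hb h =>
    eq_neg_of_add_eq_zero_right ((k3 a b a ha hb ha h h.symm rfl).trans (k0 a ha))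
  have kc : ∀ a b b', Tv W a → Tv W b → Tv W b' → a * b = b * a → a * b' = b' * a → Bb W b b' →
      k a b' = (b * b' * b⁻¹) • k a b := fun a b b' ha hb hb' h h' h1 => by
    have h2 : (b * b' * b⁻¹) * a * (b * b' * b⁻¹)⁻¹ = a := by
      rw [mul_inv_eq_iff_eq_mul]
      have h3 : Commute a b := h
      exact ((h3.mul_right h').mul_right h3.inv_right).eq.symm
    rw [← k2 _ a b ha hb h, h2, (kp_cj hs hb hb' h1).2]
  by_cases h0 : ∃ a₀ : Γ, Tv W a₀
  swap
  · exact ⟨0, fun a b ha => absurd ⟨a, ha⟩ h0⟩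
  obtain ⟨a₀, ha₀⟩ := h0
  by_cases h1 : ∀ b : Γ, Tv W b → Cp W a₀ b
  · have kA : ∀ a b, Tv W a → Tv W b → a * b = b * a → a ≠ b → k a b ≠ 0 →
        k a b = ctr W a + ctr W b := fun a b ha hb h hne hk => by
      rcases Cp.dist hs ha (.trans ((h1 a ha).symm hs ha₀) (h1 b hb)) with e | e | ⟨s, s1, s2, s3⟩
      · exact absurd e.symm hne
      · exact absurd e ((kp_cm hs ha hb).1 h)
      obtain ⟨g, g1, g2, g3⟩ := swap hs ha hb s1 hne h s2 s3
      obtain ⟨e, e1, e2, e3⟩ := k4 a b g ha hb h g1 g2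
      rw [e3] at hk ⊢
      exact (g3 e e1 e2).resolve_left hk
    have kB : ∀ a b b', Tv W a → Tv W b → Tv W b' → a * b = b * a → a * b' = b' * a → a ≠ b →
        k a b = 0 → k a b' = 0 := fun a b b' ha hb hb' h h' hne hk => by
      by_cases h2 : Bb W b b'
      · rw [kc a b b' ha hb hb' h h' h2, hk, smul_zero]
      have h3 := (kp_cm hs hb hb').2 h2
      have h4 := k3 a b b' ha hb hb' h h3 h'
      rw [hk, zero_add] at h4
      by_contra h5
      have h6 := kA a b' ha hb' h' (fun e => h5 (e ▸ k0 a ha)) h5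
      rw [← h4] at h5
      rw [kA b b' hb hb' h3 (fun e => h5 (e ▸ k0 b hb)) h5, h6] at h4
      exact hne (hs.inj _ _ ha hb (add_right_cancel h4).symm)
    refine ⟨fun a => if ∃ b, Tv W b ∧ a * b = b * a ∧ k a b ≠ 0 then ctr W a else 0,
      fun a b ha hb h => ?_⟩
    by_cases hne : a = b
    · rw [hne, k0 b hb, sub_self]
    by_cases hk : k a b = 0
    · have hk' : k b a = 0 := by rw [ks a b ha hb h, hk, neg_zero]
      simp only
      rw [if_neg fun ⟨c, c1, c2, c3⟩ => c3 (kB a b c ha hb c1 h c2 hne hk),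
        if_neg fun ⟨c, c1, c2, c3⟩ => c3 (kB b a c hb ha c1 h.symm c2 (Ne.symm hne) hk'), hk, sub_self]
    · have hk' : k b a ≠ 0 := by rwa [ks a b ha hb h, neg_ne_zero]
      simp only
      rw [if_pos ⟨b, hb, h, hk⟩, if_pos ⟨a, ha, h.symm, hk'⟩, kA a b ha hb h hne hk]
      linear_combination (norm := abel) hb.ctr_two
  push Not at h1
  obtain ⟨b₀, hb₀, h1⟩ := h1
  have hc : ∀ a b, Cp W a₀ a → Tv W b → ¬ Cp W a₀ b → a * b = b * a := fun a b ha hb h =>
    (kp_cm hs (Cp.tv ha₀ ha) hb).2 fun e => h (ha.tail ⟨hb, e⟩)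
  have kD : ∀ a b, Cp W a₀ a → Tv W b → ¬ Cp W a₀ b →
      k a b = k a b₀ + k b₀ a₀ - k b a₀ := fun a b ha hb h => by
    have ha' := Cp.tv ha₀ ha
    rw [ks a₀ b₀ ha₀ hb₀ (hc _ _ .refl hb₀ h1), ks a₀ b ha₀ hb (hc _ _ .refl hb h)]
    by_cases h2 : Bb W b₀ b
    · obtain ⟨g, rfl, hg⟩ := Cp.conj hs ha₀ ha
      have h3 : ¬ Cp W a₀ (b₀ * b * b₀⁻¹) := fun e => h1 (e.tail ⟨hb₀, hs.symm _ _ hb₀ (hb.conj _)
        ((kp_bb hb₀ hb₀ hb h2).2 fun e' => hb₀.not_Bb (e'.1 h2))⟩)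
      have h4 := k2 g a₀ b₀ ha₀ hb₀ (hc _ _ .refl hb₀ h1)
      rw [(hg b₀ hb₀ h1).1, mul_inv_cancel_right] at h4
      have h5 := (hg _ (hb.conj _) h3).2 (k a₀ b₀)
      rw [smul_sub] at h5
      rw [kc _ b₀ b ha' hb₀ hb (hc _ _ ha hb₀ h1) (hc _ _ ha hb h) h2,
        kc _ b₀ b ha₀ hb₀ hb (hc _ _ .refl hb₀ h1) (hc _ _ .refl hb h) h2, h4]
      linear_combination (norm := abel) h5
    · have h3 := (kp_cm hs hb₀ hb).2 h2
      rw [← k3 a b₀ b ha' hb₀ hb (hc _ _ ha hb₀ h1) h3 (hc _ _ ha hb h),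
        ← k3 a₀ b₀ b ha₀ hb₀ hb (hc _ _ .refl hb₀ h1) h3 (hc _ _ .refl hb h)]
      abel
  refine ⟨fun a => if Cp W a₀ a then k a b₀ + k b₀ a₀ else k a a₀, fun a b ha hb h => ?_⟩
  simp only
  by_cases h2 : Cp W a₀ a <;> by_cases h3 : Cp W a₀ b
  · rw [if_pos h2, if_pos h3, ← k3 a b b₀ ha hb hb₀ h (hc _ _ h3 hb₀ h1) (hc _ _ h2 hb₀ h1)]
    abel
  · rw [if_pos h2, if_neg h3, kD a b h2 hb h3]
  · rw [if_neg h2, if_pos h3, ks b a hb ha h.symm, kD b a h3 ha h2, neg_sub]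
  · rw [if_neg h2, if_neg h3, ← k3 a b a₀ ha hb ha₀ h (hc _ _ .refl hb h3).symm
      (hc _ _ .refl ha h2).symm]
    abel

end Cfsg.Lib.LK
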