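import Cfsg.Agent.Lib.LK.Bas

set_option autoImplicit false

namespace Cfsg.Lib.LK

open Subgroup Cfsg.Lib.Transfer
open scoped commutatorElement

variable {p : ℕ} {G Ω D : Type*} [Group G] [MulAction G Ω] [AddCommGroup D] [DistribMulAction G D]
  {f : Fr p G Ω} {N O M N' O' : Subgroup G → AddSubgroup D} {Q : Subgroup G → Prop} {k : ℕ}

/-- orbit representatives of lists -/
theorem exists_lrep (H : Subgroup G) : ∃ (r : List Ω → List Ω) (h : List Ω → G),
    (∀ l, h l ∈ H ∧ act (h l) (r l) = l) ∧ ∀ l, ∀ g ∈ H, r (act g l) = r l := by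
  let s : Setoid (List Ω) :=
    ⟨fun l l' => ∃ g ∈ H, act g l = l', fun l => ⟨1, one_mem _, act_one l⟩,
      fun ⟨g, hg, e⟩ => ⟨g⁻¹, inv_mem hg, by rw [← e, act_act, inv_mul_cancel, act_one]⟩,
      fun ⟨g, hg, e⟩ ⟨g', hg', e'⟩ => ⟨g' * g, mul_mem hg' hg, by rw [← act_act, e, e']⟩⟩
  have h : ∀ l : List Ω, ∃ g ∈ H, act g (Quotient.mk s l).out = l := fun l => Quotient.mk_out (s := s) l
  choose h h1 h2 using h
  refine ⟨fun l => (Quotient.mk s l).out, h, fun l => ⟨h1 l, h2 l⟩, fun l g hg => ?_⟩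
  have : Quotient.mk s l = Quotient.mk s (act g l) := Quotient.sound ⟨g, hg, rfl⟩
  simp only [this]

/-- Re-equivariantize: choose a representative `l₀` in each `H`-orbit of lists and `h ∈ H` with
`act h l₀ = l`, put `c' l = h • c l₀`; two choices of `h` differ by an element of `st l₀`, which acts
trivially on `N / O` (`triv`). -/
theorem reeqv (hS : Sys f N O) (hM : Fam f M) (h1 : Le f O M) (h2 : Le f M N) {n : ℕ} (hn : 1 ≤ n)
    {c : List Ω → D} (hc : Eqv f N M n c) :
    ∃ c', Eqv f N O n c' ∧ ∀ l, f.In l → l.length = n → c' l - c l ∈ M (f.st l) := by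
  obtain ⟨r, h, hr, hi⟩ := exists_lrep (Ω := Ω) f.H
  have key : ∀ l, f.In l → l.length = n → f.In (r l) ∧ (r l).length = n := fun l hl e => by
    have : r l = act (h l)⁻¹ l := by
      have := congrArg (act (h l)⁻¹) (hr l).2
      rwa [act_act, inv_mul_cancel, act_one] at this
    exact ⟨this ▸ hl.act (inv_mem (hr l).1), by rw [this, length_act, e]⟩
  refine ⟨fun l => h l • c (r l), fun l hl e => ⟨?_, fun g hg => ?_⟩, fun l hl e => ?_⟩
  · obtain ⟨a, b⟩ := key l hl e
    have := hS.fN.eqv _ (Fr.ob_st' a b hn) _ (hr l).1 _ (hc _ a b).1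
    rwa [← Fr.st_act _ (hr l).1, (hr l).2] at this
  · obtain ⟨a, b⟩ := key l hl e
    have hgh : g * h l ∈ f.H := mul_mem hg (hr l).1
    have e1 : act (g * h l) (r l) = act g l := by rw [← act_act, (hr l).2]
    have e2 : act (h (act g l)) (r l) = act g l := by
      have := (hr (act g l)).2
      rwa [hi l g hg] at this
    have hs : (g * h l)⁻¹ * h (act g l) ∈ f.st (r l) :=
      Fr.mem_st_of_act_eq (mul_mem (inv_mem hgh) (hr _).1) (by
        rw [← act_act, e2, ← e1, act_act, inv_mul_cancel, act_one])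
    have ho := Fr.ob_st' a b hn
    have := hS.fO.eqv _ ho _ hgh _ (hS.triv _ ho _ hs _ (hc _ a b).1)
    rw [← Fr.st_act _ hgh, e1, smul_sub, smul_smul, mul_inv_cancel_left, mul_smul] at this
    simpa only [hi l g hg] using this
  · obtain ⟨a, b⟩ := key l hl e
    have := neg_mem ((hc _ a b).2 _ (hr l).1)
    rwa [(hr l).2, neg_sub] at this

/-- `d` of an equivariant cochain is equivariant (`d_mem`, `d_act`, `anti`) -/
theorem Eqv.d (hS : Sys f N O) {n : ℕ} (hn : 1 ≤ n) {c : List Ω → D} (hc : Eqv f N O n c) :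
    Eqv f N O (n + 1) (d c) := by
  intro l hl e
  refine ⟨hc.d_mem_N hS.fN hn hl e, fun g hg => ?_⟩
  rw [d_act]
  refine d_mem _ _ l fun m hm em => ?_
  have a := hl.sub hm
  exact hS.fO.anti _ _ (Fr.ob_st' (hl.act hg) (n := n + 1) (by rw [length_act, e]) (by omega))
    (Fr.ob_st' (a.act hg) (n := n) (by rw [length_act]; omega) hn)
    (Fr.st_sub (act_sublist g hm)) ((hc m a (by omega)).2 g hg)

theorem Eqv.sub {n : ℕ} {c c' : List Ω → D} (hc : Eqv f N O n c) (hc' : Eqv f N O n c') :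
    Eqv f N O n (fun l => c l - c' l) := fun l hl e =>
  ⟨sub_mem (hc l hl e).1 (hc' l hl e).1, fun g hg => by
    have := sub_mem ((hc l hl e).2 g hg) ((hc' l hl e).2 g hg)
    rwa [show c (act g l) - g • c l - (c' (act g l) - g • c' l)
      = c (act g l) - c' (act g l) - g • (c l - c' l) by rw [smul_sub]; abel] at this⟩

theorem Eqv.add {n : ℕ} {c c' : List Ω → D} (hc : Eqv f N O n c) (hc' : Eqv f N O n c') :
    Eqv f N O n (fun l => c l + c' l) := fun l hl e =>
  ⟨add_mem (hc l hl e).1 (hc' l hl e).1, fun g hg => by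
    have := add_mem ((hc l hl e).2 g hg) ((hc' l hl e).2 g hg)
    rwa [show c (act g l) - g • c l + (c' (act g l) - g • c' l)
      = c (act g l) + c' (act g l) - g • (c l + c' l) by rw [smul_add]; abel] at this⟩

theorem Eqv.mono {n : ℕ} {c : List Ω → D} (hc : Eqv f N O n c) (hn : 1 ≤ n) (h1 : Le f N N')
    (h2 : Le f O O') : Eqv f N' O' n c := fun l hl e =>
  ⟨h1 _ (Fr.ob_st' hl e hn) (hc l hl e).1, fun g hg =>
    h2 _ (Fr.ob_st' (hl.act hg) (by rw [length_act, e]) hn) ((hc l hl e).2 g hg)⟩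

theorem Eqv.of_mem {n : ℕ} {c : List Ω → D} (hc : Eqv f N O n c)
    (h : ∀ l, f.In l → l.length = n → c l ∈ M (f.st l)) : Eqv f M O n c :=
  fun l hl e => ⟨h l hl e, (hc l hl e).2⟩

theorem d_sub_fam (hM : Fam f M) {n : ℕ} (hn : 1 ≤ n) {c c' : List Ω → D}
    (h : ∀ l, f.In l → l.length = n → c l - c' l ∈ M (f.st l)) {l : List Ω} (hl : f.In l)
    (e : l.length = n + 1) : d c l - d c' l ∈ M (f.st l) :=
  d_sub_mem _ c c' l fun m hm em => hM.anti _ _ (Fr.ob_st' hl e (by omega))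
    (Fr.ob_st' (hl.sub hm) (n := n) (by omega) hn) (Fr.st_sub hm) (h m (hl.sub hm) (by omega))

theorem le_rfl' : Le f N N := fun _ _ => le_rfl

/-- `c = d b mod M`, `reeqv` `b`, then `c - d b'` is an `M / O` cocycle -/
theorem van_L1 (hS : Sys f N O) (hM : Fam f M) (h1 : Le f O M) (h2 : Le f M N) (hk : 1 ≤ k)
    (a : Van f N M k) (b : Van f M O k) : Van f N O k := by
  intro c hc hd
  obtain ⟨x, hx, hcx⟩ := a c (hc.mono (by omega) le_rfl' h1)
    fun l hl e => h1 _ (Fr.ob_st' hl e (by omega)) (hd l hl e)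
  obtain ⟨x', hx', hxx⟩ := reeqv hS hM h1 h2 hk hx
  obtain ⟨y, hy, hcy⟩ := b (fun l => c l - d x' l)
    ((hc.sub (hx'.d hS hk)).of_mem fun l hl e => by
      have := sub_mem (hcx l hl e) (d_sub_fam hM hk hxx hl e)
      convert this using 1; abel)
    fun l hl e => by rw [d_sub, d_d, sub_zero]; exact hd l hl e
  refine ⟨fun l => x' l + y l, hx'.add (hy.mono hk h2 le_rfl'), fun l hl e => ?_⟩
  rw [d_add, ← sub_sub]
  exact hcy l hl e

/-- `reeqv` `c` to `c'`; `d c'` is an `M / O` cocycle, `= d b`; `c' - b` is an `N / O` cocycle -/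
theorem van_L2 (hS : Sys f N O) (hM : Fam f M) (h1 : Le f O M) (h2 : Le f M N) (hk : 1 ≤ k)
    (a : Van f N O k) (b : Van f M O (k + 1)) : Van f N M k := by
  intro c hc hd
  obtain ⟨c', hc', hcc⟩ := reeqv hS hM h1 h2 (by omega) hc
  obtain ⟨y, hy, hcy⟩ := b (d c')
    ((hc'.d hS (by omega)).of_mem fun l hl e => by
      have := add_mem (d_sub_fam hM (by omega) hcc hl e) (hd l hl e)
      rwa [sub_add_cancel] at this)
    fun l _ _ => by rw [d_d]; exact zero_mem _
  obtain ⟨x, hx, hcx⟩ := a (fun l => c' l - y l) (hc'.sub (hy.mono (by omega) h2 le_rfl'))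
    fun l hl e => by rw [d_sub]; exact hcy l hl e
  refine ⟨x, hx.mono hk le_rfl' h1, fun l hl e => ?_⟩
  have := sub_mem (add_mem (h1 _ (Fr.ob_st' hl e (by omega)) (hcx l hl e)) (hy l hl e).1)
    (hcc l hl e)
  convert this using 1; abel

/-- `c = d b mod O` with `b` in `N / O`; `b` is an `N / M` cocycle, `b = d a mod M`, `reeqv` `a`
to `a'`; `b - d a'` is the `M / O` cochain wanted -/
theorem van_L3 (hS : Sys f N O) (hM : Fam f M) (h1 : Le f O M) (h2 : Le f M N) (hk : 1 ≤ k)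
    (a : Van f N O (k + 1)) (b : Van f N M k) : Van f M O (k + 1) := by
  intro c hc hd
  obtain ⟨x, hx, hcx⟩ := a c (hc.mono (by omega) h2 le_rfl') hd
  obtain ⟨y, hy, hxy⟩ := b x (hx.mono (by omega) le_rfl' h1) fun l hl e => by
    have := sub_mem (hc l hl e).1 (h1 _ (Fr.ob_st' hl e (by omega)) (hcx l hl e))
    rwa [sub_sub_cancel] at this
  obtain ⟨y', hy', hyy⟩ := reeqv hS hM h1 h2 hk hy
  refine ⟨fun l => x l - d y' l, (hx.sub (hy'.d hS hk)).of_mem fun l hl e => ?_, fun l hl e => ?_⟩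
  · have := sub_mem (hxy l hl e) (d_sub_fam hM hk hyy hl e)
    convert this using 1; abel
  · rw [d_sub, d_d, sub_zero]
    exact hcx l hl e

end Cfsg.Lib.LK
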