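import Cfsg.Agent.Lib.LK.FL
import Cfsg.Agent.Lib.LK.Full

set_option autoImplicit false

namespace Cfsg.Lib.LK

open Subgroup Cfsg.Lib.Transfer
open scoped commutatorElement

variable {p : ℕ} {G Ω D : Type*} [Group G] [MulAction G Ω] [AddCommGroup D] [DistribMulAction G D]
  {f : Fr p G Ω} {N O M N' O' : Subgroup G → AddSubgroup D} {Q : Subgroup G → Prop} {k : ℕ}

/-- Induction on `k`, for all frames at once.  First part, `k = 1`: `van_R1` with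
`Z = J 𝒜 T ⊔ Y` (`N_H(J T) ≤ N_H(Z)`, `fx T ≤ fx Y ≤ W`).  Second part from the first: `van_FL` with
`cl_J`; the slice at `X = Y` is trivial (`van_of_le`), the slice at `X ≠ Y` is, on the objects of
`loc X`, the first system of `loc X` (`Van.congr`).  First part at `k + 1`: `van_L3`, `van_full`. -/
theorem van_LN [Finite G] [Fact p.Prime] (hD : PT p D) {H₀ : Subgroup G} {W : AddSubgroup D}
    {𝒜 : Set (Subgroup G)} (hinv : Inv H₀ 𝒜) (hcf : CF p H₀ W 𝒜) (hk : 1 ≤ k) (f : Fr p G Ω)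
    (hH : f.H ≤ H₀) (hW : fx D f.Y ≤ W) :
    Van f (Rf D fun P => ¬ J 𝒜 P ≤ f.Y) (Z0 G D) k ∧
      Van f (fx D) (Rf D fun P => ¬ J 𝒜 P ≤ f.Y) k := by
  have hinv' : ∀ f : Fr p G Ω, f.H ≤ H₀ → Inv f.H 𝒜 := fun f hH g hg => hinv g (hH hg)
  have hB : ∀ k, 1 ≤ k → (∀ f : Fr p G Ω, f.H ≤ H₀ → fx D f.Y ≤ W →
      Van f (Rf D fun P => ¬ J 𝒜 P ≤ f.Y) (Z0 G D) k) →
      ∀ f : Fr p G Ω, f.H ≤ H₀ → fx D f.Y ≤ W → Van f (fx D) (Rf D fun P => ¬ J 𝒜 P ≤ f.Y) k := by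
    intro k hk hA f hH hW
    have hQ := up_J (hinv' f hH)
    refine van_FL (sys_Rf hQ).1 (cl_J (hinv' f hH)) hk fun X hX hj => ?_
    by_cases hXY : J 𝒜 X ≤ f.Y
    · refine van_of_le fun P _ => ?_
      by_cases hP : J 𝒜 P ⊔ f.Y ≠ X
      · rw [ite'_pos (Q := fun P => J 𝒜 P ⊔ f.Y ≠ X) hP]
      · rw [ite'_neg (Q := fun P => J 𝒜 P ⊔ f.Y ≠ X) hP]
        have h1 : J 𝒜 P ≤ f.Y := by
          rw [not_not.1 hP |>.trans hj.symm |>.trans (sup_eq_right.2 hXY) |>.symm]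
          exact le_sup_left
        rw [Rf, ite'_neg (Q := fun P => ¬ J 𝒜 P ≤ f.Y) (not_not.2 h1)]
    · have hQP : ∀ P, (f.loc X hX).Ob P → Rf D (fun P => ¬ J 𝒜 P ≤ f.Y) P = Z0 G D P := fun P hP =>
        ite'_pos (Q := fun P => ¬ J 𝒜 P ≤ f.Y) fun h => hXY ((J_mono 𝒜 hP.1).trans h)
      refine (hA (f.loc X hX) (inf_le_left.trans hH) ((fx_anti hX.1).trans hW)).congr hk (fun P hP => ?_)
        fun P hP => (hQP P hP).symm
      have hiff : J 𝒜 P ⊔ f.Y = X ↔ J 𝒜 P ≤ X := by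
        refine ⟨fun h => h ▸ le_sup_left, fun h => le_antisymm (sup_le h hX.1) ?_⟩
        rw [← hj]
        exact sup_le_sup_right (J_mono 𝒜 hP.1) _
      by_cases hP' : J 𝒜 P ≤ X
      · rw [ite'_neg (Q := fun P => J 𝒜 P ⊔ f.Y ≠ X) (not_not.2 (hiff.2 hP'))]
        exact ite'_neg (Q := fun P => ¬ J 𝒜 P ≤ X) (not_not.2 hP')
      · rw [ite'_pos (Q := fun P => J 𝒜 P ⊔ f.Y ≠ X) fun h => hP' (hiff.1 h), hQP P hP]
        exact ite'_pos (Q := fun P => ¬ J 𝒜 P ≤ X) hP'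
  have hA : ∀ k, 1 ≤ k → ∀ f : Fr p G Ω, f.H ≤ H₀ → fx D f.Y ≤ W →
      Van f (Rf D fun P => ¬ J 𝒜 P ≤ f.Y) (Z0 G D) k := by
    intro k hk
    induction k, hk using Nat.le_induction with
    | base =>
      intro f hH hW
      obtain ⟨T, hT, -⟩ := exists_syl (p := p) (X := ⊥) (H := f.H) IsPGroup.of_bot bot_le
      refine van_R1 hD (up_J (hinv' f hH)) hT fun hQT => ⟨J 𝒜 T ⊔ f.Y, le_sup_right,
        sup_le (J_le 𝒜 T) hT.ob.1, fun h => hQT ?_, fun v hv hvT => ?_⟩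
      · exact J_le_iff.2 fun B hB hle => (le_J hB ((le_J hB hle).trans le_sup_left)).trans h
      · refine hcf f.H hH T hT v (hW (fx_anti hT.ob.1 hvT)) fun g hg => hv g ⟨hg.1, ?_⟩
        refine conj_eq_self_iff.1 ?_
        rw [conj_sup, conj_eq_self_iff.2 hg.2, conj_eq_self_iff.2 (f.Yn hg.1)]
    | succ k hk ih =>
      intro f hH hW
      have hQ := up_J (hinv' f hH)
      exact van_L3 sys_fx (fam_Rf hQ) (sys_Rf hQ).2.le (sys_Rf hQ).1.le hk (van_full hD) (hB k hk ih f hH hW)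
  exact ⟨hA k hk f hH hW, hB k hk (hA k hk) f hH hW⟩

end Cfsg.Lib.LK
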