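import Cfsg.Agent.Lib.LK.Tv
import Cfsg.Agent.Lib.LK.Lam

set_option autoImplicit false
set_option linter.unusedSectionVars false

namespace Cfsg.Lib.LK

open Subgroup Cfsg.Lib.Transfer
open scoped commutatorElement

variable {Γ Ω W : Type*} [Group Γ] [MulAction Γ Ω] [AddCommGroup W] [DistribMulAction Γ W]

variable [Finite Γ] [Finite W] [FaithfulSMul Γ W]

omit [Finite Γ] [Finite W] [FaithfulSMul Γ W] in
theorem st_idx2 {A₀ A : Subgroup Γ} (h : A₀.relIndex A = 2) {x y : Γ} (hx : x ∈ A) (hy : y ∈ A)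
    (hx' : x ∉ A₀) (hy' : y ∉ A₀) : x * y ∈ A₀ := by
  have := (Subgroup.mul_mem_iff_of_index_two (H := A₀.subgroupOf A) h (a := ⟨x, hx⟩)
    (b := ⟨y, hy⟩)).2 (by simp [mem_subgroupOf, hx', hy'])
  simpa [mem_subgroupOf] using this

omit [Finite Γ] [Finite W] [FaithfulSMul Γ W] in
theorem CAx.st_symm {a b : Γ} (h : CAx W a b) : CAx W b a :=
  ⟨h.2.1, h.1, h.2.2.1.symm, h.2.2.2.symm⟩

omit [Finite Γ] [Finite W] [FaithfulSMul Γ W] in
theorem CAx.st_conj {a b : Γ} (h : CAx W a b) (g : Γ) : CAx W (g * a * g⁻¹) (g * b * g⁻¹) := by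
  refine ⟨h.1.conj g, h.2.1.conj g, fun e => h.2.2.1 (by simpa using e), ?_⟩
  have key : ∀ (t : Γ) (w : W), w ∈ f1 W (g * t * g⁻¹) ↔ g⁻¹ • w ∈ f1 W t := by
    intro t w
    rw [mem_f1, mem_f1, mul_smul, mul_smul, smul_eq_iff_eq_inv_smul]
  ext w
  rw [key, key, h.2.2.2]

/-- the pointwise stabilizer of an additive subgroup -/
def stP (Γ : Type*) [Group Γ] [DistribMulAction Γ W] (V : AddSubgroup W) : Subgroup Γ where
  carrier := {g | ∀ w ∈ V, g • w = w}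
  mul_mem' := fun ha hb w hw => by rw [mul_smul, hb w hw, ha w hw]
  one_mem' := fun w _ => one_smul _ w
  inv_mem' := fun ha w hw => by rw [inv_smul_eq_iff, ha w hw]

omit [Finite Γ] [Finite W] in
theorem of_mem_stP {t g : Γ} (ht : Tv W t) (hg : g ∈ stP Γ (f1 W t)) (h1 : g ≠ 1) :
    Tv W g ∧ f1 W g = f1 W t :=
  ht.of_le h1 fun w hw => mem_f1.2 (hg w hw)

omit [Finite Γ] [Finite W] [FaithfulSMul Γ W] in
theorem mem_normalizer_of_tv {X : Subgroup Γ} (hJ : J (TvS Γ W) X = X) {g : Γ}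
    (h : ∀ x ∈ X, Tv W x → g * x = x * g) : g ∈ centralizer (X : Set Γ) := by
  have : J (TvS Γ W) X ≤ centralizer {g} := by
    refine J_le_iff.2 ?_
    rintro B ⟨t, ht, rfl⟩ hle
    rw [zpowers_le] at hle ⊢
    exact mem_centralizer_singleton_iff.2 (h t hle ht).symm
  rw [hJ] at this
  intro x hx
  exact mem_centralizer_singleton_iff.1 (this hx)

/-- they commute (`comm_iff`); every non-identity element of the four-group fixes exactly `f1 a` -/
theorem CAx.mem {a b : Γ} (h : CAx W a b) : zpowers a ⊔ zpowers b ∈ NS Γ W := by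
  have hab : ¬ Bb W a b := fun e => e (mem_f1.1 (h.2.2.2 ▸ mem_f1.2 h.2.1.ctr_fix))
  have hA : zpowers a ⊔ zpowers b ≤ stP Γ (f1 W a) := by
    refine sup_le (zpowers_le.2 fun w hw => mem_f1.1 hw) (zpowers_le.2 fun w hw => ?_)
    exact mem_f1.1 (h.2.2.2 ▸ hw)
  have haA : a ∈ zpowers a ⊔ zpowers b := mem_sup_left (mem_zpowers a)
  have hbA : b ∈ zpowers a ⊔ zpowers b := mem_sup_right (mem_zpowers b)
  refine ⟨h.1.pgroup h.2.1 fun e => hab e.1, QT.q0 ⟨a, haA, h.1⟩, fun A₀ h0 hi v hv => ?_⟩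
  have hex : ∃ g ∈ A₀, g ≠ 1 := by
    by_cases h1 : a ∈ A₀
    · exact ⟨a, h1, h.1.ne_one⟩
    by_cases h2 : b ∈ A₀
    · exact ⟨b, h2, h.2.1.ne_one⟩
    refine ⟨a * b, st_idx2 hi haA hbA h1 h2, fun e => h.2.2.1 ?_⟩
    rw [← h.2.1.sq] at e
    exact mul_right_cancel e
  obtain ⟨g, hg, hg1⟩ := hex
  have h3 : v ∈ f1 W a := (of_mem_stP h.1 (hA (h0 hg)) hg1).2 ▸ mem_f1.2 (hv g hg)
  exact fun x hx => hA hx v h3

/-- `a` has no partner, `b` has.  First `¬ Bb b a` for all such `a`, `b` (`braid` makes them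
conjugate; `asym` gives `a` a partner).  If `Bb a b`, `c = ⁅a, b⁆` has a partner and centre `ctr a`,
and its conjugate from `bs` moves `ctr a`. -/
theorem t1_t2_comm (hO : O2 Γ) {a b b' : Γ} (ha : Tv W a) (ha' : ¬ ∃ a', CAx W a a')
    (hb : CAx W b b') : a * b = b * a := by
  have c1 : ∀ b b' : Γ, CAx W b b' → ¬ Bb W b a := by
    intro b b' hb h1
    by_cases h2 : Bb W a b
    · have e := ha.braid hb.1 h2 h1
      have e' : (a * b)⁻¹ * b * (a * b)⁻¹⁻¹ = a := by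
        rw [inv_inv, mul_assoc, inv_mul_eq_iff_eq_mul, e, mul_assoc]
      have := hb.st_conj (a * b)⁻¹
      rw [e'] at this
      exact ha' ⟨_, this⟩
    · obtain ⟨h3, -, h4, h5⟩ := hb.1.asym ha h1 h2
      exact ha' ⟨_, ha, h3, h5.symm, h4.symm⟩
  refine (ha.comm_iff hb.1).2 ⟨fun h1 => ?_, c1 b b' hb⟩
  obtain ⟨h3, h4, h5, h6⟩ := ha.asym hb.1 h1 (c1 b b' hb)
  obtain ⟨g, -, hg⟩ := h3.bs hO
  have hc : CAx W ⁅a, b⁆ b := ⟨h3, hb.1, h6, h5⟩
  refine c1 _ _ (hc.st_conj g) ?_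
  unfold Bb at hg ⊢
  rwa [h4] at hg

/-- Take `σ` minimal with a redundant member `t`.  Every `s ∈ σ` is redundant (`Z` = points fixed by
`σ \ {s, t}`; `Z ⊓ f1 s ≤ Z ⊓ f1 t`, the latter of index 2 in `Z` by minimality).  For `A₀` of index 2
in `A = closure σ` and `v ∈ fx A₀`: members of `σ` in `A₀` fix `v`; if two `s ≠ s'` are outside then
`s s' ∈ A₀` forces both to fix `v` (`inj`, `ctr_ne`); if only one is outside it is redundant. -/
theorem circuit (hs : Sy Γ W) (σ : Finset Γ) (h1 : ∀ s ∈ σ, Tv W s)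
    (h2 : ∀ s ∈ σ, ∀ s' ∈ σ, s * s' = s' * s) {t : Γ} (ht : t ∈ σ)
    (hr : ∀ w : W, (∀ s ∈ σ, s ≠ t → s • w = w) → t • w = w) :
    ∃ A ∈ NS Γ W, A ≤ closure (σ : Set Γ) := by
  classical
  induction σ using Finset.strongInduction generalizing t with
  | H σ ih =>
  by_cases hmin : ∃ s ∈ σ, s ≠ t ∧ ∀ w : W, (∀ r ∈ σ.erase s, r ≠ t → r • w = w) → t • w = w
  · obtain ⟨s, hsσ, hst, hw⟩ := hmin
    obtain ⟨A, hA, hle⟩ := ih (σ.erase s) (Finset.erase_ssubset hsσ)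
      (fun r hr => h1 r (Finset.mem_of_mem_erase hr))
      (fun r hr r' hr' => h2 r (Finset.mem_of_mem_erase hr) r' (Finset.mem_of_mem_erase hr'))
      (Finset.mem_erase.2 ⟨hst.symm, ht⟩) hw
    exact ⟨A, hA, hle.trans (closure_mono (by simp))⟩
  push Not at hmin
  have red : ∀ s ∈ σ, ∀ w : W, (∀ r ∈ σ, r ≠ s → r • w = w) → s • w = w := by
    intro s hsσ w hw
    by_cases hst : s = t
    · subst hst; exact hr w hw
    obtain ⟨z, hz, hz'⟩ := hmin s hsσ hst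
    have hz2 : ∀ r ∈ σ, r ≠ s → r ≠ t → r • z = z := fun r hr' a b =>
      hz r (Finset.mem_erase.2 ⟨a, hr'⟩) b
    have hsz : s • z ≠ z := fun e => hz' (hr z fun r hr' b => by
      by_cases a : r = s
      · rw [a]; exact e
      · exact hz2 r hr' a b)
    by_contra hsw
    have e1 : s • (w + z) = w + z := ((h1 s hsσ).add_iff w z).2 (iff_of_false hsw hsz)
    have e2 : t • (w + z) = w + z := hr _ fun r hr' b => by
      by_cases a : r = s
      · rw [a]; exact e1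
      · rw [smul_add, hw r hr' a, hz2 r hr' a b]
    exact hz' ((((h1 t ht).add_iff w z).1 e2).1 (hw t ht (Ne.symm hst)))
  have hc1 : closure (σ : Set Γ) ≤ centralizer (σ : Set Γ) :=
    (closure_le _).2 fun x hx y hy => h2 y hy x hx
  have hc2 : closure (σ : Set Γ) ≤ centralizer (closure (σ : Set Γ) : Set Γ) :=
    (closure_le _).2 fun x hx y hy => (hc1 hy x hx).symm
  have hsq : ∀ x ∈ closure (σ : Set Γ), x * x = 1 := by
    intro x hx
    induction hx using closure_induction with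
    | mem x hx => exact (h1 x hx).sq
    | one => simp
    | mul x y hx hy ihx ihy =>
      have e : y * x = x * y := hc2 hx y hy
      calc x * y * (x * y) = x * (y * x) * y := by group
        _ = (x * x) * (y * y) := by rw [e]; group
        _ = 1 := by rw [ihx, ihy, one_mul]
    | inv x hx ihx => rw [← mul_inv_rev, ihx, inv_one]
  refine ⟨closure (σ : Set Γ), ⟨fun x => ⟨1, Subtype.ext ?_⟩, QT.q0 ⟨t, subset_closure ht, h1 t ht⟩,
    fun A₀ h0 hi v hv => ?_⟩, le_rfl⟩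
  · simpa [pow_two] using hsq x x.2
  have : closure (σ : Set Γ) ≤ MulAction.stabilizer Γ v := by
    refine (closure_le _).2 fun s hsσ => ?_
    by_contra hsv
    have hsv' : s • v ≠ v := hsv
    have : ∃ r ∈ σ, r ≠ s ∧ r • v ≠ v := by
      by_contra hcon
      push Not at hcon
      exact hsv' (red s hsσ v hcon)
    obtain ⟨r, hrσ, hrs, hrv⟩ := this
    have hm : s * r ∈ A₀ := st_idx2 hi (subset_closure hsσ) (subset_closure hrσ)
      (fun e => hsv' (hv s e)) (fun e => hrv (hv r e))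
    have e1 := hv _ hm
    have hb : s • ctr W r = ctr W r := by
      have := (((h1 s hsσ).comm_iff (h1 r hrσ)).1 (h2 s hsσ r hrσ)).1
      unfold Bb at this
      exact not_not.1 this
    rw [mul_smul, (h1 r hrσ).smul_eq hrv, smul_add, hb, (h1 s hsσ).smul_eq hsv', add_assoc,
      add_eq_left, ← (h1 r hrσ).ctr_two, add_left_inj] at e1
    exact hrs (hs.inj _ _ (h1 s hsσ) (h1 r hrσ) e1).symm
  exact fun g hg => this hg

/-- `B₁ = C_B(t)`.  Index 2: `ctr t ∈ fx B₁ ≤ fx B`, so `ctr (a t a⁻¹) = ctr t`, `inj`.  Index `≥ 4`: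
`a, b ∈ B` with `a, b, a b ∉ B₁`; `MBo.quad` gives `(a b) w = a w + b w - w`; `t` fixes `g w` iff
`g⁻¹ t g` fixes `w`, so `t` fixes `a w, b w, a b w`, hence `w`. -/
theorem cent_of_indep (hD : PT 2 W) (hs : Sy Γ W) {S B : Subgroup Γ} (hB : MBo W ⊥ B)
    (hB' : B ∈ NS Γ W) (hBS : B ≤ S) {t : Γ} (ht : Tv W t) (htS : t ∈ S) {w : W} (hw : t • w ≠ w)
    (hw' : ∀ s ∈ S, Tv W s → s ≠ t → s • w = w) : ∀ b ∈ B, b * t = t * b := by
  have : Fact (Nat.Prime 2) := ⟨Nat.prime_two⟩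
  have key : ∀ g ∈ B, g * t ≠ t * g → t • g • w = g • w := by
    intro g hg hne
    have h1 : g⁻¹ * t * g⁻¹⁻¹ ≠ t := fun e => hne (by
      rw [inv_inv, mul_assoc, inv_mul_eq_iff_eq_mul] at e; exact e.symm)
    have h2 := hw' _ (mul_mem (mul_mem (inv_mem (hBS hg)) htS) (inv_mem (inv_mem (hBS hg))))
      (ht.conj g⁻¹) h1
    rwa [inv_inv, mul_smul, mul_smul, inv_smul_eq_iff] at h2
  have h2 : ∀ a ∈ B, ∀ b ∈ B, a * t ≠ t * a → b * t ≠ t * b → a * b * t = t * (a * b) := by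
    intro a ha b hb h1 h2
    by_contra h3
    have q := hB.quad hD hB'.1 a ha b hb w
    have e : w = a • w + b • w - (a * b) • w := by
      rw [smul_sub] at q
      rw [mul_smul, eq_add_of_sub_eq q]; abel
    apply hw
    conv_lhs => rw [e]
    rw [smul_sub, smul_add, key a ha h1, key b hb h2, key _ (mul_mem ha hb) h3, ← e]
  intro a ha
  by_contra hne
  have hi : (centralizer {t} ⊓ B).relIndex B = 2 := by
    refine index_eq_two_iff.2 ⟨⟨a, ha⟩, fun b => ?_⟩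
    simp only [mem_subgroupOf, mem_inf, mem_centralizer_singleton_iff, coe_mul]
    by_cases hb : (b : Γ) * t = t * b
    · refine Or.inr ⟨⟨hb, b.2⟩, fun e => hne ?_⟩
      have e1 := e.1
      rw [← mul_assoc t, ← hb, mul_assoc, mul_assoc] at e1
      exact mul_left_cancel e1
    · exact Or.inl ⟨⟨h2 _ b.2 a ha hb hne, mul_mem b.2 ha⟩, fun e => hb e.1⟩
  have h3 : ctr W t ∈ fx W B := by
    refine hB'.2.2 _ inf_le_right hi fun g hg => ?_
    rw [← ht.ctr_conj, mem_centralizer_singleton_iff.1 hg.1, mul_inv_cancel_right]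
  have h4 := hs.inj _ _ (ht.conj a) ht (by rw [ht.ctr_conj, h3 a ha])
  exact hne (by rw [← mul_inv_eq_iff_eq_mul]; exact h4)

/-- Case `CAx`: the transvections of `X` commute (`asym` gives a `CAx` pair in `X`, `CAx.mem`).  If
`x ∈ X` has a partner `e`: `E` = pointwise stabilizer of `f1 x`, a 2-group (`of_le`, `sq`)
normalized by `X`, `X ⊓ E = ⟨x⟩ < ⟨x, e⟩`; `exists_pgrp_normalizer` gives `e' ∈ E ⊓ N(X) \ X`,
`A = ⟨x, e'⟩`.  Else `t1_t2_comm`.  Case no `CAx` (`sy_of`): `S` Sylow above `X`, `B` conjugated into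
`S`; all transvections of `S` commute; `circuit` for the set of them, or `cent_of_indep`. -/
theorem star (hD : PT 2 W) (hO : O2 Γ)
    (hc : (∃ a b : Γ, CAx W a b) ∨ ∃ B : Subgroup Γ, MBo W ⊥ B ∧ B ∈ NS Γ W) {X : Subgroup Γ}
    (hX : IsPGroup 2 X) (hJ : J (TvS Γ W) X = X) (hN : ∀ A ∈ NS Γ W, ¬ A ≤ X) :
    ∃ A ∈ NS Γ W, A ≤ normalizer (X : Set Γ) := by
  classical
  have : Fact (Nat.Prime 2) := ⟨Nat.prime_two⟩
  have cn : ∀ {g : Γ}, (∀ x ∈ X, Tv W x → g * x = x * g) → g ∈ normalizer (X : Set Γ) :=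
    fun h => centralizer_le_normalizer _ (mem_normalizer_of_tv hJ h)
  by_cases hca : ∃ a b : Γ, CAx W a b
  · obtain ⟨a, b, hab⟩ := hca
    have nop : ∀ x ∈ X, ∀ y ∈ X, ¬ CAx W x y := fun x hx y hy h =>
      hN _ h.mem (sup_le (zpowers_le.2 hx) (zpowers_le.2 hy))
    have nb : ∀ x ∈ X, ∀ y ∈ X, Tv W x → Tv W y → ¬ Bb W x y := by
      intro x hx y hy tx ty h1
      by_cases h2 : Bb W y x
      · exact tx.not_pgroup ty h1 h2 hX hx hy
      · obtain ⟨h3, -, h5, h6⟩ := tx.asym ty h1 h2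
        refine nop _ ?_ y hy ⟨h3, ty, h6, h5⟩
        rw [commutatorElement_def]
        exact mul_mem (mul_mem (mul_mem hx hy) (inv_mem hx)) (inv_mem hy)
    by_cases hp : ∃ x ∈ X, ∃ e, CAx W x e
    · obtain ⟨x, hx, e, he⟩ := hp
      have hxc : x ∈ centralizer (X : Set Γ) := mem_normalizer_of_tv hJ fun y hy ty =>
        (he.1.comm_iff ty).2 ⟨nb x hx y hy he.1 ty, nb y hy x hx ty he.1⟩
      have hE : IsPGroup 2 (stP Γ (f1 W x)) := fun g => ⟨1, Subtype.ext (by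
        by_cases h1 : (g : Γ) = 1
        · simp [h1]
        · simpa [pow_two] using (of_mem_stP he.1 g.2 h1).1.sq)⟩
      have hcj : ∀ y ∈ X, ∀ g ∈ stP Γ (f1 W x), y * g * y⁻¹ ∈ stP Γ (f1 W x) := by
        intro y hy g hg w hw
        have h1 : y⁻¹ • w ∈ f1 W x := by
          rw [mem_f1, ← mul_smul, ← hxc _ (inv_mem hy), mul_smul, mem_f1.1 hw]
        rw [mul_smul, mul_smul, hg _ h1, smul_inv_smul]
      have hn : X ≤ normalizer ((stP Γ (f1 W x) : Subgroup Γ) : Set Γ) := by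
        intro y hy
        refine mem_normalizer_iff.2 fun g => ⟨hcj y hy g, fun hg => ?_⟩
        simpa [mul_assoc] using hcj _ (inv_mem hy) _ hg
      have heE : e ∈ stP Γ (f1 W x) := fun w hw => mem_f1.1 (he.2.2.2 ▸ hw)
      obtain ⟨T, -, hT, hTX⟩ := exists_pgrp_normalizer hX hn hE
        (lt_of_le_of_ne inf_le_right fun h => nop x hx e (h.ge heE).1 he) le_rfl
      obtain ⟨e', he', heX⟩ := SetLike.not_le_iff_exists.1 hTX
      obtain ⟨t1, t2⟩ := of_mem_stP he.1 (hT he').1 fun h => heX (h ▸ one_mem X)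
      have hc' : CAx W x e' := ⟨he.1, t1, fun h => heX (h ▸ hx), t2.symm⟩
      exact ⟨_, hc'.mem, sup_le (zpowers_le.2 (le_normalizer hx)) (zpowers_le.2 (hT he').2)⟩
    · push Not at hp
      refine ⟨_, hab.mem, sup_le (zpowers_le.2 (cn fun x hx tx => ?_))
        (zpowers_le.2 (cn fun x hx tx => ?_))⟩
      · exact (t1_t2_comm hO tx (fun ⟨e, h⟩ => hp x hx e h) hab).symm
      · exact (t1_t2_comm hO tx (fun ⟨e, h⟩ => hp x hx e h) hab.st_symm).symm
  · have hs : Sy Γ W := sy_of hO hca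
    obtain ⟨B, hB, hB'⟩ := hc.resolve_left hca
    obtain ⟨S, hS, hXS⟩ := exists_syl hX (le_top (a := X))
    obtain ⟨g, -, hg⟩ := hS.conj_le hB'.1 le_top
    have hB1 : MBo W ⊥ (g ⋆ B) := hB.conj (conj_eq_self_iff.1 (conj_eq_bot_iff.2 rfl))
    have hB2 : g ⋆ B ∈ NS Γ W := inv_NS g (mem_top g) B hB'
    let σ : Finset Γ := (Set.toFinite {s | s ∈ S ∧ Tv W s}).toFinset
    have hσ : ∀ s, s ∈ σ ↔ s ∈ S ∧ Tv W s := fun s => by simp [σ]
    have hcm : ∀ s ∈ σ, ∀ s' ∈ σ, s * s' = s' * s := fun s h s' h' =>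
      hs.comm ((hσ s).1 h).2 ((hσ s').1 h').2 hS.2.1 ((hσ s).1 h).1 ((hσ s').1 h').1
    by_cases hr : ∃ t ∈ σ, ∀ w : W, (∀ s ∈ σ, s ≠ t → s • w = w) → t • w = w
    · obtain ⟨t, ht, hr⟩ := hr
      obtain ⟨A, hA, hle⟩ := circuit hs σ (fun s h => ((hσ s).1 h).2) hcm ht hr
      refine ⟨A, hA, hle.trans ((closure_le _).2 fun s h => cn fun x hx tx => ?_)⟩
      exact hcm s h x ((hσ x).2 ⟨hXS hx, tx⟩)
    · push Not at hr
      refine ⟨_, hB2, fun b hb => cn fun x hx tx => ?_⟩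
      obtain ⟨w, hw, hw'⟩ := hr x ((hσ x).2 ⟨hXS hx, tx⟩)
      exact cent_of_indep hD hs hB1 hB2 hg tx (hXS hx) hw'
        (fun s h1 h2 h3 => hw s ((hσ s).2 ⟨h1, h2⟩) h3) b hb

end Cfsg.Lib.LK
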