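import Cfsg.Agent.Lib.LK.Bo
import Cfsg.Agent.Lib.PLocal.BaerSuzuki
import Cfsg.Agent.Lib.Core.PCore

set_option autoImplicit false

namespace Cfsg.Lib.LK

open Subgroup Cfsg.Lib.Transfer
open scoped commutatorElement

variable {Γ Ω W : Type*} [Group Γ] [MulAction Γ Ω] [AddCommGroup W] [DistribMulAction Γ W]

/-- fixed points of an element -/
def f1 (W : Type*) [AddCommGroup W] [DistribMulAction Γ W] (t : Γ) : AddSubgroup W :=
  fx W (zpowers t)
/-- transvections -/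
def Tv (W : Type*) [AddCommGroup W] [DistribMulAction Γ W] (t : Γ) : Prop := (f1 W t).index = 2
open Classical in
/-- the centre of a transvection -/
noncomputable def ctr (W : Type*) [AddCommGroup W] [DistribMulAction Γ W] (t : Γ) : W :=
  if h : ∃ w : W, t • w ≠ w then t • h.choose - h.choose else 0
/-- `a` moves the centre of `b` -/
def Bb (W : Type*) [AddCommGroup W] [DistribMulAction Γ W] (a b : Γ) : Prop :=
  a • ctr W b ≠ ctr W b
/-- the groups generated by a transvection -/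
def TvS (Γ W : Type*) [Group Γ] [AddCommGroup W] [DistribMulAction Γ W] : Set (Subgroup Γ) :=
  {B | ∃ t, Tv W t ∧ B = zpowers t}
/-- `P` contains a transvection -/
def QT (W : Type*) [AddCommGroup W] [DistribMulAction Γ W] (P : Subgroup Γ) : Prop :=
  ∃ t ∈ P, Tv W t
/-- two transvections with a common axis -/
def CAx (W : Type*) [AddCommGroup W] [DistribMulAction Γ W] (a b : Γ) : Prop :=
  Tv W a ∧ Tv W b ∧ a ≠ b ∧ f1 W a = f1 W b
/-- subgroups of index 2 have no more fixed points -/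
def SNP (W : Type*) [AddCommGroup W] [DistribMulAction Γ W] (A : Subgroup Γ) : Prop :=
  ∀ A₀, A₀ ≤ A → A₀.relIndex A = 2 → fx W A₀ ≤ fx W A
/-- the family to which the norm argument applies -/
def NS (Γ W : Type*) [Group Γ] [AddCommGroup W] [DistribMulAction Γ W] : Set (Subgroup Γ) :=
  {A | IsPGroup 2 A ∧ Q0 W ⊥ A ∧ SNP W A}
/-- the transvections are of symplectic type -/
structure Sy (Γ W : Type*) [Group Γ] [AddCommGroup W] [DistribMulAction Γ W] : Prop where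
  symm : ∀ a b : Γ, Tv W a → Tv W b → Bb W a b → Bb W b a
  inj : ∀ a b : Γ, Tv W a → Tv W b → ctr W a = ctr W b → a = b
  nb : ∀ a : Γ, Tv W a → ∃ s, Tv W s ∧ Bb W s a
/-- `O₂ = 1` -/
def O2 (Γ : Type*) [Group Γ] : Prop := ∀ N : Subgroup Γ, N.Normal → IsPGroup 2 N → N = ⊥

variable {a b t : Γ}

theorem mem_f1 {w : W} : w ∈ f1 W t ↔ t • w = w :=
  ⟨fun h => h t (mem_zpowers t), fun h _ hg =>
    (zpowers_le.2 (show t ∈ MulAction.stabilizer Γ w from h) : zpowers t ≤ _) hg⟩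
theorem Tv.add_iff (h : Tv W t) (v w : W) :
    t • (v + w) = v + w ↔ (t • v = v ↔ t • w = w) := by
  simp only [← mem_f1]
  exact AddSubgroup.add_mem_iff_of_index_two h
theorem Tv.exists_ne (h : Tv W t) : ∃ w : W, t • w ≠ w := by
  by_contra hc
  push Not at hc
  have : f1 W t = ⊤ := eq_top_iff.2 fun w _ => mem_f1.2 (hc w)
  rw [Tv, this, AddSubgroup.index_top] at h
  omega
theorem Tv.sub_fix (h : Tv W t) {v w : W} (hv : t • v ≠ v) (hw : t • w ≠ w) :
    t • (v - w) = v - w := by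
  rw [sub_eq_add_neg, h.add_iff, smul_neg, neg_inj]
  exact iff_of_false hv hw
theorem Tv.ctr_eq (h : Tv W t) {w : W} (hw : t • w ≠ w) : ctr W t = t • w - w := by
  have h0 := h.exists_ne
  have h1 := h.sub_fix h0.choose_spec hw
  rw [ctr, dif_pos h0]
  rw [smul_sub] at h1
  linear_combination (norm := abel) h1
/-- `w ↦ t w - w` is a homomorphism with kernel `f1 t` of index 2, with values in `f1 t` (`t` acts
trivially on `W / f1 t`) -/
theorem Tv.smul_eq (h : Tv W t) {w : W} (hw : t • w ≠ w) : t • w = w + ctr W t := by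
  rw [h.ctr_eq hw]; abel
theorem Tv.ctr_ne (h : Tv W t) : ctr W t ≠ 0 := by
  obtain ⟨w, hw⟩ := h.exists_ne
  rw [h.ctr_eq hw]; exact sub_ne_zero.2 hw
theorem Tv.ctr_fix (h : Tv W t) : t • ctr W t = ctr W t := by
  obtain ⟨w, hw⟩ := h.exists_ne
  rw [h.ctr_eq hw]
  exact h.sub_fix (fun e => hw (smul_left_cancel t e)) hw
theorem Tv.ctr_two (h : Tv W t) : ctr W t + ctr W t = 0 := by
  obtain ⟨w, hw⟩ := h.exists_ne
  have := (h.add_iff w w).2 Iff.rfl
  rw [smul_add, h.smul_eq hw] at this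
  linear_combination (norm := abel) this
theorem Tv.cases (h : Tv W t) (w : W) : t • w = w ∨ t • w = w + ctr W t :=
  (eq_or_ne (t • w) w).imp_right h.smul_eq
theorem Tv.ne_one (h : Tv W t) : t ≠ 1 := by
  rintro rfl
  obtain ⟨w, hw⟩ := h.exists_ne
  exact hw (one_smul _ w)
theorem Tv.conj (h : Tv W t) (g : Γ) : Tv W (g * t * g⁻¹) := by
  have : f1 W (g * t * g⁻¹) = (f1 W t).comap (DistribSMul.toAddMonoidHom W g⁻¹) := by
    ext w
    rw [AddSubgroup.mem_comap, mem_f1, mem_f1, mul_smul, mul_smul, ← eq_inv_smul_iff]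
    rfl
  rw [Tv, this, AddSubgroup.index_comap_of_surjective _ fun w => ⟨g • w, inv_smul_smul g w⟩]
  exact h
theorem Tv.ctr_conj (h : Tv W t) (g : Γ) : ctr W (g * t * g⁻¹) = g • ctr W t := by
  obtain ⟨w, hw⟩ := h.exists_ne
  have e : (g * t * g⁻¹) • g • w = g • t • w := by rw [mul_smul, inv_smul_smul, mul_smul]
  rw [(h.conj g).ctr_eq (w := g • w) (by rw [e]; exact fun a => hw (smul_left_cancel g a)), e,
    h.ctr_eq hw, smul_sub]
theorem inv_TvS : Inv ⊤ (TvS Γ W) := by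
  rintro g - _ ⟨t, ht, rfl⟩
  exact ⟨_, ht.conj g, conj_zpowers g t⟩
theorem inv_NS : Inv ⊤ (NS Γ W) := by
  rintro g - A ⟨h1, h2, h3⟩
  have hi : Inv ⊤ (BoS W (⊥ : Subgroup Γ)) := fun x _ B hB =>
    Bo.conj hB (conj_eq_self_iff.1 (conj_eq_bot_iff.2 rfl))
  refine ⟨isPGroup_conj h1 g, fun h => h2 ?_, fun A₀ a b v hv => ?_⟩
  · rw [J_conj hi (mem_top g), le_bot_iff, conj_eq_bot_iff] at h
    exact h.le
  · have := h3 (g⁻¹ ⋆ A₀) (le_conj_iff_inv_conj_le.1 a)
      (by rw [← relIndex_conj g, conj_inv_conj]; exact b) (smul_mem_fx g⁻¹ hv)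
    simpa only [smul_inv_smul] using smul_mem_fx g this
theorem up_QT {f : Fr 2 Γ Ω} : Up f (QT W) :=
  ⟨fun _ _ _ _ h ⟨t, ht, a⟩ => ⟨t, h ht, a⟩,
    fun _ _ g _ ⟨_, ht, a⟩ => ⟨_, conj_mem_conj.2 ht, a.conj g⟩⟩
theorem SNP.np {A : Subgroup Γ} (h : SNP W A) : NP 2 (⊤ : AddSubgroup W) A := by
  intro A₀ h1 h2 v _ h3 h4 a ha _
  rw [Finset.sum_range_succ, Finset.sum_range_one, pow_zero, pow_one, one_smul,
    h A₀ h1 h2 h4 a ha, ← two_nsmul, h3]

variable [FaithfulSMul Γ W]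

theorem Tv.sq (h : Tv W t) : t * t = 1 := by
  refine eq_of_smul_eq_smul (α := W) fun w => ?_
  rw [mul_smul, one_smul]
  rcases h.cases w with e | e
  · rw [e, e]
  · rw [e, smul_add, e, h.ctr_fix, add_assoc, h.ctr_two, add_zero]
theorem Tv.inv_eq (h : Tv W t) : t⁻¹ = t := inv_eq_of_mul_eq_one_right h.sq
theorem Tv.ext (ha : Tv W a) (hb : Tv W b) (h1 : ctr W a = ctr W b) (h2 : f1 W a = f1 W b) :
    a = b := by
  refine eq_of_smul_eq_smul (α := W) fun w => ?_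
  have : a • w = w ↔ b • w = w := by rw [← mem_f1, ← mem_f1, h2]
  by_cases e : a • w = w
  · rw [e, this.1 e]
  · rw [ha.smul_eq e, hb.smul_eq fun c => e (this.2 c), h1]
theorem f1_ne_top {g : Γ} (hg : g ≠ 1) : f1 W g ≠ ⊤ := fun e =>
  hg (eq_of_smul_eq_smul (α := W) fun w => by
    rw [one_smul]; exact mem_f1.1 (e ▸ AddSubgroup.mem_top w))
/-- an element fixing a subgroup of index 2 pointwise is trivial or a transvection -/
theorem Tv.of_le (h : Tv W t) {g : Γ} (hg : g ≠ 1) (hle : f1 W t ≤ f1 W g) :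
    Tv W g ∧ f1 W g = f1 W t := by
  have : f1 W g = f1 W t := by
    refine le_antisymm (fun w hw => ?_) hle
    by_contra hc
    refine f1_ne_top (W := W) hg (eq_top_iff.2 fun v _ => ?_)
    by_cases hv : v ∈ f1 W t
    · exact hle hv
    · have := add_mem (hle (mem_f1.2 (h.sub_fix (mt mem_f1.2 hv) (mt mem_f1.2 hc)))) hw
      rwa [sub_add_cancel] at this
  exact ⟨by rw [Tv, this]; exact h, this⟩
theorem Tv.comm_iff (ha : Tv W a) (hb : Tv W b) :
    a * b = b * a ↔ ¬ Bb W a b ∧ ¬ Bb W b a := by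
  simp only [Bb, not_not]
  refine ⟨fun h => ⟨?_, ?_⟩, fun ⟨h1, h2⟩ => eq_of_smul_eq_smul (α := W) fun w => ?_⟩
  · rw [← hb.ctr_conj, h, mul_inv_cancel_right]
  · rw [← ha.ctr_conj, ← h, mul_inv_cancel_right]
  · rcases ha.cases w with e | e <;> rcases hb.cases w with e' | e' <;>
      simp only [mul_smul, smul_add, e, e', h1, h2]
    abel
theorem Tv.braid (ha : Tv W a) (hb : Tv W b) (h1 : Bb W a b) (h2 : Bb W b a) :
    a * b * a = b * a * b := by
  have k1 := ha.smul_eq h1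
  have k2 := hb.smul_eq h2
  have a2 := ha.ctr_two
  have b2 := hb.ctr_two
  refine eq_of_smul_eq_smul (α := W) fun w => ?_
  rcases ha.cases w with e | e <;> rcases hb.cases w with e' | e' <;>
    simp only [mul_smul, smul_add, e, e', k1, k2, ha.ctr_fix, hb.ctr_fix]
  · linear_combination (norm := abel) -b2
  · linear_combination (norm := abel) a2
  · linear_combination (norm := abel) a2 - b2
theorem Tv.not_Bb (ha : Tv W a) : ¬ Bb W a a := fun h => h ha.ctr_fix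
/-- `a * b` has order 3 -/
theorem Tv.not_pgroup (ha : Tv W a) (hb : Tv W b) (h1 : Bb W a b) (h2 : Bb W b a)
    {P : Subgroup Γ} (hP : IsPGroup 2 P) (haP : a ∈ P) (hbP : b ∈ P) : False := by
  have h3 : (a * b) ^ 3 = 1 := by
    calc (a * b) ^ 3 = (a * b * a) * (b * a * b) := by simp only [pow_succ, pow_zero, one_mul, mul_assoc]
      _ = a * (b * (a * a) * b) * a := by rw [← ha.braid hb h1 h2]; simp only [mul_assoc]
      _ = 1 := by rw [ha.sq, mul_one, hb.sq, mul_one, ha.sq]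
  obtain ⟨k, hk⟩ := hP ⟨a * b, mul_mem haP hbP⟩
  have h4 : (a * b) ^ 2 ^ k = 1 := congrArg Subtype.val hk
  have h5 : orderOf (a * b) = 1 := Nat.eq_one_of_dvd_coprimes
    (Nat.Coprime.pow_right k (by norm_num : Nat.Coprime 3 2)) (orderOf_dvd_of_pow_eq_one h3)
    (orderOf_dvd_of_pow_eq_one h4)
  have h6 : a = b := by
    rw [← hb.inv_eq]; exact eq_inv_of_mul_eq_one_left (orderOf_eq_one_iff.1 h5)
  subst h6
  exact ha.not_Bb h1
theorem Tv.comm_eq (ha : Tv W a) (hb : Tv W b) : ⁅a, b⁆ = a * b * a * b := by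
  rw [commutatorElement_def, ha.inv_eq, hb.inv_eq]
theorem Tv.asym (ha : Tv W a) (hb : Tv W b) (h1 : Bb W a b) (h2 : ¬ Bb W b a) :
    Tv W ⁅a, b⁆ ∧ ctr W ⁅a, b⁆ = ctr W a ∧ f1 W ⁅a, b⁆ = f1 W b ∧ ⁅a, b⁆ ≠ b := by
  have k1 := ha.smul_eq h1
  have k2 : b • ctr W a = ctr W a := not_not.1 h2
  have a2 := ha.ctr_two
  have b2 := hb.ctr_two
  have e1 : ∀ w : W, b • w = w → ⁅a, b⁆ • w = w := fun w e' => by
    rcases ha.cases w with e | e <;>
      simp only [ha.comm_eq hb, mul_smul, smul_add, e, e', k2, ha.ctr_fix]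
    linear_combination (norm := abel) a2
  have e2 : ∀ w : W, b • w ≠ w → ⁅a, b⁆ • w = w + ctr W a := fun w e' => by
    replace e' := hb.smul_eq e'
    rcases ha.cases w with e | e <;>
      simp only [ha.comm_eq hb, mul_smul, smul_add, e, e', k1, k2, ha.ctr_fix, hb.ctr_fix]
    · linear_combination (norm := abel) a2 + b2
    · linear_combination (norm := abel) a2 + a2 + b2
  have e3 : ∀ w : W, b • w ≠ w → ⁅a, b⁆ • w ≠ w := fun w e' c => by
    rw [e2 w e'] at c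
    exact ha.ctr_ne (add_eq_left.1 c)
  have e4 : f1 W ⁅a, b⁆ = f1 W b := by
    ext w
    rw [mem_f1, mem_f1]
    exact ⟨fun c => by_contra fun d => e3 w d c, e1 w⟩
  have e5 : Tv W ⁅a, b⁆ := by rw [Tv, e4]; exact hb
  have e6 : ctr W ⁅a, b⁆ = ctr W a := by
    obtain ⟨w, hw⟩ := hb.exists_ne
    rw [e5.ctr_eq (e3 w hw), e2 w hw]; abel
  refine ⟨e5, e6, e4, fun c => h1 ?_⟩
  rw [c] at e6
  rw [e6, ha.ctr_fix]
theorem Tv.mul_of_ctr (ha : Tv W a) (hb : Tv W b) (hne : a ≠ b) (h : ctr W a = ctr W b) :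
    Tv W (a * b) ∧ ctr W (a * b) = ctr W a ∧
      ∀ w : W, ((a * b) • w = w ↔ (a • w = w ↔ b • w = w)) := by
  have a2 := ha.ctr_two
  have e1 : ∀ w : W, ¬ (a • w = w ↔ b • w = w) → (a * b) • w = w + ctr W a := fun w hw => by
    by_cases e : a • w = w
    · rw [mul_smul, hb.smul_eq fun c => hw (iff_of_true e c), ← h, smul_add, e, ha.ctr_fix]
    · have : b • w = w := by_contra fun c => hw (iff_of_false e c)
      rw [mul_smul, this, ha.smul_eq e]
  have e2 : ∀ w : W, ((a * b) • w = w ↔ (a • w = w ↔ b • w = w)) := fun w => by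
    refine ⟨fun c => by_contra fun d => ?_, fun c => ?_⟩
    · rw [e1 w d] at c
      exact ha.ctr_ne (add_eq_left.1 c)
    · by_cases e : a • w = w
      · rw [mul_smul, c.1 e, e]
      · rw [mul_smul, hb.smul_eq fun d => e (c.2 d), ← h, smul_add, ha.smul_eq e, ha.ctr_fix,
          add_assoc, a2, add_zero]
  obtain ⟨w, hw⟩ : ∃ w : W, ¬ (a • w = w ↔ b • w = w) := by
    by_contra hc
    push Not at hc
    exact hne (ha.ext hb h (by ext w; rw [mem_f1, mem_f1]; exact hc w))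
  have e3 : Tv W (a * b) := by
    refine AddSubgroup.index_eq_two_iff.2 ⟨w, fun v => ?_⟩
    rw [mem_f1, mem_f1, e2, e2, ha.add_iff, hb.add_iff, xor_iff_not_iff]
    tauto
  refine ⟨e3, ?_, e2⟩
  rw [e3.ctr_eq (mt (e2 w).1 hw), e1 w hw]; abel
theorem pgroup_zpowers {x : Γ} {k : ℕ} (h : x ^ 2 ^ k = 1) : IsPGroup 2 ↥(zpowers x) := by
  rintro ⟨_, n, rfl⟩
  refine ⟨k, Subtype.ext ?_⟩
  change (x ^ n) ^ 2 ^ k = 1
  rw [← zpow_natCast, ← zpow_mul, mul_comm, zpow_mul, zpow_natCast, h, one_zpow]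
theorem Tv.pow_four (ha : Tv W a) (hb : Tv W b) (h2 : ¬ Bb W b a) : (a * b) ^ 2 ^ 2 = 1 := by
  have : ⁅a, b⁆ * ⁅a, b⁆ = 1 := by
    by_cases h1 : Bb W a b
    · exact (ha.asym hb h1 h2).1.sq
    · rw [commutatorElement_eq_one_iff_mul_comm.2 ((ha.comm_iff hb).2 ⟨h1, h2⟩), mul_one]
  rw [← this, ha.comm_eq hb, show 2 ^ 2 = 4 by rfl]
  simp only [pow_succ, pow_zero, one_mul, mul_assoc]
/-- `(a * b) ^ 4 = 1`; the group is dihedral of order dividing 8 -/
theorem Tv.pgroup (ha : Tv W a) (hb : Tv W b) (h : ¬ (Bb W a b ∧ Bb W b a)) :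
    IsPGroup 2 ↥(zpowers a ⊔ zpowers b) := by
  have hi : (a * b)⁻¹ = b * a := by rw [mul_inv_rev, ha.inv_eq, hb.inv_eq]
  have h4 : (a * b) ^ 2 ^ 2 = 1 := by
    by_cases h2 : Bb W b a
    · have := hb.pow_four ha fun h1 => h ⟨h1, h2⟩
      rwa [← hi, inv_pow, inv_eq_one] at this
    · exact ha.pow_four hb h2
  have hn : zpowers a ≤ normalizer ((zpowers (a * b) : Subgroup Γ) : Set Γ) := by
    rw [zpowers_le, ← conj_eq_self_iff, conj_zpowers, ← zpowers_inv (g := a * b), hi, ha.inv_eq,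
      ← mul_assoc, ha.sq, one_mul]
  have := (pgroup_zpowers (x := a) (k := 1) (by rw [pow_one, pow_two, ha.sq])).to_sup_of_normal_right'
    (pgroup_zpowers h4) hn
  refine this.to_le (sup_le le_sup_left (zpowers_le.2 ?_))
  have e : a * (a * b) ∈ zpowers a ⊔ zpowers (a * b) :=
    mul_mem (mem_sup_left (mem_zpowers a)) (mem_sup_right (mem_zpowers _))
  rwa [← mul_assoc, ha.sq, one_mul] at e
/-- Baer–Suzuki (`Cfsg.Lib.PLocal.le_pCore_of_forall_isPGroup_sup_conj`) and `Tv.pgroup` -/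
theorem Tv.bs [Finite Γ] (hO : O2 Γ) (h : Tv W t) :
    ∃ g : Γ, Bb W t (g * t * g⁻¹) ∧ Bb W (g * t * g⁻¹) t := by
  by_contra hc
  have := Cfsg.Lib.PLocal.le_pCore_of_forall_isPGroup_sup_conj (p := 2) (X := zpowers t) fun g => by
    rw [conj_zpowers]
    exact h.pgroup (h.conj g) fun a => hc ⟨g, a⟩
  rw [hO _ inferInstance (Cfsg.Lib.Core.pCore_isPGroup 2 Γ), zpowers_le, mem_bot] at this
  exact h.ne_one this
/-- `symm` from `asym`; `inj`: if `a ≠ b` have the same centre, `c = a * b` and `s` from `bs` moves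
it, so `a`, `b`, `c` all move `ctr s`, against `mul_of_ctr`. -/
theorem sy_of [Finite Γ] (hO : O2 Γ) (h : ¬ ∃ a b : Γ, CAx W a b) : Sy Γ W := by
  have hs : ∀ a b : Γ, Tv W a → Tv W b → Bb W a b → Bb W b a := fun a b ha hb h1 => by
    by_contra h2
    obtain ⟨e1, -, e3, e4⟩ := ha.asym hb h1 h2
    exact h ⟨_, _, e1, hb, e4, e3⟩
  refine ⟨hs, fun a b ha hb e => by_contra fun hne => ?_, fun a ha => ?_⟩
  · obtain ⟨e1, e2, e3⟩ := ha.mul_of_ctr hb hne e
    obtain ⟨g, g1, g2⟩ := e1.bs hO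
    have hs' := e1.conj g
    have k1 : Bb W (g * (a * b) * g⁻¹) a := by rw [Bb, ← e2]; exact g2
    have k2 : Bb W (g * (a * b) * g⁻¹) b := by rw [Bb, ← e, ← e2]; exact g2
    exact g1 ((e3 _).2 (iff_of_false (hs _ _ hs' ha k1) (hs _ _ hs' hb k2)))
  · obtain ⟨g, -, g2⟩ := ha.bs hO
    exact ⟨_, ha.conj g, g2⟩
theorem Sy.comm (hs : Sy Γ W) (ha : Tv W a) (hb : Tv W b) {P : Subgroup Γ} (hP : IsPGroup 2 P)
    (haP : a ∈ P) (hbP : b ∈ P) : a * b = b * a :=
  (ha.comm_iff hb).2 ⟨fun h => ha.not_pgroup hb h (hs.symm a b ha hb h) hP haP hbP,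
    fun h => ha.not_pgroup hb (hs.symm b a hb ha h) h hP haP hbP⟩
theorem Tv.orderOf_eq (h : Tv W t) : orderOf t = 2 :=
  orderOf_eq_prime (by rw [pow_two, h.sq]) h.ne_one
theorem Tv.card_zpowers (h : Tv W t) : Nat.card (zpowers t) = 2 := by
  rw [Nat.card_zpowers, h.orderOf_eq]
theorem Tv.mem_zpowers_iff' (h : Tv W t) {x : Γ} : x ∈ zpowers t ↔ x = 1 ∨ x = t := by
  refine ⟨?_, fun a => a.elim (· ▸ one_mem _) (· ▸ mem_zpowers t)⟩
  rintro ⟨n, rfl⟩
  have h2 : t ^ (2 : ℤ) = 1 := by rw [zpow_two, h.sq]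
  rcases Int.even_or_odd' n with ⟨m, rfl | rfl⟩
  · left; simp only [zpow_mul, h2, one_zpow]
  · right; simp only [zpow_add, zpow_mul, h2, one_zpow, one_mul, zpow_one]
theorem fx_bot : fx W (⊥ : Subgroup Γ) = ⊤ :=
  eq_top_iff.2 fun v _ g hg => by rw [mem_bot.1 hg, one_smul]
theorem Tv.bo [Finite W] (h : Tv W t) : Bo W ⊥ (zpowers t) := by
  refine ⟨bot_le, fun x hx y hy v _ => ?_, fun B _ hB => ?_⟩
  · rcases h.mem_zpowers_iff'.1 hx with rfl | rfl <;> rcases h.mem_zpowers_iff'.1 hy with rfl | rfl <;>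
      simp only [one_smul]
  · by_cases e : t ∈ B
    · rw [le_antisymm hB (zpowers_le.2 e)]
    · have : B = ⊥ := eq_bot_iff.2 fun x hx => (h.mem_zpowers_iff'.1 (hB hx)).elim mem_bot.2
        fun c => absurd (c ▸ hx) e
      rw [this, fx_bot, h.card_zpowers, card_bot, one_mul, AddSubgroup.card_top,
        ← (f1 W t).card_mul_index, h, mul_comm]
      rfl
theorem QT.q0 [Finite W] {P : Subgroup Γ} (h : QT W P) : Q0 W ⊥ P := by
  obtain ⟨t, ht, a⟩ := h
  exact fun c => a.ne_one (mem_bot.1 (c (le_J (𝒜 := BoS W ⊥) a.bo (zpowers_le.2 ht) (mem_zpowers t))))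
/-- order 2: `|W| ≤ 2 |fx B|`; order `≥ 4`: `MBo.fx_eq` -/
theorem MBo.cases [Finite Γ] [Finite W] (hD : PT 2 W) {B : Subgroup Γ} (h : MBo W ⊥ B)
    (hB : IsPGroup 2 B) : B ∈ TvS Γ W ∨ (4 ≤ Nat.card B ∧ B ∈ NS Γ W) := by
  obtain ⟨n, hn⟩ := hB.exists_card_eq
  rcases n with _ | _ | n
  · exact absurd (card_eq_one.1 (by simpa using hn)) h.2.1
  · left
    obtain ⟨⟨t, ht⟩, h1⟩ := (nontrivial_iff_exists_ne (1 : B)).1 ((nontrivial_iff_ne_bot B).2 h.2.1)
    have h2 : t ≠ 1 := fun c => h1 (Subtype.ext c)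
    have h3 : zpowers t = B := by
      refine eq_of_le_of_card_ge (zpowers_le.2 ht) ?_
      rw [hn, Nat.card_zpowers]
      have := orderOf_pos t
      have := mt orderOf_eq_one_iff.1 h2
      omega
    refine ⟨t, ?_, h3.symm⟩
    have h4 := h.1.best ⊥ le_rfl bot_le
    rw [fx_bot, card_bot, one_mul, AddSubgroup.card_top, hn, ← (f1 W t).card_mul_index, ← h3,
      mul_comm] at h4
    have h5 : (f1 W t).index ≤ 2 := Nat.le_of_mul_le_mul_right h4 Nat.card_pos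
    have h6 : (f1 W t).index ≠ 0 := AddSubgroup.index_ne_zero_of_finite
    have h7 := mt AddSubgroup.index_eq_one.1 (f1_ne_top (W := W) h2)
    unfold Tv
    omega
  · right
    have h4 : 4 ≤ Nat.card B := by
      rw [hn, pow_succ, pow_succ]
      have := Nat.one_le_two_pow (n := n)
      omega
    refine ⟨h4, hB, h.q0 le_rfl, fun A h1 h2 => (h.fx_eq hD (bot_lt_iff_ne_bot.2 ?_) h1 h2).le⟩
    rintro rfl
    rw [relIndex_bot_left] at h2
    omega

end Cfsg.Lib.LK
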