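import Cfsg.Agent.Lib.LK.GL2
import Cfsg.Agent.Lib.LK.Ext
import Cfsg.Agent.Lib.LK.Easy

set_option autoImplicit false

namespace Cfsg.Lib.LK

open Subgroup Cfsg.Lib.Transfer Cfsg.Lib.Fusion
open scoped commutatorElement

variable {p : ℕ}

variable {Ω Ω' : Type*} [Group Ω] [Group Ω'] {S : Subgroup Ω} {S' : Subgroup Ω'}
  {F : FusionSystem S} {E : FusionSystem S'}

/-- `E` realized by `ι' : S' →* Gb`; `θ' = ι' ∘ θ : S →* Gb`; `hst` from a map of `F` over the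
conjugation (`Fac.up`); `exists_ext` gives `G`, `j`; `exists_fac` (trivial kernel) transports `F` to
`F'` over `j.range`; `Ov p F' π.ker`; `Ov.real`; compose with `j`; `isRealizable_of`. -/
theorem real_up [Finite S] [Fact p.Prime] (hF : Sat F p) {A : Subgroup Ω} (hA : F.IsCentral A)
    (θ : S →* Ω') (hE : F.IsFactorSystem A θ E) (h : E.IsRealizable p) : F.IsRealizable p := by
  obtain ⟨Gb, _, _, ι', h, T, hT⟩ := h
  have hq := isFactorSystem_iff.1 hE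
  have hsc := stronglyClosed_of_central hA
  let θ' : S →* Gb := ι'.comp (θ.codRestrict S' fun s => hE.2.2.1 ▸ ⟨s, rfl⟩)
  have e : ∀ x ∈ S, fn ι' (fn θ x) = fn θ' x := fun x hx => by
    rw [fn_apply θ hx, fn_apply θ' hx, fn_apply ι' (hE.2.2.1 ▸ ⟨_, rfl⟩)]; rfl
  have hr : θ'.range = ι'.range := by
    refine le_antisymm (by rintro _ ⟨s, rfl⟩; exact ⟨_, rfl⟩) ?_
    rintro _ ⟨y, rfl⟩
    obtain ⟨s, hs⟩ := hE.2.2.1.ge y.2
    exact ⟨s, congrArg ι' (Subtype.ext hs)⟩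
  have hk : ∀ s, s ∈ θ'.ker ↔ (s : Ω) ∈ A := fun s =>
    ((map_eq_one_iff ι' h.1).trans Subtype.ext_iff).trans (hE.2.1 s)
  obtain ⟨G, _, _, π, j, h1, h2, h3, h4, h5⟩ := exists_ext θ' hF.pg (hr ▸ hT ▸ T.not_dvd_index)
    (fun a ha => mem_center_iff.2 fun s => Subtype.ext (mul_inv_eq_iff_eq_mul.1
      (ez_fix hA (mor_conj F hA.1 s.2) ((hk a).1 ha) ((hk a).1 ha)))) fun g => by
      obtain ⟨f', a1, a2⟩ := ez_mor h ((homOn_fn ι').pre_le (g⁻¹ ⋆ ι'.range)) (g := g) fun y hy => by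
        simpa using mem_conj.1 hy.2
      obtain ⟨f, b1, b2⟩ := hq.up a1
      have m : ∀ x : S, g * θ' x * g⁻¹ ∈ θ'.range → x.1 ∈ hq.hom.pre ((homOn_fn ι').pre (g⁻¹ ⋆ ι'.range)) :=
        fun x hx => ⟨x.2, hq.mem x.2, mem_conj.2 (by rwa [e _ x.2, fn_coe, inv_inv, ← hr])⟩
      classical
      refine ⟨fun x => if hx : g * θ' x * g⁻¹ ∈ θ'.range then ⟨f x, b1.mem (m x hx)⟩ else 1, fun x y hx hy => ?_,
        fun x hx => ?_, fun a ha => ?_⟩
      · beta_reduce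
        rw [dif_pos hx, dif_pos hy, dif_pos (by
          convert mul_mem hx hy using 1; rw [map_mul]; group)]
        exact Subtype.ext (b1.homOn _ (m x hx) _ (m y hy))
      · beta_reduce
        rw [dif_pos hx, ← fn_apply θ', ← e _ (b1.mem (m x hx)), ← b2 _ (m x hx), a2 _ (m x hx).2, e _ x.2, fn_coe]
      · have : g * θ' a * g⁻¹ ∈ θ'.range := by rw [show θ' a = 1 from ha]; simp
        beta_reduce
        rw [dif_pos this]
        exact Subtype.ext (ez_fix hA b1 (m a this) ((hk a).1 ha))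
  obtain ⟨F', hj⟩ := exists_fac (stronglyClosed_bot F) (homOn_fn j) (fun x hx => by
    rw [fn_apply j hx, map_eq_one_iff j h2, mem_bot, Subtype.ext_iff]; rfl) (im_fn j)
  have e3 : ∀ x ∈ S, π (fn j x) = fn ι' (fn θ x) := fun x hx => by rw [e x hx, fn_apply j hx, h3, fn_apply θ' hx]
  have hc : j.range = θ'.range.comap π := by
    refine le_antisymm (by rintro _ ⟨s, rfl⟩; exact ⟨s, (h3 s).symm⟩) fun g ⟨s, hs⟩ => ?_
    have : (j s)⁻¹ * g ∈ π.ker := by rw [MonoidHom.mem_ker, map_mul, map_inv, h3, hs, inv_mul_cancel]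
    have := mul_mem (show j s ∈ j.range from ⟨s, rfl⟩) (map_le_range _ _ (h4 ▸ this))
    rwa [mul_inv_cancel_left] at this
  have hA' : im (fn j) A = π.ker := by
    rw [im_fn_of_le j hA.1, h4]
    exact congrArg _ (Subgroup.ext fun s => (hk s).symm)
  have dn : ∀ {P f}, Mor F P f → ∃ f', Mor F' (im (fn j) P) f' ∧ ∀ x ∈ P, f' (fn j x) = fn j (f x) :=
    fun hf => hj.down_of_le (stronglyClosed_bot F) hf bot_le
  have : Finite j.range := inferInstance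
  obtain ⟨α, hα, hr'⟩ := Ov.real (p := p) (F := F') (A := π.ker)
    { sat := hj.sat (stronglyClosed_bot F) hF
      syl := ⟨le_top, hj.isPGroup hF.pg, by
        rw [relIndex_top_right, hc, index_comap_of_surjective _ h1, hr, ← hT]; exact T.not_dvd_index⟩
      le := h4 ▸ map_le_range _ _
      cen := h5
      fix := fun P φ hφ a ha ha' => by
        obtain ⟨f, b1, b2⟩ := hj.up hφ
        obtain ⟨x, hx, rfl⟩ := (hj.hom.mono hA.1).mem_im.1 (hA'.ge ha')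
        rw [b2 x ⟨hA.1 hx, ha⟩, ez_fix hA b1 ⟨hA.1 hx, ha⟩ hx]
      ext := fun P φ hφ => by
        obtain ⟨f, b1, b2⟩ := hj.up hφ
        obtain ⟨g, c1, c2, -⟩ := b1.ext_central hA
        obtain ⟨g', d1, d2⟩ := dn c1
        rw [(hj.hom.mono c1.le).im_sup, hj.im_pre hφ.le, hA'] at d1
        refine ⟨g', d1, fun y hy => ?_⟩
        obtain ⟨x, hx, rfl⟩ := hj.exists_eq (hφ.le hy)
        rw [d2 x (mem_sup_left ⟨hx, hy⟩), b2 x ⟨hx, hy⟩, c2 x ⟨hx, hy⟩]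
      up := fun g P hP hg => by
        obtain ⟨f', a1, a2⟩ := ez_mor h (hq.im_le (hj.hom.pre_le P)) (g := π g) fun y hy => by
          obtain ⟨x, hx, rfl⟩ := (hq.hom.mono (hj.hom.pre_le P)).mem_im.1 hy
          rw [← e3 x hx.1, ← map_inv, ← map_mul, ← map_mul, ← hr]
          exact hc.le (conj_le_iff.1 hg _ hx.2)
        obtain ⟨f, b1, b2⟩ := hq.up' (hj.hom.pre_le P) a1
        obtain ⟨φ, d1, d2⟩ := dn (b1.mono le_sup_left)
        rw [hj.im_pre hP] at d1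
        refine ⟨φ, d1, fun y hy => ?_⟩
        obtain ⟨x, hx, rfl⟩ := hj.exists_eq (hP hy)
        have hx' : x ∈ hj.hom.pre P ⊔ A := mem_sup_left ⟨hx, hy⟩
        rw [MonoidHom.mem_ker, map_mul, map_inv, d2 x ⟨hx, hy⟩, e3 _ (b1.mem hx'), ← b2 x hx',
          a2 _ (mem_im_of_mem _ ⟨hx, hy⟩), map_mul, map_mul, map_inv, e3 x hx, inv_mul_cancel]
      down := fun P φ hφ => by
        obtain ⟨f, b1, b2⟩ := hj.up hφ
        obtain ⟨f', a1, a2⟩ := (hq.mph hsc hF).down b1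
        obtain ⟨g, hg⟩ := ez_conj h a1
        obtain ⟨g, rfl⟩ := h1 g
        refine ⟨g, fun y hy => ?_⟩
        obtain ⟨x, hx, rfl⟩ := hj.exists_eq (hφ.le hy)
        rw [MonoidHom.mem_ker, map_mul, map_inv, b2 x ⟨hx, hy⟩, e3 _ (b1.mem ⟨hx, hy⟩), ← a2 x ⟨hx, hy⟩,
          hg _ (mem_im_of_mem _ ⟨hx, hy⟩), map_mul, map_mul, map_inv, e3 x hx, inv_mul_cancel] }
  have e4 : ∀ x ∈ S, fn (α.comp j.rangeRestrict) x = fn α (fn j x) := fun x hx => by
    rw [fn_apply _ hx, fn_apply j hx, fn_apply α ⟨_, rfl⟩]; rfl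
  have hr2 : (α.comp j.rangeRestrict).range = j.range := by
    rw [MonoidHom.range_comp, MonoidHom.range_eq_top.2 j.rangeRestrict_surjective, ← MonoidHom.range_eq_map, hr']
  refine isRealizable_of (α.comp j.rangeRestrict) (ez_iff.2 ⟨hα.1.comp (j.rangeRestrict_injective_iff.2 h2),
    fun P f hP _ hf => ⟨fun b1 => ?_, fun ⟨g, hg⟩ => ?_⟩⟩) (by rw [hr2]; exact hj.isPGroup hF.pg) (by
      rw [hr2, hc, index_comap_of_surjective _ h1, hr, ← hT]; exact T.not_dvd_index)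
  · obtain ⟨f', a1, a2⟩ := dn b1
    obtain ⟨g, hg⟩ := ez_conj hα a1
    exact ⟨g, fun x hx => by rw [e4 _ (hf x hx), e4 _ (hP hx), ← a2 x hx, hg _ (mem_im_of_mem _ hx)]⟩
  · obtain ⟨f', a1, a2⟩ := ez_mor hα (hj.im_le hP) (g := g) fun y hy => by
      obtain ⟨x, hx, rfl⟩ := (hj.hom.mono hP).mem_im.1 hy
      rw [← e4 _ (hP hx), ← hg x hx, e4 _ (hf x hx), fn_apply α (hj.mem (hf x hx))]
      exact ⟨_, rfl⟩
    obtain ⟨f0, b1, b2⟩ := hj.up' hP a1
    rw [sup_bot_eq] at b1 b2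
    refine b1.congr fun x hx => injOn_fn h2 (hf x hx) (b1.mem hx) (injOn_fn hα.1 (hj.mem (hf x hx))
      (hj.mem (b1.mem hx)) ?_)
    rw [← b2 x hx, a2 _ (mem_im_of_mem _ hx), ← e4 _ (hf x hx), ← e4 _ (hP hx), hg x hx]

end Cfsg.Lib.LK
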